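import Cfsg.Agent.ChevGroup.Mat.Inst

/-!
The relations needed by the engine, from the certificates of `ChevCore`; the consequences of the
commutator formula for commuting root elements.
-/

set_option autoImplicit false

namespace Cfsg.Agent.Chev54

open Cfsg.Lie ChevGroup Cfsg.Agent.ChevCore Matrix

variable {D : ChevalleyDatum} (hC : CommGood D) (F : Type*) [Field F]

include hC

/-- The relations of a good datum. -/
noncomputable abbrev rels : Rels D F := relsOfCommGood hC F

/-- A positive root commutes with `r` as soon as all coefficients of the commutator word vanish. -/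
lemma x_comm_of_terms {r s : ℕ} (hr : r < D.nroots) (hs : s < D.nroots) (h2 : s ≠ D.neg r)
    (h0 : ∀ c ∈ D.commTerms r s, ((c.2.1 : ℤ) : F) = 0) (t u : F) :
    D.x F s u * D.x F r t = D.x F r t * D.x F s u := by
  have hG := hC.toGood
  by_cases h1 : s = r
  · subst h1
    rw [hG.x_mul, hG.x_mul, add_comm]
  have h := hC.xg_comm hr hs h1 h2 t u
  have hw : wordG D F (D.commWord F r s t u) = 1 := by
    refine List.prod_eq_one fun g hg => ?_
    obtain ⟨p, hp, rfl⟩ := List.mem_map.1 hg
    obtain ⟨c, hc, rfl⟩ := List.mem_map.1 hp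
    simp only [h0 c hc, zero_mul]
    exact hG.xg_zero _
  rw [hw, mul_one] at h
  have h' := congrArg Units.val h
  rwa [Units.val_mul, Units.val_mul, hG.val_xg, hG.val_xg] at h'

omit hC in
/-- All commutator coefficients of the positive roots with `r` are even. -/
def evenCommB (D : ChevalleyDatum) (r : ℕ) : Bool :=
  (List.range D.nroots).all fun s => !decide (D.nroots ≤ 2 * s) ||
    (decide (s ≠ D.neg r) && (D.commTerms r s).all fun c => decide ((2 : ℤ) ∣ c.2.1))

lemma x_comm_pos [CharP F 2] (T : Model D) {r : ℕ} (hr : r < D.nroots) (hB : evenCommB D r = true)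
    (s : ℕ) (hs : D.IsPosRoot s) (t u : F) : D.x F s u * D.x F r t = D.x F r t * D.x F s u := by
  simp only [evenCommB, List.all_eq_true, List.mem_range, Bool.or_eq_true, Bool.and_eq_true,
    Bool.not_eq_true', decide_eq_false_iff_not, decide_eq_true_eq] at hB
  rcases hB s hs.1 with h | ⟨h2, h0⟩
  · exact absurd ((T.pos_iff hs.1).1 hs) h
  · exact x_comm_of_terms hC F hr hs.1 h2 (fun c hc =>
      (CharP.intCast_eq_zero_iff F 2 _).2 (h0 c hc)) t u

end Cfsg.Agent.Chev54
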