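import Cfsg.Agent.Chev54.Layer

/-!
A subgroup of the unipotent group normalised by the torus and the unipotent group is the product of the
root subgroups it contains, when the torus separates the roots.
-/

set_option autoImplicit false

namespace Cfsg.Agent.Chev54

open Cfsg.Lie Cfsg.Agent.ChevCore

variable {D : ChevalleyDatum} {F : Type*} [Field F]

/-- `r` is a positive root whose root subgroup lies in `X`. -/
def InT (X : Subgroup (GL D.Idx F)) (r : ℕ) : Prop :=
  r < D.nroots ∧ 1 ≤ ht D r ∧ ∀ t, xg D F r t ∈ X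

/-- An element of the torus fixes the root `s` and moves the root `r`. -/
def Sep (F : Type*) [Field F] (D : ChevalleyDatum) (r s : ℕ) : Prop :=
  ∃ (h : GL D.Idx F) (a : ℕ → F), h ∈ D.diagonalSubgroup F ∧ ScalesAll h a ∧ a s = 1 ∧ a r ≠ 1

/-- A subgroup of `U` normalised by `U` and `H`. -/
structure Normed (X : Subgroup (GL D.Idx F)) : Prop where
  le : X ≤ XS D F (htGe D 1)
  conjH : ∀ h ∈ D.diagonalSubgroup F, ∀ x ∈ X, h * x * h⁻¹ ∈ X
  conjU : ∀ u ∈ XS D F (htGe D 1), ∀ x ∈ X, u * x * u⁻¹ ∈ X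

variable (hU : UGood D) {X : Subgroup (GL D.Idx F)} (hX : Normed X)
include hU

lemma scalesAll_hg {p : ℕ} (hp : p < D.nroots) {c : F} (hc : c ≠ 0) :
    ScalesAll (hg D F p c) (fun s => c ^ D.pairing p s) := fun _ hs t =>
  hU.toCommGood.toGood.hg_conj_x hp hs hc t

include hX

/-- Clearing the coordinates of a list of roots in a layer. -/
lemma clear_layer {m : ℤ} (hm : 1 ≤ m) {r : ℕ} {x : GL D.Idx F} {d : ℕ → F} (hx : x ∈ X)
    (hd : Vec m x d) (hr : d r ≠ 0) (l : List ℕ)
    (hl : ∀ s ∈ l, s < D.nroots → ht D s = m → s ≠ r → Sep F D r s ∨ InT X s) :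
    ∃ y ∈ X, ∃ e, Vec m y e ∧ e r ≠ 0 ∧ ∀ s ∈ l, s ≠ r → e s = 0 := by
  induction l with
  | nil => exact ⟨x, hx, d, hd, hr, by simp⟩
  | cons s l ih =>
    obtain ⟨y, hy, e, he, her, hel⟩ := ih fun s' hs' => hl s' (List.mem_cons_of_mem _ hs')
    by_cases hes : e s = 0
    · refine ⟨y, hy, e, he, her, fun s' hs' hne => ?_⟩
      rcases List.mem_cons.1 hs' with rfl | h
      · exact hes
      · exact hel s' h hne
    by_cases hsr : s = r
    · refine ⟨y, hy, e, he, her, fun s' hs' hne => ?_⟩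
      rcases List.mem_cons.1 hs' with rfl | h
      · exact absurd hsr hne
      · exact hel s' h hne
    obtain ⟨hsn, hsm⟩ := he.1 s hes
    rcases hl s (List.mem_cons_self ..) hsn hsm hsr with ⟨h, a, hh, ha, has, har⟩ | hT
    · refine ⟨h * y * h⁻¹ * y⁻¹, mul_mem (hX.conjH h hh y hy) (inv_mem hy), a * e + -e,
        (he.scale hU ha).mul hU hm (he.inv hU hm), ?_, fun s' hs' hne => ?_⟩
      · show a r * e r + -e r ≠ 0
        rw [show a r * e r + -e r = (a r - 1) * e r by ring]
        exact mul_ne_zero (sub_ne_zero.2 har) her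
      · show a s' * e s' + -e s' = 0
        rcases List.mem_cons.1 hs' with rfl | h'
        · rw [has, one_mul, add_neg_cancel]
        · rw [hel s' h' hne]; simp
    · have hv := he.mul hU hm (hsm ▸ vec_xg hU hsn (by omega) (-(e s)))
      refine ⟨y * xg D F s (-(e s)), mul_mem hy (hT.2.2 _), _, hv, ?_, fun s' hs' hne => ?_⟩
      · simpa [Pi.single_eq_of_ne (Ne.symm hsr)] using her
      · rcases List.mem_cons.1 hs' with rfl | h'
        · simp
        · by_cases e' : s' = s
          · subst e'; simp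
          · simp [Pi.single_eq_of_ne e', hel s' h' hne]

/-- Clearing the coordinates of a list of roots in a layer above the root `r`. -/
lemma clear_above {r : ℕ} (hrn : r < D.nroots) (hr1 : 1 ≤ ht D r) {j : ℤ} (hj : 1 ≤ j) {t : F}
    {z : GL D.Idx F} {d : ℕ → F} (hx : xg D F r t * z ∈ X) (ht0 : t ≠ 0) (hd : Vec j z d) (l : List ℕ)
    (hl : ∀ s ∈ l, s < D.nroots → ht D s = j → Sep F D r s ∨ InT X s) :
    ∃ t', t' ≠ 0 ∧ ∃ z' e, xg D F r t' * z' ∈ X ∧ Vec j z' e ∧ ∀ s ∈ l, e s = 0 := by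
  have hG := hU.toCommGood.toGood
  induction l with
  | nil => exact ⟨t, ht0, z, d, hx, hd, by simp⟩
  | cons s l ih =>
    obtain ⟨t', ht', z', e, hx', he, hel⟩ := ih fun s' hs' => hl s' (List.mem_cons_of_mem _ hs')
    by_cases hes : e s = 0
    · refine ⟨t', ht', z', e, hx', he, fun s' hs' => ?_⟩
      rcases List.mem_cons.1 hs' with rfl | h
      · exact hes
      · exact hel s' h
    obtain ⟨hsn, hsj⟩ := he.1 s hes
    rcases hl s (List.mem_cons_self ..) hsn hsj with ⟨h, a, hh, ha, has, har⟩ | hT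
    · have hmem := mul_mem (hX.conjH h hh _ hx') (inv_mem hx')
      refine ⟨(a r - 1) * t', mul_ne_zero (sub_ne_zero.2 har) ht',
        xg D F r t' * (h * z' * h⁻¹ * z'⁻¹) * (xg D F r t')⁻¹, a * e + -e, ?_,
        ((he.scale hU ha).mul hU hj (he.inv hU hj)).conj hU hj (xg_mem_XS hrn hr1 _), fun s' hs' => ?_⟩
      · have e1 : xg D F r ((a r - 1) * t') = h * xg D F r t' * h⁻¹ * (xg D F r t')⁻¹ := by
          rw [ha r hrn, hG.xg_inv, ← hG.xg_add]
          congr 1
          ring
        rw [e1]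
        convert hmem using 1
        group
      · show a s' * e s' + -e s' = 0
        rcases List.mem_cons.1 hs' with rfl | h'
        · rw [has, one_mul, add_neg_cancel]
        · rw [hel s' h']; simp
    · have hv := he.mul hU hj (hsj ▸ vec_xg hU hsn (by omega) (-(e s)))
      refine ⟨t', ht', z' * xg D F s (-(e s)), _, by
        rw [← mul_assoc]; exact mul_mem hx' (hT.2.2 _), hv, fun s' hs' => ?_⟩
      rcases List.mem_cons.1 hs' with rfl | h'
      · simp
      · by_cases e' : s' = s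
        · subst e'; simp
        · simp [Pi.single_eq_of_ne e', hel s' h']

/-- Pushing the error term of a root element up to the layer `j + k`. -/
lemma push {r : ℕ} (hrn : r < D.nroots) (hr1 : 1 ≤ ht D r) {j : ℤ} (hj : 1 ≤ j) (k : ℕ)
    (hl : ∀ s, s < D.nroots → j ≤ ht D s → ht D s < j + k → Sep F D r s ∨ InT X s) {t : F}
    {z : GL D.Idx F} (hx : xg D F r t * z ∈ X) (ht0 : t ≠ 0) (hz : z ∈ XS D F (htGe D j)) :
    ∃ t' z', t' ≠ 0 ∧ xg D F r t' * z' ∈ X ∧ z' ∈ XS D F (htGe D (j + k)) := by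
  induction k with
  | zero => exact ⟨t, z, ht0, hx, by simpa using hz⟩
  | succ k ih =>
    obtain ⟨t', z', ht', hx', hz'⟩ := ih fun s hs h1 h2 => hl s hs h1 (by omega)
    obtain ⟨d, hd⟩ := exists_vec hU (show 1 ≤ j + (k : ℤ) by omega) hz'
    obtain ⟨t'', ht'', z'', e, hx'', he, hel⟩ := clear_above hU hX hrn hr1
      (show 1 ≤ j + (k : ℤ) by omega) hx' ht' hd (List.range D.nroots)
      (fun s _ hs hsj => hl s hs (by omega) (by omega))
    refine ⟨t'', z'', ht'', hx'', ?_⟩
    have h0 : e = fun _ => 0 := funext fun s => by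
      by_cases hs : s < D.nroots
      · exact hel s (List.mem_range.2 hs)
      · by_contra h; exact hs (he.1 s h).1
    have := he.2
    rw [h0, prodL_zero hU, inv_one, one_mul] at this
    rwa [show j + ((k + 1 : ℕ) : ℤ) = j + k + 1 by push_cast; ring]

/-- A nonzero coordinate at `r` gives a root element at `r`, up to higher terms. -/
lemma exists_lead {r : ℕ} (hrn : r < D.nroots) (hr1 : 1 ≤ ht D r)
    (hl : ∀ s, s < D.nroots → ht D s = ht D r → s ≠ r → Sep F D r s ∨ InT X s)
    {x : GL D.Idx F} {d : ℕ → F} (hx : x ∈ X) (hd : Vec (ht D r) x d) (hr : d r ≠ 0) :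
    ∃ t z, t ≠ 0 ∧ xg D F r t * z ∈ X ∧ z ∈ XS D F (htGe D (ht D r + 1)) := by
  obtain ⟨y, hy, e, he, her, hel⟩ := clear_layer hU hX hr1 hx hd hr (List.range D.nroots)
    (fun s _ hs hsm hne => hl s hs hsm hne)
  have h0 : e = Pi.single r (e r) := funext fun s => by
    by_cases hsr : s = r
    · subst hsr; simp
    · rw [Pi.single_eq_of_ne hsr]
      by_cases hs : s < D.nroots
      · exact hel s (List.mem_range.2 hs) hsr
      · by_contra h; exact hs (he.1 s h).1
  refine ⟨e r, (xg D F r (e r))⁻¹ * y, her, by rwa [mul_inv_cancel_left], ?_⟩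
  have := he.2
  rwa [h0, hU.prodL_single posL_nodup ((mem_posL' hU r).2 ⟨hrn, hr1⟩)] at this

/-- With all higher roots separated or inside, a nonzero coordinate gives a root element. -/
lemma exists_xg {r : ℕ} (hrn : r < D.nroots) (hr1 : 1 ≤ ht D r)
    (hl : ∀ s, s < D.nroots → ht D r ≤ ht D s → s ≠ r → Sep F D r s ∨ InT X s)
    {x : GL D.Idx F} {d : ℕ → F} (hx : x ∈ X) (hd : Vec (ht D r) x d) (hr : d r ≠ 0) :
    ∃ t, t ≠ 0 ∧ xg D F r t ∈ X := by
  obtain ⟨t, z, ht0, hxz, hz⟩ := exists_lead hU hX hrn hr1 (fun s hs e hne => hl s hs e.ge hne) hx hd hr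
  obtain ⟨t', z', ht', hx', hz'⟩ := push hU hX hrn hr1 (j := ht D r + 1) (by omega)
    (maxHt D).toNat (fun s hs h1 _ => hl s hs (by omega) (fun e => by subst e; omega)) hxz ht0 hz
  rw [hU.htGe_eq_bot (by have := Int.self_le_toNat (maxHt D); omega), Subgroup.mem_bot] at hz'
  exact ⟨t', ht', by rwa [hz', mul_one] at hx'⟩

/-- One nontrivial element of a root subgroup gives the whole of it. -/
lemma inT_of_xg [Finite F] {r : ℕ} (hrn : r < D.nroots) (hr1 : 1 ≤ ht D r)
    (hp : ∃ p < D.nroots, (D.pairing p r).natAbs = 1 ∨ (D.pairing p r).natAbs = 2)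
    {t : F} (ht0 : t ≠ 0) (h : xg D F r t ∈ X) : InT X r := by
  have hG := hU.toCommGood.toGood
  obtain ⟨p, hp, hk⟩ := hp
  let K : AddSubgroup F :=
    { carrier := {a | xg D F r (a * t) ∈ X}
      add_mem' := fun {a b} ha hb => by
        show xg D F r ((a + b) * t) ∈ X
        rw [add_mul, hG.xg_add]; exact mul_mem ha hb
      zero_mem' := by
        show xg D F r (0 * t) ∈ X
        rw [zero_mul, hG.xg_zero]; exact one_mem _
      neg_mem' := fun {a} ha => by
        show xg D F r (-a * t) ∈ X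
        rw [neg_mul, ← hG.xg_inv]; exact inv_mem ha }
  have hK : ∀ c : F, c ≠ 0 → c ^ D.pairing p r ∈ K := fun c hc => by
    show xg D F r (_ * t) ∈ X
    rw [← hG.hg_conj_x hp hrn hc t]
    exact hX.conjH _ (hG.hg_mem_H hp hc) _ h
  have hsq : ∀ c : F, c * c ∈ K := fun c => by
    by_cases hc : c = 0
    · rw [hc, mul_zero]; exact K.zero_mem
    have hci := inv_ne_zero hc
    rcases hk with e | e <;> rcases Int.natAbs_eq (D.pairing p r) with e' | e' <;> rw [e] at e'
    · have := hK (c * c) (mul_ne_zero hc hc); rw [e'] at this; simpa using this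
    · have := hK (c⁻¹ * c⁻¹) (mul_ne_zero hci hci); rw [e'] at this; simpa using this
    · have := hK c hc; rw [e'] at this; simpa [pow_two] using this
    · have := hK c⁻¹ hci; rw [e'] at this; simpa [pow_two] using this
  have hall : ∀ a : F, a ∈ K := fun a => by
    by_cases h2 : (2 : F) = 0
    · have hinj : Function.Injective fun x : F => x * x := fun x y (e : x * x = y * y) => by
        have : (x - y) * (x - y) = 0 := by
          rw [show (x - y) * (x - y) = x * x + y * y - 2 * (x * y) by ring, h2, e,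
            show y * y + y * y = 2 * (y * y) by ring, h2]; ring
        exact sub_eq_zero.1 (mul_self_eq_zero.1 this)
      obtain ⟨c, hc⟩ := Finite.surjective_of_injective hinj a
      exact hc ▸ hsq c
    · have e : a = (a + 1) / 2 * ((a + 1) / 2) - (a - 1) / 2 * ((a - 1) / 2) := by
        field_simp; ring
      rw [e]
      exact sub_mem (hsq _) (hsq _)
  refine ⟨hrn, hr1, fun u => ?_⟩
  have := hall (u / t)
  show xg D F r u ∈ X
  rwa [show u = u / t * t by field_simp]

omit hX in
lemma prod_filter_mem {N : Subgroup (GL D.Idx F)} (hN : ∀ u ∈ XS D F (htGe D 1), ∀ x ∈ N, u * x * u⁻¹ ∈ N)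
    {α : Type*} (f : α → GL D.Idx F) (P : α → Bool) (L : List α)
    (hLU : ∀ a ∈ L, f a ∈ XS D F (htGe D 1)) (hLN : ∀ a ∈ L, P a = false → f a ∈ N) :
    (L.map f).prod * ((L.filter P).map f).prod⁻¹ ∈ N := by
  induction L with
  | nil => simp
  | cons a L ih =>
    have h := ih (fun b hb => hLU b (List.mem_cons_of_mem _ hb)) (fun b hb => hLN b (List.mem_cons_of_mem _ hb))
    have h' := hN _ (hLU a (List.mem_cons_self ..)) _ h
    cases hP : P a with
    | true =>
      rw [List.filter_cons_of_pos hP]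
      simpa [mul_assoc] using h'
    | false =>
      rw [List.filter_cons_of_neg (by simp [hP])]
      simpa [mul_assoc] using mul_mem h' (hLN a (List.mem_cons_self ..) hP)

/-- The parameter of a term of the commutator word. -/
def termV (t u : F) (e : ℕ × ℤ × ℕ × ℕ) : F := (e.2.1 : F) * (-t) ^ e.2.2.1 * u ^ e.2.2.2

omit hX in
lemma terms_pos {a b : ℕ} (ha : a < D.nroots) (hb : b < D.nroots) (ha1 : 1 ≤ ht D a)
    (hb1 : 1 ≤ ht D b) {e : ℕ × ℤ × ℕ × ℕ} (he : e ∈ D.commTerms a b) :
    e.1 < D.nroots ∧ 1 ≤ ht D e.1 := by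
  have hG := hU.toCommGood.toGood
  rw [← commW_std (D := D) a b] at he
  obtain ⟨h0, h1, h2, -⟩ := hG.commTerms_coef ha hb he
  refine ⟨h0, ?_⟩
  rw [hG.commTerms_ht ha hb he]
  have h1' : (1 : ℤ) ≤ e.2.2.1 := by exact_mod_cast h1
  have h2' : (1 : ℤ) ≤ e.2.2.2 := by exact_mod_cast h2
  nlinarith

omit hX in
lemma word_eq {a b : ℕ} (ha : a < D.nroots) (hb : b < D.nroots) (ha1 : 1 ≤ ht D a) (hb1 : 1 ≤ ht D b)
    (hne : b ≠ a) (t u : F) :
    ((D.commTerms a b).map fun e => xg D F e.1 (termV t u e)).prod =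
      (xg D F b u)⁻¹ * (xg D F a t)⁻¹ * xg D F b u * xg D F a t := by
  have hC := hU.toCommGood
  have hbn : b ≠ D.neg a := fun e => by rw [e, hC.toGood.ht_neg ha] at hb1; omega
  have : ((D.commTerms a b).map fun e => xg D F e.1 (termV t u e)).prod =
      wordG D F (D.commWord F a b t u) := by
    rw [wordG, ChevalleyDatum.commWord, List.map_map]; rfl
  rw [this, mul_assoc _ (xg D F b u), hC.xg_comm ha hb hne hbn t u]
  group

omit hX in
/-- A product of root elements of height at least `m`, read in the layer `m` at the root `c`. -/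
lemma vec_list {m : ℤ} (hm : 1 ≤ m) {c : ℕ} (hcm : ht D c = m) (v : ℕ × ℤ × ℕ × ℕ → F)
    (L : List (ℕ × ℤ × ℕ × ℕ)) (hL : ∀ e ∈ L, e.1 < D.nroots ∧ (m ≤ ht D e.1 ∨ v e = 0)) :
    ∃ d, Vec m (L.map fun e => xg D F e.1 (v e)).prod d ∧
      d c = ((L.filter fun e => e.1 = c).map v).sum := by
  induction L with
  | nil => exact ⟨_, vec_of_next hU (by simp), by simp⟩
  | cons e L ih =>
    obtain ⟨d, hd, hdc⟩ := ih fun e' he' => hL e' (List.mem_cons_of_mem _ he')
    obtain ⟨h1, h2⟩ := hL e (List.mem_cons_self ..)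
    rw [List.map_cons, List.prod_cons]
    by_cases h3 : ht D e.1 = m
    · refine ⟨Pi.single e.1 (v e) + d, Vec.mul hU hm (h3 ▸ vec_xg hU h1 (by omega) (v e)) hd, ?_⟩
      by_cases h : e.1 = c
      · simp [h, hdc]
      · simp [h, hdc, Ne.symm h]
    · refine ⟨(fun _ => 0) + d, Vec.mul hU hm (vec_of_next hU ?_) hd, ?_⟩
      · rcases h2 with h2 | h2
        · exact xg_mem_XS h1 (show m + 1 ≤ ht D e.1 by omega) _
        · rw [h2, hU.toCommGood.toGood.xg_zero]; exact one_mem _
      · have h : e.1 ≠ c := fun h => h3 (h ▸ hcm)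
        simp [h, hdc]

omit hX in
lemma sum_term {a b c : ℕ} (t u : F)
    (huniq : ∀ e ∈ D.commTerms a b, e.1 = c → termV t u e ≠ 0)
    (hone : ((D.commTerms a b).filter fun e => e.1 = c).length = 1) :
    (((D.commTerms a b).filter fun e => e.1 = c).map (termV t u)).sum ≠ (0 : F) := by
  obtain ⟨e, he⟩ := List.length_eq_one_iff.1 hone
  have he' : e ∈ (D.commTerms a b).filter fun e => e.1 = c := by
    rw [he]; exact List.mem_singleton_self e
  rw [List.mem_filter] at he'
  rw [he, List.map_singleton, List.sum_singleton]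
  exact huniq e he'.1 (by simpa using he'.2)

omit hX in
/-- The commutator word has a nonzero coordinate at `c` if the terms below `c` vanish. -/
lemma word_vec_zero {a b c : ℕ} (ha : a < D.nroots) (hb : b < D.nroots) (ha1 : 1 ≤ ht D a)
    (hb1 : 1 ≤ ht D b) (hne : b ≠ a) (t u : F) (hc1 : 1 ≤ ht D c)
    (hlow : ∀ e ∈ D.commTerms a b, ht D e.1 < ht D c → ((e.2.1 : ℤ) : F) = 0)
    (huniq : ∀ e ∈ D.commTerms a b, e.1 = c → termV t u e ≠ 0)
    (hone : ((D.commTerms a b).filter fun e => e.1 = c).length = 1) :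
    ∃ d, Vec (ht D c) ((xg D F b u)⁻¹ * (xg D F a t)⁻¹ * xg D F b u * xg D F a t) d ∧ d c ≠ 0 := by
  obtain ⟨d, hd, hdc⟩ := vec_list hU hc1 rfl (termV t u) (D.commTerms a b) fun e he =>
    ⟨(terms_pos hU ha hb ha1 hb1 he).1, by
      by_cases h : ht D e.1 < ht D c
      · exact .inr (by rw [termV, hlow e he h, zero_mul, zero_mul])
      · exact .inl (by omega)⟩
  rw [word_eq hU ha hb ha1 hb1 hne t u] at hd
  exact ⟨d, hd, hdc ▸ sum_term hU t u huniq hone⟩

/-- The commutator word of two root elements with one of them in `X`, read in the layer of `c`. -/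
lemma word_vec {a b c : ℕ} (ha : a < D.nroots) (hb : b < D.nroots) (ha1 : 1 ≤ ht D a) (hb1 : 1 ≤ ht D b)
    (hne : b ≠ a) {t u : F} (hw : xg D F a t ∈ X ∨ xg D F b u ∈ X)
    (hc : c ∈ (D.commTerms a b).map Prod.fst)
    (hlow : ∀ e ∈ D.commTerms a b, ht D e.1 < ht D c → InT X e.1 ∨ ((e.2.1 : ℤ) : F) = 0)
    (huniq : ∀ e ∈ D.commTerms a b, e.1 = c → termV t u e ≠ 0)
    (hone : ((D.commTerms a b).filter fun e => e.1 = c).length = 1) :
    ∃ y ∈ X, ∃ d, Vec (ht D c) y d ∧ d c ≠ 0 := by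
  have hG := hU.toCommGood.toGood
  set T := D.commTerms a b with hT
  have hpos : ∀ e ∈ T, e.1 < D.nroots ∧ 1 ≤ ht D e.1 := fun e he => terms_pos hU ha hb ha1 hb1 he
  let f : ℕ × ℤ × ℕ × ℕ → GL D.Idx F := fun e => xg D F e.1 (termV t u e)
  have hUa : xg D F a t ∈ XS D F (htGe D 1) := xg_mem_XS ha ha1 _
  have hUb : xg D F b u ∈ XS D F (htGe D 1) := xg_mem_XS hb hb1 _
  have hwX : (T.map f).prod ∈ X := by
    rw [word_eq hU ha hb ha1 hb1 hne t u]
    rcases hw with h | h
    · refine mul_mem ?_ h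
      simpa using hX.conjU _ (inv_mem hUb) _ (inv_mem h)
    · rw [mul_assoc, mul_assoc]
      refine mul_mem (inv_mem h) ?_
      simpa [mul_assoc] using hX.conjU _ (inv_mem hUa) _ h
  let P : ℕ × ℤ × ℕ × ℕ → Bool := fun e => decide (ht D c ≤ ht D e.1)
  have hfil := prod_filter_mem hU hX.conjU f P T
    (fun e he => xg_mem_XS (hpos e he).1 (hpos e he).2 _) (fun e he hP => by
      rcases hlow e he (not_le.1 (by simpa [P] using hP)) with h | h
      · exact h.2.2 _
      · show xg D F e.1 (_ * _ * _) ∈ X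
        rw [h, zero_mul, zero_mul, hG.xg_zero]; exact one_mem _)
  have hm1 : 1 ≤ ht D c := by
    obtain ⟨e, he, rfl⟩ := List.mem_map.1 hc
    exact (hpos e he).2
  obtain ⟨d, hd, hdc⟩ := vec_list hU hm1 rfl (termV t u) (T.filter P) fun e he => by
    rw [List.mem_filter] at he
    exact ⟨(hpos e he.1).1, .inl (by simpa [P] using he.2)⟩
  refine ⟨_, ?_, d, hd, ?_⟩
  · simpa [f] using mul_mem (inv_mem hfil) hwX
  · rw [hdc, List.filter_filter]
    have hf : (T.filter fun e => decide (e.1 = c) && P e) = T.filter fun e => e.1 = c :=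
      List.filter_congr fun e _ => by
        by_cases h : e.1 = c
        · simp [P, h]
        · simp [h]
    rw [hf]
    exact sum_term hU t u huniq hone

/-- Every nonzero coordinate of `X` belongs to a root subgroup inside `X`. -/
def Full (X : Subgroup (GL D.Idx F)) : Prop :=
  ∀ r, r < D.nroots → 1 ≤ ht D r → ∀ x ∈ X, ∀ d, Vec (ht D r) x d → d r ≠ 0 → InT X r

/-- `X` is generated by the root subgroups it contains. -/
theorem eq_XS_inT (hF : Full X) : X = XS D F {r | InT X r} := by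
  refine le_antisymm ?_ (XS_le fun r t _ h => h.2.2 t)
  have key : ∀ (k : ℕ) (m : ℤ), 1 ≤ m → maxHt D + 1 - m ≤ k → ∀ x ∈ X, x ∈ XS D F (htGe D m) →
      x ∈ XS D F {r | InT X r} := by
    intro k
    induction k with
    | zero =>
      intro m hm hk x _ hx
      rw [hU.htGe_eq_bot (by omega), Subgroup.mem_bot] at hx
      rw [hx]; exact one_mem _
    | succ k ih =>
      intro m hm hk x hx hxm
      obtain ⟨d, hd⟩ := exists_vec hU hm hxm
      have hP : prodL D F (posL (D := D)) d ∈ XS D F {r | InT X r} := by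
        refine list_prod_mem fun y hy => ?_
        obtain ⟨s, hs, rfl⟩ := List.mem_map.1 hy
        by_cases h : d s = 0
        · rw [h, hU.toCommGood.toGood.xg_zero]; exact one_mem _
        · obtain ⟨hs1, hs2⟩ := hd.1 s h
          exact xg_mem_XS hs1 (hF s hs1 (by omega) x hx d (hs2.symm ▸ hd) h) _
      have hPX : prodL D F (posL (D := D)) d ∈ X := XS_le (fun r t _ h => h.2.2 t) hP
      have := ih (m + 1) (by omega) (by omega) _ (mul_mem (inv_mem hPX) hx) hd.2
      simpa using mul_mem hP this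
  exact fun x hx => key (maxHt D).toNat 1 le_rfl (by omega) x hx (hX.le hx)

end Cfsg.Agent.Chev54
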