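import Cfsg.Agent.Lib.ChevCore.SepAll

/-!
The roots of a connected diagram link each pair of fundamental roots.
-/

set_option autoImplicit false
set_option maxRecDepth 100000

namespace Cfsg.Agent.Chev54

open Cfsg.Lie Cfsg.Agent.ChevCore

/-- For fundamental `k ≠ j` a positive root `r` involving `k` has `r + p_j` as a root. -/
noncomputable def linkB (D : ChevalleyDatum) : Bool :=
  kallUpTo D.rank fun k => kallUpTo D.rank fun j => Nat.beq k j || kanyUpTo D.nroots fun r =>
    zPos (coef D r k) &&
      (match D.chainRoot (D.simple j) r 1 with
      | none => false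
      | some r' => Nat.blt r' D.nroots && kallUpTo D.rank fun i =>
          zEq (coef D r' i) (coef D r i + if Nat.beq i j then 1 else 0))

theorem linkB_of_mem {D : ChevalleyDatum}
    (hD : D ∈ [chevG2, chevB2, chevD4, chevF4, chevE6, chevE7, chevE8]) : linkB D = true := by
  simp only [List.mem_cons, List.not_mem_nil, or_false] at hD
  rcases hD with rfl | rfl | rfl | rfl | rfl | rfl | rfl <;> decide +kernel

end Cfsg.Agent.Chev54
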