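import Cfsg.Agent.Chev54.Layer
import Cfsg.Agent.Chev54.LinkCert
import Cfsg.Agent.Lib.ChevCore.Parabolic
import Cfsg.Agent.Lib.ChevCore.BorelMore
import Cfsg.Agent.Class49.CharTwo

/-!
The centralizer of the unipotent radical of a proper standard parabolic subgroup is a `p`-group.
-/

set_option autoImplicit false

namespace Cfsg.Agent.Chev54

open Cfsg.Lie Cfsg.Agent.ChevCore

variable {D : ChevalleyDatum} {F : Type*} [Field F] (hU : UGood D)
include hU

/-- The elements of `U` have `p`-power order. -/
theorem U_pow (p : ℕ) [CharP F p] {x : GL D.Idx F} (hx : x ∈ XS D F (htGe D 1)) :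
    ∃ k : ℕ, x ^ p ^ k = 1 := by
  have hstep : ∀ m : ℤ, 1 ≤ m → ∀ y ∈ XS D F (htGe D m), y ^ p ∈ XS D F (htGe D (m + 1)) := by
    intro m hm y hy
    obtain ⟨d, hd⟩ := exists_vec hU hm hy
    have hn : ∀ n : ℕ, Vec m (y ^ n) (fun r => (n : F) * d r) := by
      intro n
      induction n with
      | zero => simpa using vec_of_next hU (one_mem (XS D F (htGe D (m + 1))))
      | succ n ih =>
        rw [pow_succ]
        have := ih.mul hU hm hd
        rwa [show ((fun r => ((n + 1 : ℕ) : F) * d r) : ℕ → F) = (fun r => (n : F) * d r) + d from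
          funext fun r => by simp [add_mul]]
    have h := (hn p).2
    rwa [show (fun r => (p : F) * d r) = fun _ => (0 : F) from funext fun r => by simp, prodL_zero hU,
      inv_one, one_mul] at h
  have key : ∀ k : ℕ, x ^ p ^ k ∈ XS D F (htGe D (1 + k)) := by
    intro k
    induction k with
    | zero => simpa using hx
    | succ k ih =>
      rw [pow_succ, pow_mul]
      have := hstep _ (by omega) _ ih
      rwa [show (1 : ℤ) + ((k + 1 : ℕ) : ℤ) = 1 + k + 1 by push_cast; ring]
  refine ⟨(maxHt D).toNat, Subgroup.mem_bot.1 ?_⟩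
  rw [← hU.htGe_eq_bot (F := F) (m := 1 + ((maxHt D).toNat : ℤ))
    (by have := Int.self_le_toNat (maxHt D); omega)]
  exact key _

/-- An element of `B` moves a root element to one with the same leading root. -/
theorem borel_lead {b : GL D.Idx F} (hb : b ∈ D.borelSubgroup F) {r : ℕ} (hr : r < D.nroots)
    (hr1 : 1 ≤ ht D r) :
    ∃ c : Fin D.rank → Fˣ, ∃ u ∈ XS D F (htGe D 1), b = u * tau D F c ∧
      Vec (ht D r) (b * xg D F r 1 * b⁻¹)
        (Pi.single r ((∏ i : Fin D.rank, c i ^ D.cartan i.val r : Fˣ) : F)) := by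
  have hG := hU.toCommGood.toGood
  obtain ⟨u, hu, h, hh, rfl⟩ := hG.mem_borel hb
  rw [hG.posUnipotent_eq] at hu
  rw [hG.diagonalSubgroup_eq_range] at hh
  obtain ⟨c, rfl⟩ := hh
  refine ⟨c, u, hu, rfl, ?_⟩
  have h2 := (vec_xg hU hr hr1 ((∏ i : Fin D.rank, c i ^ D.cartan i.val r : Fˣ) : F)).conj hU hr1 hu
  refine (show u * xg D F r ((∏ i : Fin D.rank, c i ^ D.cartan i.val r : Fˣ) : F) * u⁻¹ =
    u * tau D F c * xg D F r 1 * (u * tau D F c)⁻¹ from ?_) ▸ h2
  have := hG.tau_conj_x c hr (1 : F)
  rw [mul_one] at this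
  rw [show tauW D F c (Sum.inr ⟨r, hr⟩) = ∏ i : Fin D.rank, c i ^ D.cartan i.val r from rfl] at this
  rw [← this]; group

/-- The centralizer of the radical of a proper standard parabolic subgroup lies in `U`. -/
theorem centralizer_radical_le (hD : D ∈ [chevG2, chevB2, chevD4, chevF4, chevE6, chevE7, chevE8])
    (J : Set ℕ) (hJ : ∃ i, i < D.rank ∧ i ∉ J) {g : GL D.Idx F} (hg : g ∈ D.group F)
    (hc : ∀ y ∈ D.unipotentRadical F J, g * y = y * g) : g ∈ XS D F (htGe D 1) := by
  have hC := hU.toCommGood
  have hG := hC.toGood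
  have hs := chkSupp_of_mem hD
  obtain ⟨k, hk, hkJ⟩ := hJ
  obtain ⟨b, hb, w, hw, hred, b', hb', rfl⟩ := exists_bruhat_mem hD hg
  have hle := hC.parabolic_le_normalizer (F := F) hs J
  have hbP : D.borelSubgroup F ≤ D.parabolicSubgroup F J := le_sup_left
  have hn : ∀ y ∈ D.unipotentRadical F J,
      nw D F w * (b' * b) * y * (nw D F w * (b' * b))⁻¹ = y := by
    intro y hy
    have hy' : b * y * b⁻¹ ∈ D.unipotentRadical F J :=
      (Subgroup.mem_normalizer_iff.1 (hle (hbP hb)) _).1 hy
    have e := hc _ hy'
    calc nw D F w * (b' * b) * y * (nw D F w * (b' * b))⁻¹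
        = b⁻¹ * (b * nw D F w * b' * (b * y * b⁻¹)) * (b * nw D F w * b')⁻¹ * b := by group
      _ = b⁻¹ * ((b * y * b⁻¹) * (b * nw D F w * b')) * (b * nw D F w * b')⁻¹ * b := by rw [e]
      _ = y := by group
  -- roots of the radical are fixed by the Weyl element and by the torus part
  have hb0 : b' * b ∈ D.borelSubgroup F := mul_mem hb' hb
  have hfix : ∀ r, r < D.nroots → r ∈ radJ D J →
      actW D w r = r ∧ ∀ c : Fin D.rank → Fˣ, ∀ u ∈ XS D F (htGe D 1), b' * b = u * tau D F c →
        ((∏ i : Fin D.rank, c i ^ D.cartan i.val r : Fˣ) : F) * (etaWord D w r : F) = 1 := by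
    intro r hr hrad
    have hr1 : 1 ≤ ht D r := hrad.1
    have hrm : xg D F r (1 : F) ∈ D.unipotentRadical F J := by
      rw [hG.unipotentRadical_eq hs]; exact xg_mem_XS hr hrad _
    obtain ⟨c0, u0, hu0, e0, hv⟩ := borel_lead hU hb0 hr hr1
    have hwr : ∀ i ∈ w.reverse, i < D.rank := fun i hi => hw i (List.mem_reverse.1 hi)
    set r' := actW D w.reverse r with hr'
    have hr'l : r' < D.nroots := hG.actW_lt hwr hr
    have hback : actW D w r' = r := hG.actW_reverse hw hr
    have hη : ((etaWord D w r' : ℤ) : F) * (etaWord D w r' : F) = 1 := by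
      rw [← Int.cast_mul, Good.etaWord_sq, Int.cast_one]
    have e2 : b' * b * xg D F r 1 * (b' * b)⁻¹ = xg D F r' (etaWord D w r' : F) := by
      have h1 := hn _ hrm
      have h2 := hG.nw_conj_x hw hr'l (t := (etaWord D w r' : F))
      rw [hback, hη] at h2
      calc b' * b * xg D F r 1 * (b' * b)⁻¹
          = (nw D F w)⁻¹ * (nw D F w * (b' * b) * xg D F r 1 * (nw D F w * (b' * b))⁻¹) * nw D F w := by group
        _ = (nw D F w)⁻¹ * xg D F r 1 * nw D F w := by rw [h1]
        _ = xg D F r' (etaWord D w r' : F) := by rw [← h2]; group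
    rw [e2] at hv
    have hη0 : ((etaWord D w r' : ℤ) : F) ≠ 0 := left_ne_zero_of_mul_eq_one hη
    have hr'1 : 1 ≤ ht D r' := by
      by_contra hn'
      have h0 := hG.ht_ne_zero hr'l
      have hm : xg D F r' (etaWord D w r' : F) ∈ D.borelSubgroup F ⊓ D.negUnipotent F := by
        refine ⟨?_, ?_⟩
        · refine Subgroup.mem_sup_left ?_
          rw [hG.posUnipotent_eq]
          exact XS_mono (fun s (h : ht D r ≤ ht D s) => show 1 ≤ ht D s by omega) (hv.mem hU)
        · rw [hG.negUnipotent_eq]
          exact xg_mem_XS hr'l (show ht D r' ≤ -1 by omega) _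
      rw [hG.borel_inf_neg, Subgroup.mem_bot] at hm
      exact hη0 (hG.xg_injective hr'l (by rw [hm, hG.xg_zero]))
    have hsame : r' = r := by
      rcases lt_trichotomy (ht D r) (ht D r') with h | h | h
      · have := congrFun (hv.unique hU hr1 (vec_of_next hU (xg_mem_XS hr'l (show ht D r + 1 ≤ ht D r' by omega) _))) r
        rw [Pi.single_eq_same] at this
        exact absurd this (Units.ne_zero _)
      · have := congrFun (hv.unique hU hr1 (h ▸ vec_xg hU hr'l hr'1 _)) r
        by_contra hne
        rw [Pi.single_eq_same, Pi.single_eq_of_ne (Ne.symm hne)] at this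
        exact absurd this (Units.ne_zero _)
      · have h' := congrFun ((vec_xg hU hr'l hr'1 (etaWord D w r' : F)).unique hU hr'1
          (vec_of_next hU (XS_mono (fun s (hs : ht D r ≤ ht D s) => show ht D r' + 1 ≤ ht D s by omega)
            (hv.mem hU)))) r'
        simp at h'
        exact absurd h' hη0
    rw [hsame] at hback hv hη0 hη
    refine ⟨hback, fun c u hu e => ?_⟩
    obtain ⟨hcu, -⟩ : tau D F c = tau D F c0 ∧ True := by
      refine ⟨?_, trivial⟩
      have h1 : u0⁻¹ * u = tau D F c0 * (tau D F c)⁻¹ := by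
        rw [e0] at e
        calc u0⁻¹ * u = u0⁻¹ * (u * tau D F c) * (tau D F c)⁻¹ := by group
          _ = _ := by rw [← e]; group
      have h2 : u0⁻¹ * u ∈ D.posUnipotent F ⊓ D.diagonalSubgroup F := by
        refine Subgroup.mem_inf.2 ⟨by rw [hG.posUnipotent_eq]; exact mul_mem (inv_mem hu0) hu, ?_⟩
        rw [h1, hG.diagonalSubgroup_eq_range]
        exact mul_mem (MonoidHom.mem_range.2 ⟨c0, rfl⟩ : tau D F c0 ∈ (tau D F).range)
          (inv_mem (MonoidHom.mem_range.2 ⟨c, rfl⟩ : tau D F c ∈ (tau D F).range))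
      rw [hG.pos_inf_H, Subgroup.mem_bot, h1, mul_inv_eq_one] at h2
      exact h2.symm
    have h := congrFun (hv.unique hU hr1 (vec_xg hU hr hr1 _)) r
    rw [Pi.single_eq_same, Pi.single_eq_same] at h
    have hW : tauW D F c (Sum.inr ⟨r, hr⟩) = tauW D F c0 (Sum.inr ⟨r, hr⟩) := by
      have := congrArg (fun g : GL D.Idx F => (g : Matrix D.Idx D.Idx F) (Sum.inr ⟨r, hr⟩) (Sum.inr ⟨r, hr⟩)) hcu
      simp only [val_tau, Matrix.diagonal_apply_eq] at this
      exact Units.ext this
    rw [show (∏ i : Fin D.rank, c i ^ D.cartan i.val r) = ∏ i : Fin D.rank, c0 i ^ D.cartan i.val r from hW, h]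
    exact hη
  -- linearity
  have hlin : ∀ (v : List ℕ), (∀ i ∈ v, i < D.rank) → ∀ r, r < D.nroots → ∀ i < D.rank,
      coef D (actW D v r) i =
        ∑ l ∈ Finset.range D.rank, coef D r l * coef D (actW D v (D.simple l)) i := by
    intro v
    induction v with
    | nil =>
      intro _ r hr i hi
      rw [Finset.sum_eq_single i]
      · show coef D r i = coef D r i * coef D (D.simple i) i
        rw [hG.coef_simple hi hi, if_pos rfl, mul_one]
      · intro l hl hli
        show coef D r l * coef D (D.simple l) i = 0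
        rw [hG.coef_simple (Finset.mem_range.1 hl) hi, if_neg (Ne.symm hli), mul_zero]
      · exact fun h => absurd (Finset.mem_range.2 hi) h
    | cons a v ih =>
      intro hv r hr i hi
      have hv' : ∀ i ∈ v, i < D.rank := fun i hi => hv i (List.mem_cons_of_mem _ hi)
      have ha : a < D.rank := hv a (List.mem_cons_self ..)
      have hl1 := hG.actW_lt hv' hr
      have hl2 : ∀ l ∈ Finset.range D.rank, actW D v (D.simple l) < D.nroots := fun l hl =>
        hG.actW_lt hv' (hG.simple_lt (Finset.mem_range.1 hl))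
      have hsum : ∑ l ∈ Finset.range D.rank, coef D r l * coef D (actW D (a :: v) (D.simple l)) i =
          ∑ l ∈ Finset.range D.rank, coef D r l * coef D (actW D v (D.simple l)) i -
            ∑ l ∈ Finset.range D.rank,
              coef D r l * (if i = a then D.cartan a (actW D v (D.simple l)) else 0) := by
        rw [← Finset.sum_sub_distrib]
        refine Finset.sum_congr rfl fun l hl => ?_
        rw [actW_cons, hG.coef_refl ha (hl2 l hl) hi, mul_sub]
      rw [hsum, actW_cons, hG.coef_refl ha hl1 hi, ih hv' r hr i hi]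
      congr 1
      by_cases hia : i = a
      · simp only [if_pos hia]
        rw [hG.cartan_eq hl1 ha, Finset.sum_congr rfl fun l hl => by
          rw [ih hv' r hr l (Finset.mem_range.1 hl), Finset.sum_mul], Finset.sum_comm]
        refine Finset.sum_congr rfl fun l hl => ?_
        rw [hG.cartan_eq (hl2 l hl) ha, Finset.mul_sum]
        exact Finset.sum_congr rfl fun m _ => by ring
      · simp [if_neg hia]
  have link : ∀ j < D.rank, k ≠ j → ∃ r r', r < D.nroots ∧ r' < D.nroots ∧ r ∈ radJ D J ∧ r' ∈ radJ D J ∧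
      ∀ i < D.rank, coef D r' i = coef D r i + coef D (D.simple j) i := by
    intro j hj hjk
    have hl := linkB_of_mem hD
    simp only [linkB, kallUpTo_iff, kanyUpTo_iff, Bool.or_eq_true, Bool.and_eq_true, zPos_iff] at hl
    rcases hl k hk j hj with h | ⟨r, hr, hrk, hm⟩
    · exact absurd (Nat.eq_of_beq_eq_true h) hjk
    cases hch : D.chainRoot (D.simple j) r 1 with
    | none => simp [hch] at hm
    | some r' =>
      simp only [hch, Bool.and_eq_true, Nat.blt_eq, kallUpTo_iff, zEq_iff] at hm
      obtain ⟨hr', hco⟩ := hm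
      have hco' : ∀ i < D.rank, coef D r' i = coef D r i + coef D (D.simple j) i := fun i hi => by
        rw [hco i hi, hG.coef_simple hj hi]
        by_cases h : i = j
        · simp [h]
        · rw [if_neg h, if_neg (by simpa using h)]
      have rad : ∀ s, s < D.nroots → 0 < coef D s k → s ∈ radJ D J := fun s hs hsk => by
        refine ⟨?_, fun h => by have := h k hk hkJ; omega⟩
        have := hG.ht_pos_of_coef hs hk hsk
        omega
      have hk' : 0 < coef D r' k := by
        rw [hco' k hk, hG.coef_simple hj hk, if_neg hjk]; omega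
      exact ⟨r, r', hr, hr', rad r hr hrk, rad r' hr' hk', hco'⟩
  have hksimp : D.simple k ∈ radJ D J := by
    refine ⟨by rw [hG.ht_simple hk], fun h => ?_⟩
    have := h k hk hkJ
    rw [hG.coef_simple hk hk, if_pos rfl] at this
    exact one_ne_zero this
  have hsimp : ∀ j < D.rank, ∀ i < D.rank,
      coef D (actW D w (D.simple j)) i = coef D (D.simple j) i := by
    intro j hj i hi
    by_cases hjk : k = j
    · subst hjk; rw [(hfix _ (hG.simple_lt hk) hksimp).1]
    obtain ⟨r, r', hr, hr', hrad, hrad', hco⟩ := link j hj hjk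
    have e : coef D (actW D w r') i = coef D (actW D w r) i + coef D (actW D w (D.simple j)) i := by
      rw [hlin w hw r' hr' i hi, hlin w hw r hr i hi,
        Finset.sum_congr rfl fun l hl => by rw [hco l (Finset.mem_range.1 hl), add_mul],
        Finset.sum_add_distrib]
      congr 1
      rw [Finset.sum_eq_single j]
      · rw [hG.coef_simple hj hj, if_pos rfl, one_mul]
      · intro l hl hlj
        rw [hG.coef_simple hj (Finset.mem_range.1 hl), if_neg hlj, zero_mul]
      · exact fun h => absurd (Finset.mem_range.2 hj) h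
    rw [(hfix r hr hrad).1, (hfix r' hr' hrad').1, hco i hi] at e
    omega
  have hnil : w = [] := by
    cases hw' : w with
    | nil => rfl
    | cons i v =>
      exfalso
      subst hw'
      have hv : ∀ a ∈ v, a < D.rank := fun a ha => hw a (by simp [ha])
      have hi : i < D.rank := hw i (by simp)
      set r := actW D v.reverse (D.simple i) with hr
      have hrl : r < D.nroots := hG.actW_lt (fun a ha => hv a (List.mem_reverse.1 ha)) (hG.simple_lt hi)
      have hrp : 0 < ht D r := hred.1
      have hwr : actW D (i :: v) r = D.neg (D.simple i) := by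
        rw [actW_cons, hr, hG.actW_reverse hv (hG.simple_lt hi), hG.refl_simple hi]
      have e : coef D (D.neg (D.simple i)) i = coef D r i := by
        rw [← hwr, hlin _ hw r hrl i hi, Finset.sum_eq_single i]
        · rw [hsimp i hi i hi, hG.coef_simple hi hi, if_pos rfl, mul_one]
        · intro l hl hli
          rw [hsimp l (Finset.mem_range.1 hl) i hi, hG.coef_simple (Finset.mem_range.1 hl) hi,
            if_neg (Ne.symm hli), mul_zero]
        · exact fun h => absurd (Finset.mem_range.2 hi) h
      have := hG.coef_nonneg hrl hrp hi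
      rw [hG.coef_neg (hG.simple_lt hi) hi, hG.coef_simple hi hi, if_pos rfl] at e
      omega
  subst hnil
  -- the torus part is trivial
  obtain ⟨c, u, hu, he, -⟩ := borel_lead hU hb0 (hG.simple_lt hk) (by rw [hG.ht_simple hk])
  let χ : ℕ → Fˣ := fun r => ∏ i : Fin D.rank, c i ^ D.cartan i.val r
  have hone : ∀ r, r < D.nroots → r ∈ radJ D J → χ r = 1 := fun r hr hrad => by
    have := (hfix r hr hrad).2 c u hu he
    rw [show etaWord D [] r = 1 from rfl, Int.cast_one, mul_one] at this
    exact Units.ext this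
  have hall : ∀ j < D.rank, χ (D.simple j) = 1 := by
    intro j hj
    by_cases hjk : k = j
    · subst hjk; exact hone _ (hG.simple_lt hk) hksimp
    obtain ⟨r, r', hr, hr', hrad, hrad', hco⟩ := link j hj hjk
    have e : χ r' = χ r * χ (D.simple j) := by
      simp only [χ, ← Finset.prod_mul_distrib]
      refine Finset.prod_congr rfl fun i _ => ?_
      rw [← zpow_add, hG.cartan_eq hr' i.isLt, hG.cartan_eq hr i.isLt]
      congr 1
      rw [Finset.sum_congr rfl fun l hl => by rw [hco l (Finset.mem_range.1 hl), add_mul],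
        Finset.sum_add_distrib]
      congr 1
      rw [Finset.sum_eq_single j]
      · rw [hG.coef_simple hj hj, if_pos rfl, one_mul]
      · intro l hl hlj
        rw [hG.coef_simple hj (Finset.mem_range.1 hl), if_neg hlj, zero_mul]
      · exact fun h => absurd (Finset.mem_range.2 hj) h
    rw [hone r hr hrad, hone r' hr' hrad', one_mul] at e
    exact e.symm
  have hχ : ∀ s, s < D.nroots → χ s = 1 := by
    intro s hs
    have e : χ s = ∏ l ∈ Finset.range D.rank, χ (D.simple l) ^ coef D s l := by
      simp only [χ, ← Finset.prod_zpow, ← zpow_mul]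
      rw [Finset.prod_comm]
      refine Finset.prod_congr rfl fun i _ => ?_
      rw [hG.cartan_eq hs i.isLt, ChevCore.zpow_sum']
      exact Finset.prod_congr rfl fun l _ => by rw [mul_comm]
    rw [e]
    exact Finset.prod_eq_one fun l hl => by rw [hall l (Finset.mem_range.1 hl), one_zpow]
  have htau : tau D F c = 1 := by
    refine Units.ext ?_
    rw [val_tau, Units.val_one, ← Matrix.diagonal_one]
    congr 1
    funext a
    rcases a with i | s
    · rfl
    · show ((∏ i : Fin D.rank, c i ^ D.cartan i.val s.val : Fˣ) : F) = 1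
      exact congrArg Units.val (hχ s.val s.isLt)
  rw [htau, mul_one] at he
  -- so `g` is a conjugate of `u` by an element of `B`
  have hnorm : D.borelSubgroup F ≤ Subgroup.normalizer (XS D F (htGe D 1) : Set (GL D.Idx F)) := by
    intro x hx
    obtain ⟨v, hv, h, hh, rfl⟩ := hG.mem_borel hx
    rw [hG.posUnipotent_eq] at hv
    exact mul_mem (Subgroup.le_normalizer hv) (hG.H_le_normalizer_XS _ hh)
  have := (Subgroup.mem_normalizer_iff.1 (hnorm hb) _).1 hu
  rw [← he] at this
  simpa [nw, mul_assoc] using this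

end Cfsg.Agent.Chev54
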