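import Cfsg.Agent.Chev54.Subfield
import Cfsg.Agent.Lib.ChevCore.Subgroups

/-!
The coordinates of the layers `U_m / U_{m+1}` of the unipotent group of a Chevalley group.
-/

set_option autoImplicit false

namespace Cfsg.Agent.Chev54

open Cfsg.Lie Cfsg.Agent.ChevCore

variable {D : ChevalleyDatum} {F : Type*} [Field F]

/-- `h` multiplies the parameter of each root `s` by `a s`. -/
def ScalesAll (h : GL D.Idx F) (a : ℕ → F) : Prop :=
  ∀ s, s < D.nroots → ∀ t, h * xg D F s t * h⁻¹ = xg D F s (a s * t)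

/-- `x` lies in `U_m` with coordinates `d` in the layer `m`. -/
def Vec (m : ℤ) (x : GL D.Idx F) (d : ℕ → F) : Prop :=
  SuppHt D F m d ∧ (prodL D F (posL (D := D)) d)⁻¹ * x ∈ XS D F (htGe D (m + 1))

section

variable (hU : UGood D)
include hU

lemma mem_posL' (r : ℕ) : r ∈ posL (D := D) ↔ r < D.nroots ∧ 1 ≤ ht D r := by
  have hG := hU.toCommGood.toGood
  rw [mem_posL]
  constructor
  · intro h; have := (hG.isPosRoot_iff h.1).1 h; exact ⟨h.1, by omega⟩
  · rintro ⟨h, h'⟩; exact (hG.isPosRoot_iff h).2 (by omega)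

lemma posL_pos : ∀ r ∈ posL (D := D), r < D.nroots ∧ 1 ≤ ht D r := fun r hr => (mem_posL' hU r).1 hr

omit hU in
lemma posL_nodup : (posL (D := D)).Nodup := List.nodup_range.filter _

lemma prodL_zero (L : List ℕ) : prodL D F L (fun _ => (0 : F)) = 1 :=
  List.prod_eq_one fun y hy => by
    obtain ⟨s, -, rfl⟩ := List.mem_map.1 hy
    exact hU.toCommGood.toGood.xg_zero s

lemma Vec.mem {m : ℤ} {x : GL D.Idx F} {d : ℕ → F} (h : Vec m x d) : x ∈ XS D F (htGe D m) := by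
  have := mul_mem (hU.prodL_supp (posL (D := D)) h.1)
    (XS_mono (fun r (hr : m + 1 ≤ ht D r) => show m ≤ ht D r by omega) h.2)
  rwa [mul_inv_cancel_left] at this

lemma exists_vec {m : ℤ} (hm : 1 ≤ m) {x : GL D.Idx F} (hx : x ∈ XS D F (htGe D m)) :
    ∃ d, Vec m x d :=
  hU.layer hm posL_nodup (mem_posL' hU) hx

lemma vec_of_next {m : ℤ} {x : GL D.Idx F} (hx : x ∈ XS D F (htGe D (m + 1))) :
    Vec m x (fun _ => 0) :=
  ⟨fun _ h => absurd rfl h, by rwa [prodL_zero hU, inv_one, one_mul]⟩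

lemma vec_xg {r : ℕ} (hr : r < D.nroots) (hp : 1 ≤ ht D r) (t : F) :
    Vec (ht D r) (xg D F r t) (Pi.single r t) := by
  refine ⟨fun s hs => ?_, ?_⟩
  · by_cases e : s = r
    · subst e; exact ⟨hr, rfl⟩
    · simp [Pi.single_eq_of_ne e] at hs
  · rw [hU.prodL_single posL_nodup ((mem_posL' hU r).2 ⟨hr, hp⟩), inv_mul_cancel]
    exact one_mem _

lemma Vec.mul {m : ℤ} (hm : 1 ≤ m) {a b : GL D.Idx F} {d d' : ℕ → F} (ha : Vec m a d)
    (hb : Vec m b d') : Vec m (a * b) (d + d') := by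
  have hn := hU.U_le_normalizer (F := F) (show 1 ≤ m + 1 by omega)
  set L := posL (D := D)
  refine ⟨fun s hs => ?_, ?_⟩
  · by_cases h : d s = 0
    · exact hb.1 s (by simpa [h] using hs)
    · exact ha.1 s h
  have h1 := hU.prodL_add hm (posL_pos hU) d hb.1
  have hQ : (prodL D F L d')⁻¹ * ((prodL D F L d)⁻¹ * a) * ((prodL D F L d')⁻¹)⁻¹ ∈
      XS D F (htGe D (m + 1)) :=
    (Subgroup.mem_normalizer_iff.1 (hn (inv_mem (hU.prodL_mem (posL_pos hU) d'))) _).1 ha.2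
  have := mul_mem (mul_mem h1 hQ) hb.2
  refine (show ((prodL D F L (d + d'))⁻¹ * (prodL D F L d * prodL D F L d')) *
      ((prodL D F L d')⁻¹ * ((prodL D F L d)⁻¹ * a) * ((prodL D F L d')⁻¹)⁻¹) *
      ((prodL D F L d')⁻¹ * b) = (prodL D F L (d + d'))⁻¹ * (a * b) by group) ▸ this

lemma Vec.unique {m : ℤ} (hm : 1 ≤ m) {x : GL D.Idx F} {d d' : ℕ → F} (h : Vec m x d)
    (h' : Vec m x d') : d = d' := by
  set L := posL (D := D)
  have h1 := hU.prodL_add hm (posL_pos hU) d' (d := d - d') (fun r hr => by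
    by_cases e : d r = 0
    · exact h'.1 r (by simpa [e] using hr)
    · exact h.1 r e)
  rw [add_sub_cancel] at h1
  have h2 : prodL D F L (d - d') ∈ XS D F (htGe D (m + 1)) := by
    refine (show ((prodL D F L d')⁻¹ * x) * ((prodL D F L d)⁻¹ * x)⁻¹ *
        ((prodL D F L d)⁻¹ * (prodL D F L d' * prodL D F L (d - d'))) =
        prodL D F L (d - d') by group) ▸ mul_mem (mul_mem h'.2 (inv_mem h.2)) h1
  refine sub_eq_zero.1 (hU.layer_inj hm posL_nodup (mem_posL' hU) (fun r hr => ?_) h2)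
  by_cases e : d r = 0
  · exact h'.1 r (by simpa [e] using hr)
  · exact h.1 r e

lemma Vec.inv {m : ℤ} (hm : 1 ≤ m) {x : GL D.Idx F} {d : ℕ → F} (h : Vec m x d) :
    Vec m x⁻¹ (-d) := by
  obtain ⟨d', h'⟩ := exists_vec hU hm (inv_mem (h.mem hU))
  have h2 := h.mul hU hm h'
  rw [mul_inv_cancel] at h2
  have h3 := h2.unique hU hm (vec_of_next hU (one_mem _))
  rwa [show -d = d' from neg_eq_of_add_eq_zero_right (h3.trans rfl)]

lemma Vec.scale {m : ℤ} {x : GL D.Idx F} {d : ℕ → F} (h : Vec m x d) {g : GL D.Idx F} {a : ℕ → F}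
    (hg : ScalesAll g a) : Vec m (g * x * g⁻¹) (a * d) := by
  have hm : ∀ S : Set ℕ, ∀ y ∈ XS D F S, g * y * g⁻¹ ∈ XS D F S := fun S y hy => by
    induction hy using Subgroup.closure_induction with
    | mem y hy =>
      obtain ⟨r, t, hr, hS, rfl⟩ := hy
      rw [hg r hr]
      exact xg_mem_XS hr hS _
    | one => simp
    | mul u v _ _ hu hv => exact (show g * u * g⁻¹ * (g * v * g⁻¹) = g * (u * v) * g⁻¹ by group) ▸ mul_mem hu hv
    | inv u _ hu => exact (show (g * u * g⁻¹)⁻¹ = g * u⁻¹ * g⁻¹ by group) ▸ inv_mem hu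
  have hP : ∀ L : List ℕ, (∀ r ∈ L, r < D.nroots) →
      g * prodL D F L d * g⁻¹ = prodL D F L (a * d) := by
    intro L
    induction L with
    | nil => simp [prodL]
    | cons r L ih =>
      intro hL
      rw [prodL_cons, prodL_cons, ← ih fun s hs => hL s (List.mem_cons_of_mem _ hs), Pi.mul_apply,
        ← hg r (hL r (List.mem_cons_self ..))]
      group
  refine ⟨fun r hr => h.1 r fun e => hr (by simp [e]), ?_⟩
  rw [← hP _ fun r hr => (posL_pos hU r hr).1]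
  exact (show g * ((prodL D F (posL (D := D)) d)⁻¹ * x) * g⁻¹ =
    (g * prodL D F (posL (D := D)) d * g⁻¹)⁻¹ * (g * x * g⁻¹) by group) ▸ hm _ _ h.2

lemma Vec.conj {m : ℤ} (hm : 1 ≤ m) {x : GL D.Idx F} {d : ℕ → F} (h : Vec m x d) {g : GL D.Idx F}
    (hg : g ∈ XS D F (htGe D 1)) : Vec m (g * x * g⁻¹) d := by
  have hn := hU.U_le_normalizer (F := F) (show 1 ≤ m + 1 by omega)
  have key : ∀ y ∈ XS D F (htGe D m), g * y * g⁻¹ * y⁻¹ ∈ XS D F (htGe D (m + 1)) := by
    intro y hy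
    have hle : XS D F (htGe D m) ≤ XS D F (htGe D 1) :=
      XS_mono fun r (hr : m ≤ ht D r) => show 1 ≤ ht D r by omega
    induction hy using Subgroup.closure_induction with
    | mem y hy =>
      obtain ⟨r, t, hr, hS, rfl⟩ := hy
      simpa using hU.conj_congr hm (inv_mem hg) hr hS t
    | one => simp
    | mul u v hu _ hu' hv' =>
      refine (show g * u * g⁻¹ * u⁻¹ * (u * (g * v * g⁻¹ * v⁻¹) * u⁻¹) =
        g * (u * v) * g⁻¹ * (u * v)⁻¹ by group) ▸ mul_mem hu' ?_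
      exact (Subgroup.mem_normalizer_iff.1 (hn (hle hu)) _).1 hv'
    | inv u hu hu' =>
      refine (show u⁻¹ * (g * u * g⁻¹ * u⁻¹)⁻¹ * u⁻¹⁻¹ = g * u⁻¹ * g⁻¹ * u⁻¹⁻¹ by group) ▸ ?_
      exact (Subgroup.mem_normalizer_iff.1 (hn (inv_mem (hle hu))) _).1 (inv_mem hu')
  have := (vec_of_next hU (key x (h.mem hU))).mul hU hm h
  rwa [inv_mul_cancel_right, show ((fun _ : ℕ => (0 : F)) + d) = d from funext fun _ => zero_add _] at this

end

end Cfsg.Agent.Chev54
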