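import Cfsg.Agent.Chev54.InvRank
import Cfsg.Agent.Lib.ChevCore.GoodAll

/-!
The rank certificates of the representatives of the involutions in type D4.
-/

set_option autoImplicit false
set_option maxRecDepth 100000

namespace Cfsg.Agent.Chev54

open Cfsg.Lie

/-- The certificate for representative 0. -/
def rkD4_0 : RankCert where
  L := [18, 13, 12]
  cols := [0, 988, 656, 784, 512, 0x1040000, 896, 512, 512, 0, 0x4002000, 0x8001000, 0, 0, 0x7b8000, 0x520000, 0x620000, 0x400000, 0, 0x700000, 0x400000, 0x400000, 0, 0, 0, 0x43000, 0, 0]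
  P := [1, 2, 3, 4, 5, 10, 11, 14, 15, 16, 17, 25]
  C := [0, 1, 2, 4, 8, 16, 14, 8, 8, 0, 32, 64, 0, 0, 128, 256, 512, 0x400, 0, 0x700, 0x400, 0x400, 0, 0, 0, 0x800, 0, 0]
  T := [15, 10, 12, 8, 0x800, 0x780, 0x500, 0x600, 0x400, 0x810, 32, 64]
  R := [6, 7, 8, 9, 18, 19, 20, 21, 22, 24, 26, 27]

theorem rkD4_0_ok : rkD4_0.checkB chevD4 = true := by decide +kernel

/-- The certificate for representative 1. -/
def rkD4_1 : RankCert where
  L := [14]
  cols := [2, 0, 0, 0, 32, 0, 0, 0x400, 0x800, 0x2004000, 0, 0, 0x8000, 0x10000, 0, 0, 0, 0, 0x80000, 0, 0, 0, 0x800000, 0, 0x4000, 0, 0x4000, 0x4000]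
  P := [0, 4, 7, 8, 9, 12, 13, 18, 22, 24]
  C := [1, 0, 0, 0, 2, 0, 0, 4, 8, 16, 0, 0, 32, 64, 0, 0, 0, 0, 128, 0, 0, 0, 256, 0, 512, 0, 512, 512]
  T := [1, 2, 4, 8, 512, 32, 64, 128, 256, 528]
  R := [1, 5, 10, 11, 14, 15, 16, 19, 23, 25]

theorem rkD4_1_ok : rkD4_1.checkB chevD4 = true := by decide +kernel

end Cfsg.Agent.Chev54
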