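import Cfsg.Agent.ChevGroup.Exchange

/-!
Conjugates of a root subgroup that is centralised by all positive root subgroups: two of them either lie
together in a conjugate of `U` or form a conjugate of the pair of opposite root subgroups.
-/

set_option autoImplicit false

namespace Cfsg.Agent.Chev54

open ChevGroup

variable {Φ I : Type*} {G : Type*} [Group G] {F : Type*} [Field F] {S : RootIdx Φ I}
  (R : RootRel G F S)

/-- An element that scales `x_r` to `x_s` maps the root subgroup of `r` onto that of `s`. -/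
lemma map_conj_X {g : G} {r s : Φ} {a : F} (ha : a ≠ 0)
    (h : ∀ t, g * R.x r t * g⁻¹ = R.x s (a * t)) :
    (R.X r).map (MulAut.conj g).toMonoidHom = R.X s := by
  rw [RootRel.X, RootRel.X, MonoidHom.map_closure, ← Set.range_comp]
  congr 1
  ext y
  constructor
  · rintro ⟨t, rfl⟩
    exact ⟨a * t, (h t).symm⟩
  · rintro ⟨t, rfl⟩
    refine ⟨a⁻¹ * t, ?_⟩
    simp only [Function.comp_apply, MulEquiv.coe_toMonoidHom, MulAut.conj_apply, h]
    rw [mul_inv_cancel_left₀ ha]

/-- A word maps root subgroups to root subgroups. -/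
lemma map_nw_X (w : List I) (r : Φ) :
    (R.X r).map (MulAut.conj (R.nw w)).toMonoidHom = R.X (S.actw w r) := by
  obtain ⟨e, he, h⟩ := R.nw_conj w r
  exact map_conj_X R (fun h0 => by simp [h0] at he) h

lemma X_le_U {r : Φ} (hr : S.pos r) : R.X r ≤ R.U :=
  (Subgroup.closure_le _).2 fun _ ⟨t, e⟩ => e ▸ R.x_mem_U hr t

lemma X_le_B {r : Φ} (hr : S.pos r) : R.X r ≤ R.B := (X_le_U R hr).trans R.U_le_B

/-- If the positive root elements commute with `X_r`, then so does `U`. -/
lemma U_comm {r : Φ} (hc : ∀ s, S.pos s → ∀ t u, Commute (R.x s u) (R.x r t)) {u : G} (hu : u ∈ R.U)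
    (t : F) : Commute u (R.x r t) := by
  induction hu using Subgroup.closure_induction with
  | mem g hg => obtain ⟨s, a, hs, rfl⟩ := hg; exact hc s hs t a
  | one => exact Commute.one_left _
  | mul a b _ _ ha hb => exact ha.mul_left hb
  | inv a _ ha => exact ha.inv_left

/-- `B` normalises a root subgroup centralised by `U`. -/
lemma map_B_X {r : Φ} (hc : ∀ s, S.pos s → ∀ t u, Commute (R.x s u) (R.x r t)) {b : G} (hb : b ∈ R.B) :
    (R.X r).map (MulAut.conj b).toMonoidHom = R.X r := by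
  obtain ⟨u, hu, h, hh, rfl⟩ := R.mem_B_iff.1 hb
  obtain ⟨a, ha, e⟩ := R.H_scales hh r
  refine map_conj_X R ha fun t => ?_
  have : u * h * R.x r t * (u * h)⁻¹ = u * (h * R.x r t * h⁻¹) * u⁻¹ := by group
  rw [this, e, (U_comm R hc hu _).eq, mul_inv_cancel_right]

lemma map_conj_conj (H : Subgroup G) (a b : G) :
    (H.map (MulAut.conj b).toMonoidHom).map (MulAut.conj a).toMonoidHom =
      H.map (MulAut.conj (a * b)).toMonoidHom := by
  rw [Subgroup.map_map]
  congr 1
  ext x
  simp [mul_assoc]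

lemma map_conj_one (H : Subgroup G) : H.map (MulAut.conj (1 : G)).toMonoidHom = H := by
  ext x
  simp [Subgroup.mem_map]

/-- Two conjugates of the root subgroup. -/
theorem pair_dichotomy (hgen : R.B ⊔ Subgroup.closure (Set.range R.n) = ⊤) {r : Φ}
    (hc : ∀ s, S.pos s → ∀ t u, Commute (R.x s u) (R.x r t))
    (hv : ∀ w : List I, S.actw w r = S.neg r ∨ ∃ v, S.pos (S.actw v r) ∧ S.pos (S.actw v (S.actw w r)))
    (g : G) :
    (∃ h, (R.X r ⊔ (R.X r).map (MulAut.conj g).toMonoidHom).map (MulAut.conj h).toMonoidHom ≤ R.U) ∨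
      ∃ h, (R.X r ⊔ (R.X r).map (MulAut.conj g).toMonoidHom).map (MulAut.conj h).toMonoidHom =
        R.X r ⊔ R.X (S.neg r) := by
  obtain ⟨b, hb, w, -, b', hb', rfl⟩ := R.exists_bruhat (hgen ▸ Subgroup.mem_top g)
  have e1 : (R.X r).map (MulAut.conj (b * R.nw w * b')).toMonoidHom =
      (R.X (S.actw w r)).map (MulAut.conj b).toMonoidHom := by
    rw [← map_conj_conj, ← map_conj_conj, map_B_X R hc hb', map_nw_X]
  have e2 : R.X r ⊔ (R.X r).map (MulAut.conj (b * R.nw w * b')).toMonoidHom =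
      (R.X r ⊔ R.X (S.actw w r)).map (MulAut.conj b).toMonoidHom := by
    rw [e1, Subgroup.map_sup, map_B_X R hc hb]
  rw [e2]
  rcases hv w with h | ⟨v, h1, h2⟩
  · refine Or.inr ⟨b⁻¹, ?_⟩
    rw [map_conj_conj, inv_mul_cancel, map_conj_one, h]
  · refine Or.inl ⟨R.nw v * b⁻¹, ?_⟩
    rw [map_conj_conj, inv_mul_cancel_right, Subgroup.map_sup, map_nw_X, map_nw_X]
    exact sup_le (X_le_U R h1) (X_le_U R h2)

end Cfsg.Agent.Chev54
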