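import Cfsg.Agent.ChevGroup.Exchange
import Cfsg.Agent.Chev54.Conj

/-!
The centraliser of a root element `x_r(1)` in characteristic two when `U` centralises the root subgroup
of `r`: it is generated by `U` and the negatives of the fundamental root subgroups fixing `r`.
-/

set_option autoImplicit false

namespace Cfsg.Agent.Chev54

open ChevGroup

variable {Φ I : Type*} {G : Type*} [Group G] {F : Type*} [Field F] {S : RootIdx Φ I}
  (R : RootRel G F S)

/-- A word fixing the base point of an orbit certificate lies in the smaller parabolic. -/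
lemma mem_par_of_fix [DecidableEq I] {C : Step I} (hC : C.Valid S) (hK : ∀ i, i ∈ C.K) {r : Φ}
    (horb : ∀ i, ∀ c < C.m, S.refl i (S.actw (C.word c) r) = S.actw (C.word (C.act i c)) r)
    (hzero : ∀ c < C.m, S.actw (C.word c) r = r → c = 0)
    {w : List I} (hw : S.actw w r = r) : R.nw w ∈ R.par C.J := by
  obtain ⟨-, -, -, hm, h0, -⟩ := id hC
  have key : ∀ v : List I, ∃ c < C.m, R.nw v • ((1 : G) : G ⧸ R.par C.J) = RootRel.pt R C c ∧
      S.actw v r = S.actw (C.word c) r := by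
    intro v
    induction v with
    | nil => exact ⟨0, hm, by rw [R.nw_nil, one_smul, RootRel.pt_zero hC], by rw [h0]⟩
    | cons i v ih =>
      obtain ⟨c, hc, h1, h2⟩ := ih
      exact ⟨C.act i c, RootRel.act_lt hC (hK i) hc,
        by rw [R.nw_cons, mul_smul, h1, RootRel.edge hC (hK i) hc],
        by rw [S.actw_cons, h2, horb i c hc]⟩
  obtain ⟨c, hc, h1, h2⟩ := key w
  obtain rfl := hzero c hc (h2.symm.trans hw)
  rw [RootRel.pt_zero hC] at h1
  have h3 : ((R.nw w * 1 : G) : G ⧸ R.par C.J) = ((1 : G) : G ⧸ R.par C.J) := h1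
  rw [mul_one, QuotientGroup.eq, mul_one] at h3
  simpa using inv_mem h3

/-- The roots generating the centraliser. -/
def LevPred (S : RootIdx Φ I) (J : List I) (s : Φ) : Prop :=
  S.pos s ∨ ∃ j ∈ J, s = S.neg (S.simple j)

/-- The subgroup generated by `U` and the negatives of the fundamental root subgroups in `J`. -/
def lev (J : List I) : Subgroup G :=
  Subgroup.closure {g | ∃ s t, LevPred S J s ∧ g = R.x s t}

lemma x_mem_lev {J : List I} {s : Φ} (hs : LevPred S J s) (t : F) : R.x s t ∈ lev R J :=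
  Subgroup.subset_closure ⟨s, t, hs, rfl⟩

lemma U_le_lev (J : List I) : R.U ≤ lev R J :=
  Subgroup.closure_mono fun _ ⟨s, t, hs, e⟩ => ⟨s, t, Or.inl hs, e⟩

lemma nr_mem_lev {J : List I} {j : I} (hj : j ∈ J) (c : F) : R.nr (S.simple j) c ∈ lev R J :=
  mul_mem (mul_mem (x_mem_lev R (Or.inl (S.simple_pos j)) _) (x_mem_lev R (Or.inr ⟨j, hj, rfl⟩) _))
    (x_mem_lev R (Or.inl (S.simple_pos j)) _)

lemma hr_mem_lev {J : List I} {j : I} (hj : j ∈ J) (c : F) : R.hr (S.simple j) c ∈ lev R J :=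
  mul_mem (nr_mem_lev R hj _) (nr_mem_lev R hj _)

lemma H_le_normalizer_lev (J : List I) : R.H ≤ Subgroup.normalizer (lev R J : Set G) := by
  have hsc : ∀ g ∈ R.H, ∀ u ∈ lev R J, g * u * g⁻¹ ∈ lev R J := fun g hg u hu =>
    R.conj_mem_uOther_of_scales (LevPred S J) (fun s _ => let ⟨a, _, h⟩ := R.H_scales hg s; ⟨a, h⟩) hu
  intro h hh
  rw [Subgroup.mem_normalizer_iff]
  refine fun u => ⟨hsc h hh u, fun hu => ?_⟩
  have := hsc _ (inv_mem hh) _ hu
  simpa [mul_assoc] using this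

lemma par_le_lev_sup (J : List I) : R.par J ≤ lev R J ⊔ R.H :=
  sup_le (sup_le_sup_right (U_le_lev R J) R.H)
    ((Subgroup.closure_le _).2 fun _ ⟨_, hj, e⟩ => e ▸
      (le_sup_left : lev R J ≤ lev R J ⊔ R.H) (nr_mem_lev R hj 1))

lemma sgn_eq_one [CharP F 2] (i : I) (s : Φ) : R.sgn i s = 1 := by
  rcases mul_self_eq_one_iff.1 (R.sgn_sq i s) with h | h
  · exact h
  · rw [h, CharTwo.neg_eq]

lemma lev_le_centralizer [CharP F 2] {J : List I} {r : Φ} (hfix : ∀ j ∈ J, S.refl j r = r)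
    (hc : ∀ s, S.pos s → ∀ t u, Commute (R.x s u) (R.x r t)) :
    lev R J ≤ Subgroup.centralizer {R.x r 1} := by
  refine (Subgroup.closure_le _).2 ?_
  rintro g ⟨s, t, hs, rfl⟩
  rw [SetLike.mem_coe, Subgroup.mem_centralizer_singleton_iff]
  rcases hs with hs | ⟨j, hj, rfl⟩
  · exact (hc s hs 1 t).eq
  · have hn : Commute (R.n j) (R.x r 1) := by
      have h := R.n_conj' j r 1
      rw [hfix j hj, sgn_eq_one, one_mul] at h
      exact mul_inv_eq_iff_eq_mul.1 h
    have h := R.n_conj' j (S.simple j) t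
    rw [S.refl_simple, sgn_eq_one, one_mul] at h
    rw [← h]
    exact (((hn.mul_left (hc _ (S.simple_pos j) 1 t)).mul_left hn.inv_left)).eq

/-- The centraliser of `x_r(1)`. -/
theorem centralizer_x [DecidableEq I] [CharP F 2]
    (hgen : R.B ⊔ Subgroup.closure (Set.range R.n) = ⊤) {C : Step I} (hC : C.Valid S)
    (hK : ∀ i, i ∈ C.K) {r : Φ}
    (horb : ∀ i, ∀ c < C.m, S.refl i (S.actw (C.word c) r) = S.actw (C.word (C.act i c)) r)
    (hzero : ∀ c < C.m, S.actw (C.word c) r = r → c = 0)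
    (hfix : ∀ j ∈ C.J, S.refl j r = r)
    (hc : ∀ s, S.pos s → ∀ t u, Commute (R.x s u) (R.x r t))
    (hsep : ∀ s a b, R.x r a = R.x s b → a ≠ 0 → s = r)
    (hH : ∀ h ∈ R.H, Commute h (R.x r 1) → h ∈ lev R C.J) :
    Subgroup.centralizer {R.x r 1} = lev R C.J := by
  have hLC := lev_le_centralizer R hfix hc
  refine le_antisymm (fun g hg => ?_) hLC
  rw [Subgroup.mem_centralizer_singleton_iff] at hg
  obtain ⟨b, hb, w, -, b', hb', rfl⟩ := R.exists_bruhat (hgen ▸ Subgroup.mem_top g)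
  have hscale : ∀ b ∈ R.B, ∀ t, ∃ a : F, (t ≠ 0 → a ≠ 0) ∧ b * R.x r t * b⁻¹ = R.x r a := by
    intro b hb t
    obtain ⟨u, hu, h, hh, rfl⟩ := R.mem_B_iff.1 hb
    obtain ⟨a, ha, e⟩ := R.H_scales hh r
    refine ⟨a * t, mul_ne_zero ha, ?_⟩
    have : u * h * R.x r t * (u * h)⁻¹ = u * (h * R.x r t * h⁻¹) * u⁻¹ := by group
    rw [this, e, (U_comm R hc hu _).eq, mul_inv_cancel_right]
  obtain ⟨a, ha, e1⟩ := hscale b' hb' 1
  obtain ⟨a', ha', e2⟩ := hscale b⁻¹ (inv_mem hb) 1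
  obtain ⟨e, -, e3⟩ := R.nw_conj w r
  have e4 : R.x r a' = R.x (S.actw w r) (e * a) := by
    rw [← e2, ← e3, ← e1]
    calc b⁻¹ * R.x r 1 * b⁻¹⁻¹
        = b⁻¹ * (R.x r 1 * (b * R.nw w * b')) * (R.nw w * b')⁻¹ := by group
      _ = b⁻¹ * ((b * R.nw w * b') * R.x r 1) * (R.nw w * b')⁻¹ := by rw [hg]
      _ = R.nw w * (b' * R.x r 1 * b'⁻¹) * (R.nw w)⁻¹ := by group
  have hw : S.actw w r = r := hsep _ _ _ e4 (ha' one_ne_zero)
  have hgP : b * R.nw w * b' ∈ R.par C.J :=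
    mul_mem (mul_mem (R.B_le_par _ hb) (mem_par_of_fix R hC hK horb hzero hw)) (R.B_le_par _ hb')
  have hg' := par_le_lev_sup R C.J hgP
  rw [← SetLike.mem_coe, Subgroup.coe_mul_of_right_le_normalizer_left _ _ (H_le_normalizer_lev R C.J),
    Set.mem_mul] at hg'
  obtain ⟨l, hl, h, hh, heq⟩ := hg'
  have hl' := Subgroup.mem_centralizer_singleton_iff.1 (hLC hl)
  have hlh : Commute (l * h) (R.x r 1) := by
    rw [heq]; exact hg
  rw [← heq]
  refine mul_mem hl (hH h hh ?_)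
  have := (Commute.inv_left hl').mul_left hlh
  rwa [inv_mul_cancel_left] at this

end Cfsg.Agent.Chev54
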