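import Cfsg.Agent.Chev54.Transfer
import Cfsg.Agent.Chev54.Centr

/-!
Centralisers of root elements in the Chevalley groups: the decomposition of `H` and the transfer to
matrices.
-/

set_option autoImplicit false

namespace Cfsg.Agent.Chev54

open Cfsg.Lie ChevGroup

section Scales

variable {Φ I : Type*} {G : Type*} [Group G] {F : Type*} [Field F] {S : RootIdx Φ I}
  (R : RootRel G F S)

/-- `g` scales every root group as prescribed by `a`. -/
def ScalesBy (g : G) (a : Φ → F) : Prop := ∀ s t, g * R.x s t * g⁻¹ = R.x s (a s * t)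

lemma ScalesBy.mul {g g' : G} {a a' : Φ → F} (h : ScalesBy R g a) (h' : ScalesBy R g' a') :
    ScalesBy R (g * g') fun s => a s * a' s := by
  intro s t
  have e : g * g' * R.x s t * (g * g')⁻¹ = g * (g' * R.x s t * g'⁻¹) * g⁻¹ := by group
  rw [e, h' s t, h s, mul_assoc]

lemma scalesBy_one : ScalesBy R 1 fun _ => 1 := fun s t => by simp

lemma ScalesBy.congr {g : G} {a a' : Φ → F} (h : ScalesBy R g a) (e : ∀ s, a s = a' s) :
    ScalesBy R g a' := fun s t => by rw [h s t, e s]

end Scales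

variable {D : ChevalleyDatum} (T : Model D) {F : Type*} [Field F] (K : Rels D F)

include K in
lemma x_param_inj {r : Fin T.tab.n} {a b : F} (h : (T.rel K).x r a = (T.rel K).x r b) : a = b := by
  have h2 : (T.rel K).x r (a - b) = 1 := by
    rw [sub_eq_add_neg, (T.rel K).x_add, h, (T.rel K).x_neg, mul_inv_cancel]
  exact sub_eq_zero.1 (T.x_ne K r _ h2)

include K in
lemma x_root_sep {r s : Fin T.tab.n} {a b : F} (h : (T.rel K).x r a = (T.rel K).x s b) (ha : a ≠ 0) :
    s = r := by
  by_contra hsr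
  have hs := T.shape
  simp only [Mat.shapeB, Bool.and_eq_true, List.all_eq_true, decide_eq_true_eq, List.mem_range] at hs
  obtain ⟨⟨hnegr, hprim⟩, -⟩ := hs.2 r.val (T.lt r)
  obtain ⟨⟨hnegs, -⟩, -⟩ := hs.2 s.val (T.lt s)
  simp only [Mat.primB, List.any_eq_true, List.mem_range, beq_iff_eq] at hprim
  have hget : ∀ (a : Array ℤ) (k : ℕ), a.getD k 0 = a.toList.getD k 0 := by
    intro a k
    simp [Array.getD_eq_getD_getElem?, List.getD_eq_getElem?_getD]
  obtain ⟨i, hi⟩ : ∃ i : Fin D.rank, (((D.coroot.getD r.val #[]).getD i.val 0 : ℤ) : F) ≠ 0 := by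
    by_contra hcon
    obtain ⟨i, hi, j, hj, hg⟩ := hprim
    have h1 := not_not.1 fun h0 => hcon ⟨⟨i, hi⟩, h0⟩
    have h2 := not_not.1 fun h0 => hcon ⟨⟨j, hj⟩, h0⟩
    simp only [hget] at h1 h2
    generalize (D.coroot.getD r.val #[]).toList.getD i 0 = a at h1 hg
    generalize (D.coroot.getD r.val #[]).toList.getD j 0 = b at h2 hg
    have hb := Int.gcd_eq_gcd_ab a b
    rw [hg] at hb
    have := congrArg (Int.cast : ℤ → F) hb
    simp [h1, h2] at this
  have hr := T.lt r
  have hsl := T.lt s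
  have hne : s.val ≠ r.val := fun e => hsr (Fin.ext e)
  let c : Fin D.nroots := ⟨D.nroots - 1 - r.val, by omega⟩
  have hc1 : c ≠ ⟨r.val, hr⟩ := fun e => by
    have := congrArg Fin.val e; simp only [c] at this; omega
  have e := congrFun (congrFun (congrArg Model.mat h) (Sum.inl i)) (Sum.inr c)
  change D.x F r.val a (Sum.inl i) (Sum.inr c) = D.x F s.val b (Sum.inl i) (Sum.inr c) at e
  rw [ChevalleyDatum.x, dif_pos hr, ChevalleyDatum.x, dif_pos hsl] at e
  have hcn : c.val = D.negIdx.getD r.val 0 := hnegr.symm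
  have hcs : c.val ≠ D.negIdx.getD s.val 0 := by rw [hnegs]; simp only [c]; omega
  simp only [ChevalleyDatum.xMat, Matrix.of_apply, if_neg hc1, if_pos hcn] at e
  split_ifs at e with hc2
  · exact mul_ne_zero hi ha e
  · exact mul_ne_zero hi ha e

/-- The coroots of the fundamental roots are the unit vectors. -/
def unitB (D : ChevalleyDatum) : Bool :=
  (List.range D.rank).all fun i => (List.range D.rank).all fun j =>
    decide ((D.coroot.getD (D.simple i) #[]).getD j 0 = if i = j then 1 else 0)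

omit T in
lemma pairing_simple (hu : unitB D = true) {i : ℕ} (hi : i < D.rank) (s : ℕ) :
    D.pairing (D.simple i) s = D.cartan i s := by
  simp only [unitB, List.all_eq_true, List.mem_range, decide_eq_true_eq] at hu
  rw [ChevalleyDatum.pairing, List.map_congr_left (g := fun j => if i = j then D.cartan j s else 0)]
  · rw [← List.sum_toFinset _ List.nodup_range]
    simp [List.toFinset_range, hi]
  · intro j hj
    rw [hu i hi j (List.mem_range.1 hj), ite_mul, one_mul, zero_mul]

include K in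
lemma scalesBy_hr (r : Fin T.tab.n) {c : F} (hc : c ≠ 0) :
    ScalesBy (T.rel K) ((T.rel K).hr r c) fun s => c ^ D.pairing r.val s.val := by
  intro s t
  rw [mul_inv_eq_iff_eq_mul]
  apply Model.mat_inj
  rw [Model.mat_mul, Model.mat_mul]
  show Model.mat (hOf T.S.neg (T.xG K) r c) * D.x F s.val t =
    D.x F s.val _ * Model.mat (hOf T.S.neg (T.xG K) r c)
  rw [T.mat_hOf]
  exact K.h_conj _ _ (T.lt r) (T.lt s) c t hc

include K in
lemma eq_of_scalesBy {g g' : ↥(D.group F)} (hg : g ∈ (T.rel K).H) (hg' : g' ∈ (T.rel K).H)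
    {a : Fin T.tab.n → F} (h : ScalesBy (T.rel K) g a) (h' : ScalesBy (T.rel K) g' a) : g = g' := by
  refine (inv_mul_eq_one.1 (T.faithful K (mul_mem (inv_mem hg') hg) fun s t => ?_)).symm
  have e : g * (T.rel K).x s t * g⁻¹ = g' * (T.rel K).x s t * g'⁻¹ := (h s t).trans (h' s t).symm
  calc g'⁻¹ * g * (T.rel K).x s t = g'⁻¹ * (g * (T.rel K).x s t * g⁻¹) * g := by group
    _ = g'⁻¹ * (g' * (T.rel K).x s t * g'⁻¹) * g := by rw [e]
    _ = (T.rel K).x s t * (g'⁻¹ * g) := by group

include K in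
/-- `H` is generated by the `h` of the fundamental roots. -/
lemma H_le_closure_simple (hu : unitB D = true) :
    (T.rel K).H ≤ Subgroup.closure
      {g | ∃ (i : Fin T.tab.l) (c : F), c ≠ 0 ∧ g = (T.rel K).hr (T.S.simple i) c} := by
  set A : Subgroup ↥(D.group F) := Subgroup.closure
      {g | ∃ (i : Fin T.tab.l) (c : F), c ≠ 0 ∧ g = (T.rel K).hr (T.S.simple i) c}
  refine (Subgroup.closure_le _).2 ?_
  rintro g ⟨r, c, hc, rfl⟩
  have key : ∀ L : List ℕ, (∀ i ∈ L, i < D.rank) → ∃ p ∈ A ⊓ (T.rel K).H, ScalesBy (T.rel K) p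
      fun s => c ^ (L.map fun i => (D.coroot.getD r.val #[]).getD i 0 * D.cartan i s.val).sum := by
    intro L
    induction L with
    | nil => exact fun _ => ⟨1, one_mem _, (scalesBy_one _).congr _ fun s => by simp⟩
    | cons i L ih =>
      intro hL
      obtain ⟨p, hp, hs⟩ := ih fun j hj => hL j (List.mem_cons_of_mem _ hj)
      have hi := hL i (List.mem_cons_self ..)
      let i' : Fin T.tab.l := ⟨i, T.l_eq.symm ▸ hi⟩
      set d := c ^ (D.coroot.getD r.val #[]).getD i 0 with hd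
      have hd0 : d ≠ 0 := zpow_ne_zero _ hc
      refine ⟨(T.rel K).hr (T.S.simple i') d * p,
        mul_mem ⟨Subgroup.subset_closure ⟨i', d, hd0, rfl⟩, (T.rel K).hr_mem_H hd0⟩ hp,
        ((scalesBy_hr T K _ hd0).mul _ hs).congr _ fun s => ?_⟩
      simp only [List.map_cons, List.sum_cons, zpow_add₀ hc, T.simple_eq]
      rw [pairing_simple hu hi, hd, ← zpow_mul]
  obtain ⟨p, hp, hs⟩ := key (List.range D.rank) fun i hi => List.mem_range.1 hi
  rw [SetLike.mem_coe, eq_of_scalesBy T K ((T.rel K).hr_mem_H hc) hp.2 (scalesBy_hr T K r hc) hs]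
  exact hp.1

/-- The finite checks for the centraliser of `x_r(1)`. -/
def centB (C : Step (Fin T.tab.l)) (r : Fin T.tab.n) (i0 : Fin T.tab.l) : Bool :=
  ((List.finRange T.tab.l).all fun i => decide (i ∈ C.K) && (decide (i ∈ C.J) || decide (i = i0)) &&
    (List.range C.m).all fun c =>
      decide (T.S.refl i (T.S.actw (C.word c) r) = T.S.actw (C.word (C.act i c)) r)) &&
  ((List.range C.m).all fun c => decide (c = 0) || !decide (T.S.actw (C.word c) r = r)) &&
  (C.J.all fun j => decide (T.S.refl j r = r)) && decide (D.cartan i0.val r.val = 1) && unitB D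

include K in
theorem centralizer_rootElem [CharP F 2] {wit : List (List (Fin T.tab.l) × Fin T.tab.l)}
    (hwit : T.witB wit = true) {C : Step (Fin T.tab.l)} (hC : C.Valid T.S) {r : Fin T.tab.n}
    {i0 : Fin T.tab.l} (hB : centB T C r i0 = true)
    (hc : ∀ s, D.IsPosRoot s → ∀ t u : F, D.x F s u * D.x F r.val t = D.x F r.val t * D.x F s u)
    {negs : List ℕ} (hnegs : C.J.map (fun j => (T.S.neg (T.S.simple j)).val) = negs)
    (z : GL D.Idx F) (hz : (z : Matrix D.Idx D.Idx F) = D.x F r.val 1) :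
    D.group F ⊓ Subgroup.centralizer {z} = D.posUnipotent F ⊔
      Subgroup.closure {g | ∃ s ∈ negs, ∃ c : F, (g : Matrix D.Idx D.Idx F) = D.x F s c} := by
  set R := T.rel K
  simp only [centB, Bool.and_eq_true, List.all_eq_true, decide_eq_true_eq, List.mem_range,
    Bool.or_eq_true, Bool.not_eq_true', decide_eq_false_iff_not] at hB
  obtain ⟨⟨⟨⟨hall, hzero⟩, hfix⟩, hcar⟩, hu⟩ := hB
  have hcomm : ∀ s, T.S.pos s → ∀ t u, Commute (R.x s u) (R.x r t) := by
    intro s hs t u
    refine Model.mat_inj ?_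
    rw [Model.mat_mul, Model.mat_mul]
    exact hc s.val ((T.pos_val s).1 hs) t u
  have hH : ∀ h ∈ R.H, Commute h (R.x r 1) → h ∈ lev R C.J := by
    intro h hh hcm
    have hA : h ∈ (lev R C.J ⊓ R.H) ⊔ Subgroup.closure {g | ∃ d, d ≠ 0 ∧ g = R.hr (T.S.simple i0) d} := by
      refine (H_le_closure_simple T K hu).trans ((Subgroup.closure_le _).2 ?_) hh
      rintro g ⟨i, c, hc0, rfl⟩
      rcases (hall i (List.mem_finRange i)).1.2 with hi | rfl
      · exact (le_sup_left : _ ≤ (lev R C.J ⊓ R.H) ⊔ _) ⟨hr_mem_lev R hi c, R.hr_mem_H hc0⟩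
      · exact (le_sup_right (a := lev R C.J ⊓ R.H) : _ ≤ _) (Subgroup.subset_closure ⟨c, hc0, rfl⟩)
    have hnorm : Subgroup.closure {g | ∃ d, d ≠ 0 ∧ g = R.hr (T.S.simple i0) d} ≤
        Subgroup.normalizer ((lev R C.J ⊓ R.H : Subgroup ↥(D.group F)) : Set ↥(D.group F)) := by
      refine (Subgroup.closure_le _).2 ?_
      rintro g ⟨d, hd, rfl⟩
      have hg := R.hr_mem_H (r := T.S.simple i0) hd
      rw [SetLike.mem_coe, Subgroup.mem_normalizer_iff]
      intro y
      have h1 := Subgroup.mem_normalizer_iff.1 (H_le_normalizer_lev R C.J hg) y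
      simp only [Subgroup.mem_inf]
      refine ⟨fun hy => ⟨h1.1 hy.1, mul_mem (mul_mem hg hy.2) (inv_mem hg)⟩, fun hy => ⟨h1.2 hy.1, ?_⟩⟩
      simpa [mul_assoc] using mul_mem (mul_mem (inv_mem hg) hy.2) hg
    rw [← SetLike.mem_coe, Subgroup.coe_mul_of_right_le_normalizer_left _ _ hnorm, Set.mem_mul] at hA
    obtain ⟨l, hl, p, hp, rfl⟩ := hA
    obtain ⟨d, hd, rfl⟩ : ∃ d, d ≠ 0 ∧ p = R.hr (T.S.simple i0) d := by
      clear hh hcm
      induction hp using Subgroup.closure_induction with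
      | mem g hg => exact hg
      | one =>
        refine ⟨1, one_ne_zero, eq_of_scalesBy T K (one_mem _) (R.hr_mem_H one_ne_zero)
          (scalesBy_one R) ((scalesBy_hr T K _ one_ne_zero).congr _ fun s => by simp)⟩
      | mul a b _ _ ha hb =>
        obtain ⟨d, hd, rfl⟩ := ha
        obtain ⟨e, he, rfl⟩ := hb
        exact ⟨d * e, mul_ne_zero hd he, eq_of_scalesBy T K
          (mul_mem (R.hr_mem_H hd) (R.hr_mem_H he)) (R.hr_mem_H (mul_ne_zero hd he))
          (((scalesBy_hr T K _ hd).mul _ (scalesBy_hr T K _ he)).congr _ fun s => (mul_zpow _ _ _).symm)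
          (scalesBy_hr T K _ (mul_ne_zero hd he))⟩
      | inv a _ ha =>
        obtain ⟨d, hd, rfl⟩ := ha
        refine ⟨d⁻¹, inv_ne_zero hd, inv_eq_of_mul_eq_one_right (eq_of_scalesBy T K
          (mul_mem (R.hr_mem_H hd) (R.hr_mem_H (inv_ne_zero hd))) (one_mem _) ?_ (scalesBy_one R))⟩
        exact ((scalesBy_hr T K _ hd).mul _ (scalesBy_hr T K _ (inv_ne_zero hd))).congr _ fun s => by
          rw [← mul_zpow, mul_inv_cancel₀ hd, one_zpow]
    have hlc : Commute l (R.x r 1) :=
      Subgroup.mem_centralizer_singleton_iff.1 (lev_le_centralizer R hfix hcomm hl.1)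
    have hd1 : d = 1 := by
      have hpc : Commute (R.hr (T.S.simple i0) d) (R.x r 1) := by
        have := (Commute.inv_left hlc).mul_left hcm
        rwa [inv_mul_cancel_left] at this
      have e := scalesBy_hr T K (T.S.simple i0) hd r 1
      simp only [] at e
      rw [hpc.eq, mul_inv_cancel_right, T.simple_eq, pairing_simple hu (T.lt_l i0), hcar, zpow_one,
        mul_one] at e
      exact (x_param_inj T K e).symm
    subst hd1
    have h1 : R.hr (T.S.simple i0) 1 = 1 :=
      eq_of_scalesBy T K (R.hr_mem_H one_ne_zero) (one_mem _)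
        ((scalesBy_hr T K _ one_ne_zero).congr _ fun s => one_zpow _) (scalesBy_one R)
    rw [h1, mul_one]
    exact hl.1
  have hmain := centralizer_x R (T.group_top K hwit) hC (fun i => (hall i (List.mem_finRange i)).1.1)
    (fun i c hc' => (hall i (List.mem_finRange i)).2 c hc')
    (fun c hc' e => (hzero c hc').resolve_right (fun h => h e)) hfix hcomm
    (fun s a b e ha => x_root_sep T K e ha) hH
  have hzmem : z = ((R.x r 1 : ↥(D.group F)) : GL D.Idx F) := Units.ext hz
  have hLmap : (lev R C.J).map (D.group F).subtype = D.posUnipotent F ⊔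
      Subgroup.closure {g | ∃ s ∈ negs, ∃ c : F, (g : Matrix D.Idx D.Idx F) = D.x F s c} := by
    rw [lev, MonoidHom.map_closure, ChevalleyDatum.posUnipotent, ← Subgroup.closure_union]
    congr 1
    ext g
    constructor
    · rintro ⟨_, ⟨s, t, hs, rfl⟩, rfl⟩
      rcases hs with hs | ⟨j, hj, rfl⟩
      · exact Or.inl ⟨s.val, t, (T.pos_val s).1 hs, rfl⟩
      · exact Or.inr ⟨_, hnegs ▸ List.mem_map.2 ⟨j, hj, rfl⟩, t, rfl⟩
    · rintro (⟨s, t, hs, he⟩ | ⟨s, hs, t, he⟩)
      · exact ⟨R.x (idxR T hs.1) t, ⟨_, t, Or.inl ((T.pos_val (idxR T hs.1)).2 hs), rfl⟩,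
          Units.ext he.symm⟩
      · obtain ⟨j, hj, rfl⟩ := List.mem_map.1 (hnegs.symm ▸ hs)
        exact ⟨R.x (T.S.neg (T.S.simple j)) t, ⟨_, t, Or.inr ⟨j, hj, rfl⟩, rfl⟩, Units.ext he.symm⟩
  rw [← hLmap, ← hmain]
  ext g
  rw [Subgroup.mem_inf, Subgroup.mem_centralizer_singleton_iff, Subgroup.mem_map, hzmem]
  constructor
  · rintro ⟨hg, he⟩
    exact ⟨⟨g, hg⟩, Subgroup.mem_centralizer_singleton_iff.2 (Subtype.ext he), rfl⟩
  · rintro ⟨g', hg', rfl⟩
    exact ⟨g'.2, congrArg Subtype.val (Subgroup.mem_centralizer_singleton_iff.1 hg')⟩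

omit T K in
lemma closure_negs_three (D : ChevalleyDatum) (F : Type*) [Field F] (P : Subgroup (GL D.Idx F)) (a b c : ℕ) :
    P ⊔ Subgroup.closure {g | ∃ s ∈ [a, b, c], ∃ t : F, (g : Matrix D.Idx D.Idx F) = D.x F s t} =
      P ⊔ D.rootSubgroup F a ⊔ D.rootSubgroup F b ⊔ D.rootSubgroup F c := by
  simp only [ChevalleyDatum.rootSubgroup, sup_assoc, ← Subgroup.closure_union]
  refine congrArg (fun S => P ⊔ Subgroup.closure S) ?_
  ext g
  simp [or_assoc]

end Cfsg.Agent.Chev54
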