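import Cfsg.Agent.ChevGroup.Mat.G2
import Cfsg.Agent.ChevGroup.Mat.F4
import Cfsg.Agent.ChevGroup.Mat.E6
import Cfsg.Agent.ChevGroup.Mat.E7
import Cfsg.Agent.ChevGroup.Mat.E8
import Cfsg.Agent.Chev54.StabCert
import Cfsg.Agent.Chev54.CentrModel

/-!
The finite checks for the centralisers of the root involutions.
-/

set_option autoImplicit false

namespace Cfsg.Agent.Chev54

open ChevGroup

theorem centB_F4long : centB TypeF4.model (TypeF4.tab.step stabF4long) (47 : Fin 48) (3 : Fin 4) = true := by
  decide +kernel

theorem centB_F4short : centB TypeF4.model (TypeF4.tab.step stabF4short) (44 : Fin 48) (0 : Fin 4) = true := by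
  decide +kernel

theorem centB_E6 : centB TypeE6.model (TypeE6.tab.step stabE6) (71 : Fin 72) (1 : Fin 6) = true := by
  decide +kernel

theorem centB_E7 : centB TypeE7.model (TypeE7.tab.step stabE7) (125 : Fin 126) (0 : Fin 7) = true := by
  decide +kernel

theorem centB_E8 : centB TypeE8.model (TypeE8.tab.step stabE8) (239 : Fin 240) (7 : Fin 8) = true := by
  decide +kernel

theorem centB_G2 : centB TypeG2.model (TypeG2.tab.step stabG2) (11 : Fin 12) (1 : Fin 2) = true := by
  decide +kernel

theorem negs_F4long : (TypeF4.tab.step stabF4long).J.map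
    (fun j => (TypeF4.model.S.neg (TypeF4.model.S.simple j)).val) = [14, 20, 22] := by decide +kernel

theorem negs_F4short : (TypeF4.tab.step stabF4short).J.map
    (fun j => (TypeF4.model.S.neg (TypeF4.model.S.simple j)).val) = [20, 22, 23] := by decide +kernel

theorem negs_E6 : (TypeE6.tab.step stabE6).J.map
    (fun j => (TypeE6.model.S.neg (TypeE6.model.S.simple j)).val) = [15, 29, 32, 34, 35] := by
  decide +kernel

theorem negs_E7 : (TypeE7.tab.step stabE7).J.map
    (fun j => (TypeE7.model.S.neg (TypeE7.model.S.simple j)).val) = [47, 52, 56, 59, 61, 62] := by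
  decide +kernel

theorem negs_E8 : (TypeE8.tab.step stabE8).J.map
    (fun j => (TypeE8.model.S.neg (TypeE8.model.S.simple j)).val) = [77, 98, 104, 109, 113, 116, 118] := by
  decide +kernel

theorem negs_G2 : (TypeG2.tab.step stabG2).J.map
    (fun j => (TypeG2.model.S.neg (TypeG2.model.S.simple j)).val) = [4] := by decide +kernel

end Cfsg.Agent.Chev54
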