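import Cfsg.Agent.Lib.ChevCore.CommAll
import Cfsg.Agent.ChevGroup.Mat.G2
import Cfsg.Agent.ChevGroup.Mat.B2
import Cfsg.Agent.ChevGroup.Mat.D4
import Cfsg.Agent.ChevGroup.Mat.F4
import Cfsg.Agent.ChevGroup.Mat.E6
import Cfsg.Agent.ChevGroup.Mat.E7
import Cfsg.Agent.ChevGroup.Mat.E8
import Cfsg.Agent.Chev54.Inst

/-!
A model with its Boolean side conditions for each of the seven data.
-/

set_option autoImplicit false

namespace Cfsg.Agent.Chev54

open Cfsg.Lie ChevGroup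

/-- A model and the certificates of its root system. -/
structure Pack (D : ChevalleyDatum) where
  T : Model D
  wit : List (List (Fin T.tab.l) × Fin T.tab.l)
  hwit : T.witB wit = true
  w0 : List (Fin T.tab.l)
  hlong : T.longestB w0 = true
  hpos : Mat.spanB D (T.posList.map Fin.val) = true
  comm : ChevCore.CommGood D

/-- Each of the seven data has a model. -/
theorem pack_of_mem {D : ChevalleyDatum}
    (hD : D ∈ [chevG2, chevB2, chevD4, chevF4, chevE6, chevE7, chevE8]) : Nonempty (Pack D) := by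
  simp only [List.mem_cons, List.not_mem_nil, or_false] at hD
  rcases hD with rfl | rfl | rfl | rfl | rfl | rfl | rfl
  · exact ⟨⟨TypeG2.model, _, TypeG2.wit_ok, _, TypeG2.longest_ok, TypeG2.pos_span, ChevCore.commGoodG2⟩⟩
  · exact ⟨⟨TypeB2.model, _, TypeB2.wit_ok, _, TypeB2.longest_ok, TypeB2.pos_span, ChevCore.commGoodB2⟩⟩
  · exact ⟨⟨TypeD4.model, _, TypeD4.wit_ok, _, TypeD4.longest_ok, TypeD4.pos_span, ChevCore.commGoodD4⟩⟩
  · exact ⟨⟨TypeF4.model, _, TypeF4.wit_ok, _, TypeF4.longest_ok, TypeF4.pos_span, ChevCore.commGoodF4⟩⟩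
  · exact ⟨⟨TypeE6.model, _, TypeE6.wit_ok, _, TypeE6.longest_ok, TypeE6.pos_span, ChevCore.commGoodE6⟩⟩
  · exact ⟨⟨TypeE7.model, _, TypeE7.wit_ok, _, TypeE7.longest_ok, TypeE7.pos_span, ChevCore.commGoodE7⟩⟩
  · exact ⟨⟨TypeE8.model, _, TypeE8.wit_ok, _, TypeE8.longest_ok, TypeE8.pos_span, ChevCore.commGoodE8⟩⟩

end Cfsg.Agent.Chev54
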