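import Cfsg.Agent.Chev54.Diagonal
import Cfsg.Agent.Chev54.Models
import Cfsg.Agent.Chev54.CentrModel

/-!
An element commuting with every `x_s(1)` is trivial: it scales the highest root vector, hence everything
that is generated from it by the integral root elements.
-/

set_option autoImplicit false

namespace Cfsg.Agent.Chev54

open Cfsg.Lie ChevGroup Cfsg.Agent.ChevCore Matrix

variable {D : ChevalleyDatum}

/-- A straight-line recipe for a short root vector, and words for the fundamental roots. -/
structure Recipe (l : ℕ) where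
  start : List (Fin l)
  ops : List (ℕ × List (List (Fin l) × ℤ))
  short : ℕ
  simples : List (Bool × List (Fin l))

/-- The vector computed by a recipe. -/
noncomputable def recipeVec (T : Model D) (top : Fin T.tab.n) : List (ℕ × List (List (Fin T.tab.l) × ℤ)) → SVec → SVec
  | [], v => v
  | op :: ops, v => recipeVec T top ops
      (kapp (applyX D (std D) op.1 1 v)
        (kapp (scaleS (-1) v) (op.2.map fun p => ((T.S.actw p.1 top).val, p.2))))

/-- The checks on a recipe: the recipe gives plus or minus the short root vector, all fundamental roots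
are images of the highest or of this short root, and the highest root line is fixed by `U`. -/
noncomputable def recipeB (T : Model D) (top : Fin T.tab.n) (C : Recipe T.tab.l) : Bool :=
  decide (C.short < T.tab.n) && Mat.spanB D [top.val] &&
  (C.ops.isEmpty || eqS (recipeVec T top C.ops [((T.S.actw C.start top).val, 1)]) [(C.short, 1)] ||
    eqS (recipeVec T top C.ops [((T.S.actw C.start top).val, 1)]) [(C.short, -1)]) &&
  (C.ops.all fun op => decide (op.1 < T.tab.n)) &&
  decide (C.simples.length = T.tab.l) &&
  (List.finRange T.tab.l).all fun j => match C.simples[j.val]? with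
    | none => false
    | some (true, w) => decide (T.S.actw w top = T.S.simple j)
    | some (false, w) => !C.ops.isEmpty &&
        decide (T.S.actw w (Fin.ofNat T.tab.n C.short) = T.S.simple j)

variable {k : Type*} [Field k]

lemma vec_applyX' (r : ℕ) (z : ℤ) (L : SVec) :
    vec D k (applyX D (std D) r z L) = xR D k r (z : k) *ᵥ vec D k L := by
  have e : ∀ j, colW D (std D) j r = col D j r := fun _ => rfl
  rw [applyX, forceS_eq, forceN_eq]
  simp only [e, vec_kapp, vec_scaleS, vec_applyC_col, xR, Matrix.add_mulVec, Matrix.smul_mulVec,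
    Matrix.one_mulVec, pow_two, pow_succ, pow_zero, one_mul, add_assoc, Int.cast_mul]

/-- An element commuting with all `x_s(1)` is trivial. -/
theorem eq_one_of_commute_ones (T : Model D) (hD : CommGood D)
    {wit : List (List (Fin T.tab.l) × Fin T.tab.l)} (hwit : T.witB wit = true) (top : Fin T.tab.n)
    (hterms : ∀ s, D.IsPosRoot s → ∀ t u : k, D.x k s u * D.x k top.val t = D.x k top.val t * D.x k s u)
    {C : Recipe T.tab.l} (hC : recipeB T top C = true) (c : ↥(D.group k))
    (hc : ∀ s, Commute c ((T.rel (relsOfCommGood hD k)).x s 1)) : c = 1 := by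
  set K := relsOfCommGood hD k
  set R := T.rel K
  set M := T.shapeR K
  have hG := hD.toGood
  have hcm : ∀ s t, (t = 1 ∨ t = -1) → Commute c (R.x s t) := by
    rintro s t (rfl | rfl)
    · exact hc s
    · rw [R.x_neg]; exact (hc s).inv_right
  have hcn : ∀ i, Commute c (R.n i) := fun i => by
    refine ((hcm _ 1 (Or.inl rfl)).mul_right (hcm _ _ (Or.inr ?_))).mul_right (hcm _ 1 (Or.inl rfl))
    simp
  have hcw : ∀ w, Commute c (R.nw w) := fun w => Commute.list_prod_right _ _ fun y hy => by
    obtain ⟨i, -, rfl⟩ := List.mem_map.1 hy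
    exact hcn i
  simp only [recipeB, Bool.and_eq_true, decide_eq_true_eq, Bool.or_eq_true, List.all_eq_true] at hC
  obtain ⟨⟨⟨⟨⟨hshort, hspan⟩, hops⟩, hlt⟩, -⟩, hsimp⟩ := hC
  -- the highest root vector is an eigenvector
  have htopP : ∀ g ∈ R.B, M.Pres (fun s => s ∈ [top]) g := fun g hg =>
    M.pres_par (J := []) (fun r t hr => T.pres_of_spanB K (by simpa using hspan) r t hr)
      (fun j hj => by simp at hj) (R.B_le_par _ hg)
  obtain ⟨b, hb, w, -, b', hb', hbw⟩ := R.exists_bruhat ((T.group_top K hwit).ge (Subgroup.mem_top c))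
  obtain ⟨e, -, he⟩ := R.nw_conj w top
  have hU : ∀ s, T.S.pos s → ∀ t u, Commute (R.x s u) (R.x top t) := fun s hs t u => by
    refine Model.mat_inj ?_
    rw [Model.mat_mul, Model.mat_mul]
    exact hterms s.val ((T.pos_val s).1 hs) t u
  have hwtop : T.S.actw w top = top := by
    have hscale : ∀ b ∈ R.B, ∀ t, ∃ a : k, (t ≠ 0 → a ≠ 0) ∧ b * R.x top t * b⁻¹ = R.x top a := by
      intro b hb t
      obtain ⟨u, hu, h, hh, rfl⟩ := R.mem_B_iff.1 hb
      obtain ⟨a, ha, e⟩ := R.H_scales hh top
      refine ⟨a * t, mul_ne_zero ha, ?_⟩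
      have : u * h * R.x top t * (u * h)⁻¹ = u * (h * R.x top t * h⁻¹) * u⁻¹ := by group
      rw [this, e, (U_comm R hU hu _).eq, mul_inv_cancel_right]
    obtain ⟨a, -, e1⟩ := hscale b' hb' 1
    obtain ⟨a', ha', e2⟩ := hscale b⁻¹ (inv_mem hb) 1
    refine x_root_sep T K (b := e * a) (a := a') ?_ (ha' one_ne_zero)
    rw [← e2, ← he, ← e1]
    calc b⁻¹ * R.x top 1 * b⁻¹⁻¹
        = b⁻¹ * (R.x top 1 * (b * R.nw w * b')) * (R.nw w * b')⁻¹ := by group
      _ = b⁻¹ * ((b * R.nw w * b') * R.x top 1) * (R.nw w * b')⁻¹ := by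
          rw [← hbw, (hc top).eq]
      _ = R.nw w * (b' * R.x top 1 * b'⁻¹) * (R.nw w)⁻¹ := by group
  have hpres : M.Pres (fun s => s ∈ [top]) c := by
    rw [hbw]
    refine M.pres_mul (M.pres_mul (htopP b hb) ?_) (htopP b' hb')
    intro r hr a ha
    obtain rfl := List.mem_singleton.1 hr
    exact M.mono_word w _ a (by rw [hwtop]; exact ha _ hr)
  set lam := M.mat c (M.e top) (M.e top)
  -- the eigenspace is invariant under the integral root elements and the `n`
  let E : Submodule k (D.Idx → k) :=
    { carrier := {v | M.mat c *ᵥ v = lam • v}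
      add_mem' := fun {v v'} hv hv' => by
        show _ *ᵥ (v + v') = lam • (v + v')
        rw [Matrix.mulVec_add, hv, hv', smul_add]
      zero_mem' := by simp
      smul_mem' := fun a v hv => by
        show _ *ᵥ (a • v) = lam • (a • v)
        rw [Matrix.mulVec_smul, hv, smul_comm] }
  have hinv : ∀ g, Commute c g → ∀ v ∈ E, M.mat g *ᵥ v ∈ E := fun g hg v hv => by
    show M.mat c *ᵥ (M.mat g *ᵥ v) = lam • (M.mat g *ᵥ v)
    rw [Matrix.mulVec_mulVec, ← M.mat_mul, hg.eq, M.mat_mul, ← Matrix.mulVec_mulVec, hv,
      Matrix.mulVec_smul]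
  have htopE : Pi.single (M.e top) (1 : k) ∈ E := by
    show M.mat c *ᵥ _ = lam • _
    funext a
    rw [Matrix.mulVec_single_one, Matrix.col_apply, Pi.smul_apply, smul_eq_mul]
    rcases eq_or_ne a (M.e top) with rfl | hne
    · rw [Pi.single_eq_same, mul_one]
    · rw [Pi.single_eq_of_ne hne, mul_zero]
      exact hpres top (List.mem_singleton_self _) a fun s hs => by rw [List.mem_singleton.1 hs]; exact hne
  have horbit : ∀ (w : List (Fin T.tab.l)) (r : Fin T.tab.n), Pi.single (M.e r) (1 : k) ∈ E →
      Pi.single (M.e (T.S.actw w r)) (1 : k) ∈ E := by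
    intro w r hr
    have h := hinv _ (hcw w) _ hr
    have e : M.mat (R.nw w) *ᵥ Pi.single (M.e r) (1 : k) =
        M.mat (R.nw w) (M.e (T.S.actw w r)) (M.e r) • Pi.single (M.e (T.S.actw w r)) (1 : k) := by
      funext a
      rw [Matrix.mulVec_single_one, Matrix.col_apply, Pi.smul_apply, smul_eq_mul]
      rcases eq_or_ne a (M.e (T.S.actw w r)) with rfl | hne
      · rw [Pi.single_eq_same, mul_one]
      · rw [Pi.single_eq_of_ne hne, mul_zero, M.mono_word w r a hne]
    rw [e] at h
    have h' := E.smul_mem (M.mat (R.nw w) (M.e (T.S.actw w r)) (M.e r))⁻¹ h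
    rwa [smul_smul, inv_mul_cancel₀ (M.mono_word_ne w r), one_smul] at h'
  have hvec : ∀ r : Fin T.tab.n, vec D k [(r.val, (1 : ℤ))] = Pi.single (M.e r) (1 : k) := fun r => by
    rw [vec_single_root D (T.lt r), Int.cast_one]
    rfl
  have hxE : ∀ (a : ℕ), a < D.nroots → ∀ v ∈ E, xR D k a 1 *ᵥ v ∈ E := fun a ha v hv => by
    have h := hinv _ (hc (idxR T ha)) v hv
    have e : M.mat (R.x (idxR T ha) 1) = xR D k a 1 := hG.x_eq k ha 1
    rwa [e] at h
  have hprog : ∀ (ops : List (ℕ × List (List (Fin T.tab.l) × ℤ))), (∀ op ∈ ops, op.1 < T.tab.n) →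
      ∀ v, vec D k v ∈ E → vec D k (recipeVec T top ops v) ∈ E := by
    intro ops
    induction ops with
    | nil => exact fun _ v hv => hv
    | cons op ops ih =>
      intro hops v hv
      refine ih (fun o ho => hops o (List.mem_cons_of_mem _ ho)) _ ?_
      rw [vec_kapp, vec_kapp, vec_applyX', vec_scaleS, Int.cast_one]
      refine E.add_mem (hxE _ (T.n_eq ▸ hops op (List.mem_cons_self ..)) _ hv)
        (E.add_mem (E.smul_mem _ hv) ?_)
      generalize op.2 = L
      induction L with
      | nil => simp
      | cons p L ihL =>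
        rw [List.map_cons, ← List.singleton_append, vec_append]
        refine E.add_mem ?_ ihL
        rw [vec_single_root D (T.lt _)]
        have h := E.smul_mem (p.2 : k) (horbit p.1 top htopE)
        rwa [← Pi.single_smul', smul_eq_mul, mul_one] at h
  have hsimE : ∀ j, Pi.single (M.e (T.S.simple j)) (1 : k) ∈ E := by
    intro j
    have hj := hsimp j (List.mem_finRange j)
    split at hj
    · simp at hj
    · rename_i w _
      rw [decide_eq_true_eq] at hj
      rw [← hj]
      exact horbit w top htopE
    · rename_i w _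
      simp only [Bool.and_eq_true, Bool.not_eq_true', decide_eq_true_eq] at hj
      rw [← hj.2]
      refine horbit w _ ?_
      have hne : C.ops.isEmpty ≠ true := by rw [hj.1]; simp
      have hp := hprog C.ops hlt [((T.S.actw C.start top).val, 1)]
        (by rw [hvec]; exact horbit _ top htopE)
      have hs : (Fin.ofNat T.tab.n C.short).val = C.short := Nat.mod_eq_of_lt hshort
      rcases (or_assoc.1 hops).resolve_left hne with h | h
      · rw [vec_eq_of_eqS D (R := k) h, show C.short = (Fin.ofNat T.tab.n C.short).val from hs.symm, hvec] at hp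
        exact hp
      · rw [vec_eq_of_eqS D (R := k) h, ← hs, vec_single_root D (T.lt _)] at hp
        have := E.neg_mem hp
        rwa [← Pi.single_neg, Int.cast_neg, Int.cast_one, neg_neg] at this
  have hrootE : ∀ r, Pi.single (M.e r) (1 : k) ∈ E := fun r => by
    obtain ⟨w, j, rfl⟩ := T.witness hwit r
    exact horbit w _ (hsimE j)
  have hcoE : ∀ i : Fin D.rank, Pi.single (Sum.inl i) (1 : k) ∈ E := by
    intro i
    have hp := hG.simple_lt i.isLt
    have hn := hG.neg_lt hp
    set p : Fin D.nroots := ⟨D.simple i, hp⟩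
    set q : Fin D.nroots := ⟨D.neg (D.simple i), hn⟩
    have hqp : q ≠ p := fun e => hG.neg_ne hp (congrArg Fin.val e)
    have h1 : D.x k (D.simple i) 1 *ᵥ Pi.single (Sum.inr q) 1 =
        Pi.single (Sum.inl i) 1 + Pi.single (Sum.inr q) 1 - Pi.single (Sum.inr p) 1 := by
      funext a
      rw [Matrix.mulVec_single_one, Matrix.col_apply, ChevalleyDatum.x, dif_pos hp]
      simp only [ChevalleyDatum.xMat, Matrix.of_apply, if_neg (show q ≠ ⟨D.simple i, hp⟩ from hqp),
        if_pos (show q.val = D.negIdx.getD (D.simple i) 0 from rfl)]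
      rcases a with j | u
      · simp only [hG.coroot_simple i.isLt j.isLt]
        by_cases hji : j = i
        · subst hji; simp
        · simp [hji, Fin.val_ne_of_ne hji]
      · by_cases h : u = q
        · subst h; simp [hqp]
        · by_cases h' : u = p
          · subst h'; simp [h, p]
          · simp [h, h', show u ≠ ⟨D.simple i, hp⟩ from h']
    have hq := hrootE (idxR T hn)
    have hp' := hrootE (idxR T hp)
    have hx := hxE _ hp _ hq
    rw [← hG.x_eq k hp, show M.e (idxR T hn) = Sum.inr q from rfl, h1] at hx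
    have := E.add_mem (E.sub_mem hx hq) hp'
    convert this using 1
    rw [show M.e (idxR T hn) = Sum.inr q from rfl, show M.e (idxR T hp) = Sum.inr p from rfl]
    abel
  have hmat : ∀ a b, M.mat c a b = if a = b then lam else 0 := by
    intro a b
    have hb : Pi.single b (1 : k) ∈ E := by
      rcases b with i | r
      · exact hcoE i
      · exact hrootE (idxR T r.isLt)
    have := congrFun (show M.mat c *ᵥ Pi.single b 1 = lam • Pi.single b 1 from hb) a
    rw [Matrix.mulVec_single_one, Matrix.col_apply, Pi.smul_apply, smul_eq_mul] at this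
    rw [this]
    by_cases h : a = b
    · subst h; simp
    · simp [h]
  have hH : c ∈ R.H := mem_H_of_diag T K hwit fun a b hab => by rw [hmat, if_neg hab]
  have hlam : lam = 1 := by
    have h := T.H_inl K hH ⟨0, hG.rank_pos⟩
    rwa [show Model.mat c (Sum.inl ⟨0, _⟩) (Sum.inl ⟨0, _⟩) = lam from (hmat _ _).trans (if_pos rfl)] at h
  refine M.eq_one ?_
  ext a b
  rw [hmat, hlam, Matrix.one_apply]

end Cfsg.Agent.Chev54
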