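import Cfsg.Prelude.Def_ChevAutomorphisms
import Cfsg.Agent.Lib.ChevCore.Torus

/-!
Characters of the root lattice: the value at a root is determined by the values at the fundamental roots,
and the diagonal matrix of a character conjugates root elements by scaling.
-/

set_option autoImplicit false

namespace Cfsg.Agent.Chev54

open Cfsg.Lie Cfsg.Agent.ChevCore Matrix

variable {D : ChevalleyDatum} {F : Type*} [Field F]

/-- A step of the decomposition of roots is an entry of the chain table. -/
lemma chainRoot_of_X (hD : Good D) {g a r : ℕ} (hg : g < D.nroots) (ha : a < D.nroots)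
    (hr : r < D.nroots) {N : ℤ} (hN : N ≠ 0) (hht : ht D r = ht D g + ht D a)
    (hX : X D g *ᵥ er D a = N • er D r) : D.chainRoot g a 1 = some r := by
  rw [X_er D g ha] at hX
  have h := congrFun hX (Sum.inr ⟨r, hr⟩)
  rw [Pi.smul_apply, er_eq D hr, Pi.single_eq_same, smul_eq_mul, mul_one] at h
  obtain ⟨e, he, hea⟩ := exists_mem_of_vec_ne_zero D (R := ℤ) (h ▸ hN)
  rcases col_cases D 1 g (Sum.inr ⟨a, ha⟩) with ⟨i, hi, -⟩ | ⟨v, hv, hc⟩
  · simp at hi
  · obtain rfl := Sum.inr.inj hv
    rw [code_inr] at hc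
    rw [hc] at he
    simp only [↓reduceIte, one_ne_zero, Nat.sub_self] at he
    split_ifs at he with h1 h2
    · simp at he
    · have h2' : a = D.neg g := h2
      exact absurd hht (by rw [h2', hD.ht_neg hg]; have := hD.ht_ne_zero hr; omega)
    · rw [Option.mem_toList] at he
      rw [ChevalleyDatum.chainRoot, he, Option.map_some]
      rw [code_inr] at hea
      rw [hea]

/-- A character is determined by its values on the fundamental roots. -/
lemma char_eq_prod (hD : Good D) {χ : ℕ → Fˣ} (hχ : D.IsRootCharacter χ) {r : ℕ} (hr : r < D.nroots) :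
    χ r = ∏ j ∈ Finset.range D.rank, χ (D.simple j) ^ coef D r j := by
  suffices H : ∀ n r, r < D.nroots → (ht D r).natAbs = n →
      χ r = ∏ j ∈ Finset.range D.rank, χ (D.simple j) ^ coef D r j from H _ r hr rfl
  intro n
  induction n using Nat.strong_induction_on with
  | _ n ih =>
    intro r hr hn
    have hgen : ∀ i < D.rank, χ (D.simple i) = ∏ j ∈ Finset.range D.rank,
        χ (D.simple j) ^ coef D (D.simple i) j := fun i hi => by
      rw [Finset.prod_eq_single i]
      · rw [hD.coef_simple hi hi, if_pos rfl, zpow_one]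
      · intro j hj hji
        rw [hD.coef_simple hi (Finset.mem_range.1 hj), if_neg hji, zpow_zero]
      · exact fun h => absurd (Finset.mem_range.2 hi) h
    have hneg : ∀ i < D.rank, χ (D.neg (D.simple i)) = ∏ j ∈ Finset.range D.rank,
        χ (D.simple j) ^ coef D (D.neg (D.simple i)) j := fun i hi => by
      rw [hχ.1 _ (hD.simple_lt hi), hgen i hi, ← Finset.prod_inv_distrib]
      refine Finset.prod_congr rfl fun j hj => ?_
      rw [hD.coef_neg (hD.simple_lt hi) (Finset.mem_range.1 hj), _root_.zpow_neg]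
    rcases hD.dec_step hr with hg | ⟨i, hi, g, hg, a, N, ha, hN, hht, hX, habs, -⟩
    · obtain ⟨i, hi, ⟨rfl, -⟩ | ⟨rfl, -⟩⟩ := hD.gen_height hg
      exacts [hgen i hi, hneg i hi]
    · have hgl : g < D.nroots := by
        rcases hg with ⟨-, rfl⟩ | ⟨-, rfl⟩
        exacts [hD.simple_lt hi, hD.neg_lt (hD.simple_lt hi)]
      have hch := chainRoot_of_X hD hgl ha hr hN hht hX
      have hgv : χ g = ∏ j ∈ Finset.range D.rank, χ (D.simple j) ^ coef D g j := by
        rcases hg with ⟨-, rfl⟩ | ⟨-, rfl⟩
        exacts [hgen i hi, hneg i hi]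
      rw [hχ.2 g a r hgl ha hch, hgv, ih _ (by omega) a ha rfl, ← Finset.prod_mul_distrib]
      refine Finset.prod_congr rfl fun j hj => ?_
      obtain ⟨e, he, her⟩ : ∃ e, (D.chainEntry g a)[0]? = some e ∧ e.1 = r := by
        simpa [ChevalleyDatum.chainRoot] using hch
      have hne : D.chainEntry g a ≠ [] := by intro h; simp [h] at he
      obtain ⟨-, -, -, hfacts⟩ := hD.chain_facts hgl ha hne
      rw [← _root_.zpow_add]
      congr 1
      rw [← her, (hfacts 0 e he).2 j (Finset.mem_range.1 hj)]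
      simp

/-- The multiplier of a character on the coordinates. -/
lemma char_coord (hD : Good D) {χ : ℕ → Fˣ} (hχ : D.IsRootCharacter χ) (a : D.Idx) :
    Sum.elim (fun _ => (1 : F)) (fun r => (χ r.val : F)) a =
      ((∏ j ∈ Finset.range D.rank, χ (D.simple j) ^ wc D j a : Fˣ) : F) := by
  rcases a with i | r
  · simp [wc]
  · simp [wc, char_eq_prod hD hχ r.isLt]

lemma isWeight_char (hD : Good D) {χ : ℕ → Fˣ} (hχ : D.IsRootCharacter χ) :
    IsWeight D (Sum.elim (fun _ => (1 : F)) (fun r => (χ r.val : F))) (fun r => (χ r : F)) := by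
  intro k r hk _ hr a b h
  show Sum.elim _ _ a = Sum.elim _ _ b * (χ r : F) ^ k
  rw [char_coord hD hχ, char_coord hD hχ, char_eq_prod hD hχ hr, ← Units.val_pow_eq_pow_val,
    ← Units.val_mul]
  congr 1
  rw [← Finset.prod_pow, ← Finset.prod_mul_distrib]
  refine Finset.prod_congr rfl fun j hj => ?_
  rw [← zpow_natCast, ← _root_.zpow_mul, ← _root_.zpow_add, hD.M_homog hr hk h (Finset.mem_range.1 hj)]
  congr 1
  ring

/-- `ĥ(χ) x_r(t) ĥ(χ)⁻¹ = x_r(χ(r) t)`. -/
theorem charDiag_conj (hD : Good D) {χ : ℕ → Fˣ} (hχ : D.IsRootCharacter χ) {r : ℕ}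
    (hr : r < D.nroots) (t : F) :
    D.charDiag F χ * D.x F r t * D.charDiag F (fun s => (χ s)⁻¹) = D.x F r ((χ r : F) * t) := by
  rw [hD.x_eq F hr, hD.x_eq F hr, ChevalleyDatum.charDiag, (isWeight_char hD hχ).conj hr,
    ChevalleyDatum.charDiag, mul_assoc, diagonal_mul_diagonal]
  convert mul_one (xR D F r ((χ r : F) * t)) using 2
  rw [← Matrix.diagonal_one]
  congr 1
  funext a
  rcases a with i | s <;> simp

end Cfsg.Agent.Chev54
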