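import Cfsg.Agent.ChevGroup.Mat.Chain
import Cfsg.Agent.Chev54.Conj

/-!
Transfer between subgroups of a Chevalley group and subgroups of the general linear group.
-/

set_option autoImplicit false

namespace Cfsg.Agent.Chev54

open Cfsg.Lie ChevGroup

variable {D : ChevalleyDatum} (T : Model D) {F : Type*} [Field F] (K : Rels D F)

/-- The root with a given index. -/
def idxR {r : ℕ} (hr : r < D.nroots) : Fin T.tab.n := ⟨r, T.n_eq.symm ▸ hr⟩

@[simp] lemma idxR_val {r : ℕ} (hr : r < D.nroots) : (idxR T hr).val = r := rfl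

lemma rootSubgroup_eq (r : Fin T.tab.n) :
    D.rootSubgroup F r.val = ((T.rel K).X r).map (D.group F).subtype := by
  rw [RootRel.X, MonoidHom.map_closure, ← Set.range_comp, ChevalleyDatum.rootSubgroup]
  congr 1
  ext g
  exact ⟨fun ⟨t, ht⟩ => ⟨t, Units.ext ht.symm⟩, fun ⟨t, ht⟩ => ⟨t, ht ▸ rfl⟩⟩

omit T in
lemma map_subtype_conj (H : Subgroup ↥(D.group F)) (h : ↥(D.group F)) :
    (H.map (MulAut.conj h).toMonoidHom).map (D.group F).subtype =
      (H.map (D.group F).subtype).map (MulAut.conj (h : GL D.Idx F)).toMonoidHom := by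
  rw [Subgroup.map_map, Subgroup.map_map]
  congr 1

lemma posUnipotent_eq : D.posUnipotent F = (T.rel K).U.map (D.group F).subtype := (T.U_map K).symm

end Cfsg.Agent.Chev54
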