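import Cfsg.Agent.ChevGroup.Mat.Chain
import Cfsg.Agent.Chev54.Transfer

/-!
Elements of a Chevalley group with triangular matrix lie in `B`; those with diagonal matrix lie in `H`.
-/

set_option autoImplicit false

namespace Cfsg.Agent.Chev54

open Cfsg.Lie ChevGroup

lemma perm_id_of_le {n : ℕ} (f : Fin n → Fin n) (hf : Function.Injective f) (h : ∀ r, r.val ≤ (f r).val) :
    ∀ r, f r = r := by
  suffices H : ∀ d : ℕ, ∀ r : Fin n, n - r.val = d → f r = r from fun r => H _ r rfl
  intro d
  induction d using Nat.strong_induction_on with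
  | _ d ih =>
    intro r hr
    by_contra hne
    have h1 : r.val < (f r).val := lt_of_le_of_ne (h r) (fun e => hne (Fin.ext e.symm))
    have h2 := ih (n - (f r).val) (by omega) (f r) rfl
    exact hne (hf h2)

variable {D : ChevalleyDatum} (T : Model D) {F : Type*} [Field F] (K : Rels D F)

/-- A reduced word acting trivially is empty. -/
lemma red_eq_nil {w : List (Fin T.tab.l)} (hw : T.S.Red w) (h : ∀ r, T.S.actw w r = r) : w = [] := by
  rcases w with - | ⟨i, u⟩
  · rfl
  · obtain ⟨h1, h2⟩ := T.S.red_cons_root hw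
    rw [h] at h2
    exact absurd (h2 ▸ h1) (T.S.not_pos_neg _ (T.S.simple_pos i))

lemma actw_injective (w : List (Fin T.tab.l)) : Function.Injective (T.S.actw w) := fun a b e => by
  rw [← T.S.actw_reverse' w a, e, T.S.actw_reverse']

include K in
/-- Triangular elements lie in `B`. -/
theorem mem_B_of_tri {wit : List (List (Fin T.tab.l) × Fin T.tab.l)} (hwit : T.witB wit = true)
    {g : ↥(D.group F)} (hg : Tri (keyOf D) ((T.shapeR K).mat g)) : g ∈ (T.rel K).B := by
  obtain ⟨b, hb, w, hw, b', hb', rfl⟩ := (T.rel K).exists_bruhat ((T.group_top K hwit).ge (Subgroup.mem_top g))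
  have hn : Tri (keyOf D) ((T.shapeR K).mat ((T.rel K).nw w)) := by
    have e : (T.rel K).nw w = b⁻¹ * (b * (T.rel K).nw w * b') * b'⁻¹ := by group
    rw [e, (T.shapeR K).mat_mul, (T.shapeR K).mat_mul]
    exact (((T.shapeR K).tri_of_B (inv_mem hb)).mul hg).mul ((T.shapeR K).tri_of_B (inv_mem hb'))
  have hle : ∀ r : Fin T.tab.n, r.val ≤ (T.S.actw w r).val := by
    intro r
    by_contra hlt
    push Not at hlt
    refine (T.shapeR K).mono_word_ne w r (hn.1 _ _ ?_ ?_)
    · exact fun e => absurd ((T.shapeR K).e_inj e) (fun e' => by rw [e'] at hlt; omega)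
    · show keyOf D (T.coord _) ≤ keyOf D (T.coord _)
      simp only [Model.coord, keyOf]
      omega
  obtain rfl := red_eq_nil T hw (perm_id_of_le _ (actw_injective T w) hle)
  rw [RootRel.nw_nil, mul_one]
  exact mul_mem hb hb'

include K in
/-- Diagonal elements lie in `H`. -/
theorem mem_H_of_diag {wit : List (List (Fin T.tab.l) × Fin T.tab.l)} (hwit : T.witB wit = true)
    {g : ↥(D.group F)} (hg : ∀ a b, a ≠ b → (T.shapeR K).mat g a b = 0) : g ∈ (T.rel K).H := by
  have hne : ∀ a, (T.shapeR K).mat g a a ≠ 0 := by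
    intro a h0
    have h2 : ((T.shapeR K).mat g * (T.shapeR K).mat g⁻¹) a a = 1 := by
      rw [← (T.shapeR K).mat_mul, mul_inv_cancel, (T.shapeR K).mat_one]; simp
    rw [Matrix.mul_apply, Finset.sum_eq_single a] at h2
    · simp [h0] at h2
    · intro c _ hca; rw [hg a c hca.symm, zero_mul]
    · simp
  have hB := mem_B_of_tri T K hwit ⟨fun a b hab _ => hg a b hab, hne⟩
  obtain ⟨u, hu, h, hh, rfl⟩ := (T.rel K).mem_B_iff.1 hB
  suffices u = 1 by rw [this, one_mul]; exact hh
  have hud : ∀ a b, a ≠ b → (T.shapeR K).mat u a b = 0 := by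
    intro a b hab
    have e : u = u * h * h⁻¹ := by group
    rw [e, (T.shapeR K).mat_mul, Matrix.mul_apply]
    refine Finset.sum_eq_zero fun c _ => ?_
    rcases eq_or_ne a c with rfl | hac
    · rw [(T.shapeR K).diag_of_H (inv_mem hh) a b hab, mul_zero]
    · rw [hg a c hac, zero_mul]
  refine (T.shapeR K).eq_one ?_
  ext a b
  rcases eq_or_ne a b with rfl | hab
  · rw [(T.shapeR K).uni_of_U hu a a le_rfl]; simp
  · rw [hud a b hab]; simp [hab]

end Cfsg.Agent.Chev54
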