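import Cfsg.Prelude.Def_ChevG2
import Cfsg.Prelude.Def_ChevD4
import Cfsg.Prelude.Def_ChevF4
import Cfsg.Prelude.Def_ChevE6
import Cfsg.Prelude.Def_ChevE7
import Cfsg.Prelude.Def_ChevE8
import Cfsg.Agent.Chev54.Inst

/-!
The positive roots commute with the distinguished roots in characteristic two.
-/

set_option autoImplicit false

namespace Cfsg.Agent.Chev54

open Cfsg.Lie

theorem even_G2 : evenCommB chevG2 11 = true := by decide +kernel

theorem even_D4 : evenCommB chevD4 23 = true := by decide +kernel

theorem even_F4long : evenCommB chevF4 47 = true := by decide +kernel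

theorem even_F4short : evenCommB chevF4 44 = true := by decide +kernel

theorem even_E6 : evenCommB chevE6 71 = true := by decide +kernel

theorem even_E7 : evenCommB chevE7 125 = true := by decide +kernel

theorem even_E8 : evenCommB chevE8 239 = true := by decide +kernel

end Cfsg.Agent.Chev54
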