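import Cfsg.Agent.ChevGroup.Mat.Chain
import Cfsg.Agent.Chev54.Transfer

/-!
The Chevalley group is generated by the root elements of the fundamental roots and their negatives.
-/

set_option autoImplicit false

namespace Cfsg.Agent.Chev54

open Cfsg.Lie ChevGroup

variable {D : ChevalleyDatum} (T : Model D) {F : Type*} [Field F] (K : Rels D F)

include K in
theorem eq_top_of_simple_mem {wit : List (List (Fin T.tab.l) × Fin T.tab.l)} (hwit : T.witB wit = true)
    (A : Subgroup ↥(D.group F)) (hp : ∀ i t, (T.rel K).x (T.S.simple i) t ∈ A)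
    (hn : ∀ i t, (T.rel K).x (T.S.neg (T.S.simple i)) t ∈ A) : A = ⊤ := by
  have hni : ∀ i, (T.rel K).n i ∈ A := fun i => mul_mem (mul_mem (hp i _) (hn i _)) (hp i _)
  have hw : ∀ w : List (Fin T.tab.l), (T.rel K).nw w ∈ A := fun w => list_prod_mem fun y hy => by
    obtain ⟨i, -, rfl⟩ := List.mem_map.1 hy
    exact hni i
  have hx : ∀ r t, (T.rel K).x r t ∈ A := by
    intro r t
    obtain ⟨w, j, rfl⟩ := T.witness hwit r
    obtain ⟨e, he, h⟩ := (T.rel K).nw_conj w (T.S.simple j)
    have h1 := h (e * t)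
    rw [← mul_assoc, he, one_mul] at h1
    rw [← h1]
    exact mul_mem (mul_mem (hw w) (hp j _)) (inv_mem (hw w))
  rw [eq_top_iff, ← T.group_top K hwit]
  refine sup_le (sup_le ((Subgroup.closure_le _).2 ?_) ((Subgroup.closure_le _).2 ?_))
    ((Subgroup.closure_le _).2 ?_)
  · rintro g ⟨r, t, -, rfl⟩; exact hx r t
  · rintro g ⟨r, c, -, rfl⟩
    exact mul_mem (mul_mem (mul_mem (hx _ _) (hx _ _)) (hx _ _)) (mul_mem (mul_mem (hx _ _) (hx _ _)) (hx _ _))
  · rintro g ⟨i, rfl⟩; exact hni i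

include K in
/-- Two homomorphisms agreeing on the root elements of the fundamental roots and their negatives are equal. -/
theorem hom_ext_simple {G : Type*} [Group G] {wit : List (List (Fin T.tab.l) × Fin T.tab.l)}
    (hwit : T.witB wit = true) {φ ψ : ↥(D.group F) →* G}
    (hp : ∀ i t, φ ((T.rel K).x (T.S.simple i) t) = ψ ((T.rel K).x (T.S.simple i) t))
    (hn : ∀ i t, φ ((T.rel K).x (T.S.neg (T.S.simple i)) t) = ψ ((T.rel K).x (T.S.neg (T.S.simple i)) t)) :
    φ = ψ :=
  MonoidHom.eq_of_eqOn_top (by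
    rw [← eq_top_of_simple_mem T K hwit (φ.eqLocus ψ) hp hn]
    exact fun x hx => hx)

end Cfsg.Agent.Chev54
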