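import Cfsg.Agent.Chev54.Models
import Cfsg.Agent.Chev54.Diagonal
import Cfsg.Agent.Chev54.CentrModel
import Cfsg.Agent.Lib.ChevCore.SepAll
import Cfsg.Agent.Lib.ChevCore.Unipotent

/-!
The elements of a Chevalley group fixed by a field endomorphism, acting on entries: they are the products of
fixed root elements and fixed elements of `H`.
-/

set_option autoImplicit false

namespace Cfsg.Agent.Chev54

open Cfsg.Lie ChevGroup Cfsg.Agent.ChevCore

variable {D : ChevalleyDatum} (T : Model D) (hC : CommGood D) {k : Type*} [Field k] (φ : k →+* k)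

omit T in
lemma map_xg {r : ℕ} (hC : CommGood D) (hr : r < D.nroots) (t : k) :
    (D.x k r t).map φ = D.x k r (φ t) := by
  rw [hC.toGood.x_eq k hr, hC.toGood.x_eq k hr, xR_map]

omit T in
include hC in
lemma map_group_le : (D.group k).map (Matrix.GeneralLinearGroup.map φ) ≤ D.group k := by
  rw [ChevalleyDatum.group, MonoidHom.map_closure, Subgroup.closure_le]
  rintro g ⟨g', ⟨r, t, hg'⟩, rfl⟩
  refine Subgroup.subset_closure ⟨r, φ t, ?_⟩
  have h := map_xg φ hC r.isLt t
  rw [ChevalleyDatum.x, dif_pos r.isLt, ChevalleyDatum.x, dif_pos r.isLt, ← hg'] at h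
  exact h

/-- The endomorphism of the group induced by `φ` on entries. -/
noncomputable def frobG : ↥(D.group k) →* ↥(D.group k) :=
  ((Matrix.GeneralLinearGroup.map φ).comp (D.group k).subtype).codRestrict _
    fun g => map_group_le hC φ ⟨g.1, g.2, rfl⟩

lemma mat_frobG (g : ↥(D.group k)) : Model.mat (frobG hC φ g) = (Model.mat g).map φ := rfl

lemma frobG_eq_iff (g : ↥(D.group k)) :
    frobG hC φ g = g ↔ ∀ i j, φ (Model.mat g i j) = Model.mat g i j := by
  constructor
  · intro h i j
    exact congrFun (congrFun ((mat_frobG hC φ g).symm.trans (congrArg Model.mat h)) i) j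
  · intro h
    exact Model.mat_inj (by rw [mat_frobG]; ext i j; exact h i j)

lemma frobG_x (r : Fin T.tab.n) (t : k) :
    frobG hC φ ((T.rel (relsOfCommGood hC k)).x r t) = (T.rel (relsOfCommGood hC k)).x r (φ t) :=
  Model.mat_inj (by rw [mat_frobG]; exact map_xg φ hC (T.lt r) t)

local notation "R" => T.rel (relsOfCommGood hC k)

lemma frobG_nr (r : Fin T.tab.n) (c : k) : frobG hC φ (RootRel.nr R r c) = RootRel.nr R r (φ c) := by
  show frobG hC φ (RootRel.x R r c * RootRel.x R _ _ * RootRel.x R r c) = _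
  rw [map_mul, map_mul, frobG_x, frobG_x, map_neg, map_inv₀]
  rfl

lemma frobG_nw (w : List (Fin T.tab.l)) : frobG hC φ (RootRel.nw R w) = RootRel.nw R w := by
  induction w with
  | nil => rw [RootRel.nw_nil, map_one]
  | cons i w ih =>
    rw [RootRel.nw_cons, map_mul, ih, RootRel.n, frobG_nr, map_one]

lemma frobG_H {h : ↥(D.group k)} (hh : h ∈ RootRel.H R) : frobG hC φ h ∈ RootRel.H R := by
  induction hh using Subgroup.closure_induction with
  | mem g hg =>
    obtain ⟨r, c, hc, rfl⟩ := hg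
    have e : frobG hC φ (RootRel.hr R r c) = RootRel.hr R r (φ c) := by
      show frobG hC φ (RootRel.nr R r c * RootRel.nr R r (-1)) = _
      rw [map_mul, frobG_nr, frobG_nr, map_neg, map_one]
      rfl
    rw [e]
    exact RootRel.hr_mem_H R ((map_ne_zero φ).2 hc)
  | one => rw [map_one]; exact one_mem _
  | mul a b _ _ ha hb => rw [map_mul]; exact mul_mem ha hb
  | inv a _ ha => rw [map_inv]; exact inv_mem ha

lemma frobG_U {u : ↥(D.group k)} (hu : u ∈ RootRel.U R) : frobG hC φ u ∈ RootRel.U R := by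
  induction hu using Subgroup.closure_induction with
  | mem g hg => obtain ⟨r, t, hr, rfl⟩ := hg; rw [frobG_x]; exact RootRel.x_mem_U R hr _
  | one => rw [map_one]; exact one_mem _
  | mul a b _ _ ha hb => rw [map_mul]; exact mul_mem ha hb
  | inv a _ ha => rw [map_inv]; exact inv_mem ha

lemma frobG_B {b : ↥(D.group k)} (hb : b ∈ RootRel.B R) : frobG hC φ b ∈ RootRel.B R := by
  obtain ⟨u, hu, h, hh, rfl⟩ := (R).mem_B_iff.1 hb
  rw [map_mul]
  exact mul_mem ((R).U_le_B (frobG_U T hC φ hu)) ((R).H_le_B (frobG_H T hC φ hh))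

/-- The subgroup generated by the fixed root elements. -/
noncomputable def fixedRoots : Subgroup ↥(D.group k) :=
  Subgroup.closure {g | ∃ r t, φ t = t ∧ g = RootRel.x R r t}

/-- The fixed elements of `H`. -/
noncomputable def fixedH : Subgroup ↥(D.group k) :=
  RootRel.H R ⊓ MonoidHom.eqLocus (frobG hC φ) (MonoidHom.id _)

lemma x_mem_fixedRoots (r : Fin T.tab.n) {t : k} (ht : φ t = t) : RootRel.x R r t ∈ fixedRoots T hC φ :=
  Subgroup.subset_closure ⟨r, t, ht, rfl⟩

/-- The root list of the positive roots. -/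
def posL : List ℕ := (List.range D.nroots).filter fun r => decide (D.IsPosRoot r)

omit T in
lemma mem_posL (r : ℕ) : r ∈ posL (D := D) ↔ D.IsPosRoot r := by
  simp only [posL, List.mem_filter, List.mem_range, decide_eq_true_eq]
  exact ⟨fun h => h.2, fun h => ⟨h.1, h⟩⟩

/-- A fixed element of `U` is a product of fixed root elements. -/
lemma mem_fixedRoots_of_U (hU : UGood D) {u : ↥(D.group k)} (hu : u ∈ RootRel.U R)
    (hf : frobG hC φ u = u) : u ∈ fixedRoots T hC φ := by
  have hG := hC.toGood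
  have hmem : ∀ r, r ∈ posL (D := D) ↔ r < D.nroots ∧ 1 ≤ ht D r := fun r => by
    rw [mem_posL]
    constructor
    · intro h; have := (hG.isPosRoot_iff h.1).1 h; exact ⟨h.1, by omega⟩
    · rintro ⟨h, h'⟩; exact (hG.isPosRoot_iff h).2 (by omega)
  have hXS : (u : GL D.Idx k) ∈ XS D k (htGe D 1) := by
    have h1 : (u : GL D.Idx k) ∈ D.posUnipotent k := by
      rw [← T.U_map (relsOfCommGood hC k)]
      exact ⟨u, hu, rfl⟩
    rw [ChevalleyDatum.posUnipotent, hG.closure_matrix_eq _ (fun r h => h.1)] at h1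
    refine XS_mono (fun r hr => ?_) h1
    have := (hG.isPosRoot_iff (show r < D.nroots from (show D.IsPosRoot r from hr).1)).1 hr
    show 1 ≤ ht D r
    omega
  have hnd : (posL (D := D)).Nodup := List.nodup_range.filter _
  obtain ⟨t, ht0, htu⟩ := hU.exists_prod hnd hmem hXS
  have hmap : ∀ L : List ℕ, (∀ r ∈ L, r < D.nroots) →
      Matrix.GeneralLinearGroup.map φ (prodL D k L t) = prodL D k L (fun r => φ (t r)) := by
    intro L
    induction L with
    | nil => intro _; simp [prodL]
    | cons r L ih =>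
      intro hL
      rw [prodL_cons, prodL_cons, map_mul, ih fun s hs => hL s (List.mem_cons_of_mem _ hs)]
      congr 1
      refine Units.ext ?_
      rw [hG.val_xg]
      show ((xg D k r (t r) : GL D.Idx k) : Matrix D.Idx D.Idx k).map φ = _
      rw [hG.val_xg, map_xg φ hC (hL r (List.mem_cons_self ..))]
  have hfix : (fun r => φ (t r)) = t := by
    refine hU.prodL_injective hnd hmem (fun r hr => by simp [ht0 r hr]) ht0 ?_
    rw [← hmap _ fun r hr => ((mem_posL r).1 hr).1, htu]
    exact congrArg Subtype.val hf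
  have key : ∀ L : List ℕ, (∀ r ∈ L, r < D.nroots) →
      ∃ g ∈ fixedRoots T hC φ, (g : GL D.Idx k) = prodL D k L t := by
    intro L
    induction L with
    | nil => exact fun _ => ⟨1, one_mem _, by simp [prodL]⟩
    | cons r L ih =>
      intro hL
      obtain ⟨g, hg, hge⟩ := ih fun s hs => hL s (List.mem_cons_of_mem _ hs)
      have hr := hL r (List.mem_cons_self ..)
      refine ⟨RootRel.x R (idxR T hr) (t r) * g,
        mul_mem (x_mem_fixedRoots T hC φ _ (congrFun hfix r)) hg, ?_⟩
      rw [prodL_cons, Subgroup.coe_mul, hge]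
      exact congrArg (· * prodL D k L t) (Units.ext (hG.val_xg r (t r)).symm)
  obtain ⟨g, hg, hge⟩ := key _ fun r hr => ((mem_posL r).1 hr).1
  have : g = u := Subtype.ext (hge.trans htu)
  exact this ▸ hg

/-- Fixed elements of `H` normalise the group generated by the fixed root elements. -/
lemma fixedH_le_normalizer :
    fixedH T hC φ ≤ Subgroup.normalizer (fixedRoots T hC φ : Set ↥(D.group k)) := by
  have key : ∀ h ∈ fixedH T hC φ, ∀ g ∈ fixedRoots T hC φ, h * g * h⁻¹ ∈ fixedRoots T hC φ := by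
    intro h hh g hg
    induction hg using Subgroup.closure_induction with
    | mem g hg =>
      obtain ⟨r, t, ht, rfl⟩ := hg
      obtain ⟨a, -, ha⟩ := (R).H_scales hh.1 r
      rw [ha]
      refine x_mem_fixedRoots T hC φ r (x_param_inj T (relsOfCommGood hC k) (r := r) ?_)
      have hfh : frobG hC φ h = h := hh.2
      rw [← frobG_x T hC φ r (a * t), ← ha, map_mul, map_mul, map_inv, hfh, frobG_x, ht]
    | one => simp
    | mul a b _ _ ha hb => simpa [mul_assoc] using mul_mem ha hb
    | inv a _ ha => simpa [mul_assoc] using inv_mem ha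
  intro h hh
  rw [Subgroup.mem_normalizer_iff]
  refine fun g => ⟨key h hh g, fun hg => ?_⟩
  have := key _ (inv_mem hh) _ hg
  simpa [mul_assoc] using this

/-- The fixed elements are products of fixed root elements and fixed elements of `H`. -/
theorem fixed_mem {wit : List (List (Fin T.tab.l) × Fin T.tab.l)} (hwit : T.witB wit = true)
    (hpos : Mat.spanB D (T.posList.map Fin.val) = true) (hU : UGood D)
    {g : ↥(D.group k)} (hg : frobG hC φ g = g) : g ∈ fixedRoots T hC φ ⊔ fixedH T hC φ := by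
  set K := relsOfCommGood hC k
  suffices H : ∀ w : List (Fin T.tab.l), T.S.Red w → ∀ g : ↥(D.group k), frobG hC φ g = g →
      (∃ b ∈ RootRel.B R, ∃ b' ∈ RootRel.B R, g = b * RootRel.nw R w * b') →
      g ∈ fixedRoots T hC φ ⊔ fixedH T hC φ by
    obtain ⟨b, hb, w, hw, b', hb', e⟩ := (R).exists_bruhat ((T.group_top K hwit).ge (Subgroup.mem_top g))
    exact H w hw g hg ⟨b, hb, b', hb', e⟩
  intro w
  induction w with
  | nil =>
    rintro - g hg ⟨b, hb, b', hb', rfl⟩
    rw [RootRel.nw_nil, mul_one] at hg ⊢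
    obtain ⟨u, hu, h, hh, e⟩ := (R).mem_B_iff.1 (mul_mem hb hb')
    rw [← e, map_mul] at hg
    have e1 : u⁻¹ * frobG hC φ u = h * (frobG hC φ h)⁻¹ := by
      calc u⁻¹ * frobG hC φ u = u⁻¹ * (frobG hC φ u * frobG hC φ h) * (frobG hC φ h)⁻¹ := by group
        _ = u⁻¹ * (u * h) * (frobG hC φ h)⁻¹ := by rw [hg]
        _ = h * (frobG hC φ h)⁻¹ := by group
    have e2 := (T.shapeR K).U_inter_H (mul_mem (inv_mem hu) (frobG_U T hC φ hu))
      (e1 ▸ mul_mem hh (inv_mem (frobG_H T hC φ hh)))
    have hfu : frobG hC φ u = u := (inv_mul_eq_one.1 e2).symm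
    have hfh : frobG hC φ h = h := by
      rw [hfu] at hg
      exact mul_left_cancel hg
    rw [← e]
    exact mul_mem ((le_sup_left : fixedRoots T hC φ ≤ _) (mem_fixedRoots_of_U T hC φ hU hu hfu))
      ((le_sup_right (a := fixedRoots T hC φ) : fixedH T hC φ ≤ _) ⟨hh, hfh⟩)
  | cons i v ih =>
    rintro hw g hg ⟨b, hb, b', hb', rfl⟩
    obtain ⟨t, b₁, hb₁, e⟩ := (R).B_mul_n i hb
    have hgg : b * RootRel.nw R (i :: v) * b' =
        RootRel.x R (T.S.simple i) t * RootRel.n R i * (b₁ * RootRel.nw R v * b') := by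
      rw [RootRel.nw_cons, ← mul_assoc b, e]; group
    set xn := RootRel.x R (T.S.simple i) t * RootRel.n R i
    set g' := b₁ * RootRel.nw R v * b'
    rw [hgg] at hg ⊢
    have hn : frobG hC φ (RootRel.n R i) = RootRel.n R i := by
      have := frobG_nw T hC φ [i]
      simpa using this
    have hP : ∀ p ∈ RootRel.B R, (T.shapeR K).Pres T.S.pos p := fun p hp =>
      (T.shapeR K).pres_par (J := []) (fun r t hr => T.pres_posList K hpos r t hr)
        (fun j hj => by simp at hj) ((R).B_le_par _ hp)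
    have hne : cell (RootRel.B R) (RootRel.B R) (RootRel.nw R v) ≠
        cell (RootRel.B R) (RootRel.B R) (RootRel.nw R (i :: v)) := by
      intro h
      obtain ⟨s, hs, he⟩ := (T.shapeR K).image_of_cell_eq hP h.symm _ hw.1
      rw [T.S.actw_cons, T.S.actw_reverse, T.S.refl_simple] at he
      have h2 : s = T.S.neg (T.S.actw v.reverse (T.S.simple i)) := by
        rw [← T.S.actw_neg, he, T.S.actw_reverse']
      exact T.S.not_pos_neg _ hw.1 (h2 ▸ hs)
    have hbij := cell_bijective (RootRel.x R (T.S.simple i))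
      (fun t => (R).x_mem_B (T.S.simple_pos i) t) (fun b hb => (R).B_mul_n i hb)
      (fun s t hst => (R).x_n_sep i hst) ((R).up_of_pos hw.1) hne
    have hcl : ∀ (c d : ↥(D.group k)), c ∈ RootRel.B R → d ∈ RootRel.B R →
        ((c * RootRel.nw R v * d : ↥(D.group k)) : ↥(D.group k) ⧸ RootRel.B R) ∈
          cell (RootRel.B R) (RootRel.B R) (RootRel.nw R v) := by
      intro c d hc hd
      refine mem_cell.2 ⟨c, hc, QuotientGroup.eq.2 ?_⟩
      simpa [mul_assoc] using hd
    have hfg' : frobG hC φ g' = frobG hC φ b₁ * RootRel.nw R v * frobG hC φ b' := by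
      simp only [g', map_mul, frobG_nw]
    have hfxn : frobG hC φ xn = RootRel.x R (T.S.simple i) (φ t) * RootRel.n R i := by
      simp only [xn, map_mul, frobG_x, hn]
    have heq : ((φ t, ((frobG hC φ g' : ↥(D.group k)) : ↥(D.group k) ⧸ RootRel.B R)) :
        k × (↥(D.group k) ⧸ RootRel.B R)) = (t, ((g' : ↥(D.group k)) : ↥(D.group k) ⧸ RootRel.B R)) := by
      refine hbij.injOn ⟨trivial, ?_⟩ ⟨trivial, hcl _ _ hb₁ hb'⟩ ?_
      · rw [hfg']; exact hcl _ _ (frobG_B T hC φ hb₁) (frobG_B T hC φ hb')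
      · rw [map_mul, hfxn] at hg
        exact congrArg (fun y : ↥(D.group k) => ((y : ↥(D.group k)) : ↥(D.group k) ⧸ RootRel.B R)) hg
    have ht : φ t = t := (Prod.mk.inj heq).1
    have hxn : frobG hC φ xn = xn := by simp only [xn, map_mul, frobG_x, hn, ht]
    have hg' : frobG hC φ g' = g' := by
      rw [map_mul, hxn] at hg
      exact mul_left_cancel hg
    have hxm : xn ∈ fixedRoots T hC φ := by
      refine mul_mem (x_mem_fixedRoots T hC φ _ ht) (mul_mem (mul_mem ?_ ?_) ?_) <;>
        exact x_mem_fixedRoots T hC φ _ (by simp)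
    exact mul_mem ((le_sup_left : fixedRoots T hC φ ≤ _) hxm) (ih hw.2 g' hg' ⟨b₁, hb₁, b', hb', rfl⟩)

/-- Subgroups between the fixed root elements and all fixed elements are normalised by all fixed elements. -/
theorem fixed_normalizes {wit : List (List (Fin T.tab.l) × Fin T.tab.l)} (hwit : T.witB wit = true)
    (hpos : Mat.spanB D (T.posList.map Fin.val) = true) (hU : UGood D)
    (hHcomm : ∀ a ∈ fixedH T hC φ, ∀ b ∈ fixedH T hC φ, a * b = b * a)
    {A : Subgroup ↥(D.group k)} (hLA : fixedRoots T hC φ ≤ A) (hA : ∀ a ∈ A, frobG hC φ a = a)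
    {g : ↥(D.group k)} (hg : frobG hC φ g = g) {a : ↥(D.group k)} (ha : a ∈ A) : g * a * g⁻¹ ∈ A := by
  have hn := fixedH_le_normalizer T hC φ
  have dec : ∀ x, frobG hC φ x = x → ∃ l ∈ fixedRoots T hC φ, ∃ h ∈ fixedH T hC φ, l * h = x := by
    intro x hx
    have := fixed_mem T hC φ hwit hpos hU hx
    rwa [← SetLike.mem_coe, Subgroup.coe_mul_of_right_le_normalizer_left _ _ hn, Set.mem_mul] at this
  obtain ⟨l, hl, h, hh, rfl⟩ := dec g hg
  obtain ⟨l', hl', h', hh', rfl⟩ := dec a (hA a ha)
  have hh'A : h' ∈ A := by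
    have := mul_mem (inv_mem (hLA hl')) ha
    rwa [inv_mul_cancel_left] at this
  have e : l * h * (l' * h') * (l * h)⁻¹ = l * (h * l' * h⁻¹) * (h * h' * h⁻¹) * l⁻¹ := by group
  rw [e, show h * h' * h⁻¹ = h' by rw [hHcomm h hh h' hh', mul_inv_cancel_right]]
  exact mul_mem (mul_mem (mul_mem (hLA hl) (hLA ((Subgroup.mem_normalizer_iff.1 (hn hh) l').1 hl'))) hh'A)
    (inv_mem (hLA hl))

/-- `H` is commutative. -/
lemma H_comm {a b : ↥(D.group k)} (ha : a ∈ RootRel.H R) (hb : b ∈ RootRel.H R) : a * b = b * a := by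
  set K := relsOfCommGood hC k
  set M := T.shapeR K
  refine M.mat_inj ?_
  rw [M.mat_mul, M.mat_mul]
  have e : ∀ {g}, g ∈ RootRel.H R → M.mat g = Matrix.diagonal fun i => M.mat g i i := fun hg => by
    ext i j
    rcases eq_or_ne i j with rfl | hij
    · simp
    · rw [M.diag_of_H hg i j hij, Matrix.diagonal_apply_ne _ hij]
  rw [e ha, e hb, Matrix.diagonal_mul_diagonal, Matrix.diagonal_mul_diagonal]
  simp only [mul_comm]

end Cfsg.Agent.Chev54
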