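import Cfsg.Agent.Chev54.SeparData

/-!
The group of type G2 over the field with four elements: three long roots have the same character on the
torus, and the root subgroups are obtained with the help of commutators.
-/

set_option autoImplicit false
set_option maxRecDepth 100000

namespace Cfsg.Agent.Chev54

open Cfsg.Lie Cfsg.Agent.ChevCore

theorem g2_facts : ((List.range chevG2.nroots).all fun r => (List.range chevG2.nroots).all fun s =>
    decide (1 ≤ ht chevG2 r → 1 ≤ ht chevG2 s → r ≠ s →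
      (r ∈ [6, 10, 11] ∧ s ∈ [6, 10, 11]) ∨ ∃ p ∈ List.range chevG2.nroots, chevG2.pairing p s = 0 ∧
        1 ≤ (chevG2.pairing p r).natAbs ∧ (chevG2.pairing p r).natAbs ≤ 2)) = true := by
  decide +kernel

theorem g2_ht : ht chevG2 6 = 1 ∧ ht chevG2 7 = 1 ∧ ht chevG2 8 = 2 ∧ ht chevG2 9 = 3 ∧
    ht chevG2 10 = 4 ∧ ht chevG2 11 = 5 := by decide +kernel

theorem g2_ht_inj : ((List.range chevG2.nroots).all fun s => decide (2 ≤ ht chevG2 s →
    s ∈ [8, 9, 10, 11])) = true := by decide +kernel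

theorem g2_terms : (chevG2.commTerms 7 6).all (fun e => decide (2 ≤ ht chevG2 e.1)) = true ∧
    (chevG2.commTerms 7 8).all (fun e => decide (ht chevG2 e.1 < 4 → (2 : ℤ) ∣ e.2.1)) = true ∧
    (chevG2.commTerms 10 6).all (fun e => decide (5 ≤ ht chevG2 e.1)) = true ∧
    (chevG2.commTerms 7 6).all (fun e => decide (e.1 = 8 → ¬ (2 : ℤ) ∣ e.2.1)) = true ∧
    (chevG2.commTerms 7 8).all (fun e => decide (e.1 = 10 → ¬ (2 : ℤ) ∣ e.2.1)) = true ∧
    (chevG2.commTerms 10 6).all (fun e => decide (e.1 = 11 → ¬ (2 : ℤ) ∣ e.2.1)) = true ∧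
    (10 : ℕ) ∈ (chevG2.commTerms 7 8).map Prod.fst ∧
    ((chevG2.commTerms 7 6).filter fun e => e.1 = 8).length = 1 ∧
    ((chevG2.commTerms 7 8).filter fun e => e.1 = 10).length = 1 ∧
    ((chevG2.commTerms 10 6).filter fun e => e.1 = 11).length = 1 := by decide +kernel

variable {F : Type*} [Field F] [Fintype F] {X : Subgroup (GL chevG2.Idx F)}

/-- The exceptional case of the separation. -/
theorem full_G2 (hX : Normed X) (h4 : Fintype.card F = 4) (P : SepPack chevG2) : Full X := by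
  have hU := P.hU
  have hG := hU.toCommGood.toGood
  have : Fact (Nat.Prime 2) := ⟨Nat.prime_two⟩
  have hc : CharP F 2 := charP_of_card_eq_prime_pow (f := 2) (by rw [h4]; norm_num)
  obtain ⟨h6, h7, h8, h9, h10, h11⟩ := g2_ht
  obtain ⟨t1, t2, t3, t4, t5, t6, t7, t8, t9, t10⟩ := g2_terms
  simp only [List.all_eq_true, decide_eq_true_eq] at t1 t2 t3 t4 t5 t6
  have hn : chevG2.nroots = 12 := rfl
  have hsep : ∀ r s, r < chevG2.nroots → s < chevG2.nroots → 1 ≤ ht chevG2 r → 1 ≤ ht chevG2 s → r ≠ s →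
      ¬ (r ∈ [6, 10, 11] ∧ s ∈ [6, 10, 11]) → Sep F chevG2 r s := by
    intro r s hr hs hr1 hs1 hne hx
    have h := g2_facts
    simp only [List.all_eq_true, decide_eq_true_eq, List.mem_range] at h
    rcases h r hr s hs hr1 hs1 hne with h | ⟨p, hp, h0, hk1, hk2⟩
    · exact absurd h hx
    · refine P.sep_of_pair hp h0 fun hd => ?_
      have := Nat.le_of_dvd (by omega) hd
      omega
  have hge : ∀ s, s < chevG2.nroots → 2 ≤ ht chevG2 s → s = 8 ∨ s = 9 ∨ s = 10 ∨ s = 11 := fun s hs h => by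
    have h' := g2_ht_inj
    simp only [List.all_eq_true, decide_eq_true_eq, List.mem_range] at h'
    simpa using h' s hs h
  have one : ∀ (e : ℕ × ℤ × ℕ × ℕ) (u : F), u ≠ 0 → ¬ (2 : ℤ) ∣ e.2.1 → termV 1 u e ≠ (0 : F) := fun e u hu h => by
    refine mul_ne_zero (mul_ne_zero (fun h' => h ((CharP.intCast_eq_zero_iff F 2 _).1 h')) ?_) (pow_ne_zero _ hu)
    exact pow_ne_zero _ (neg_ne_zero.2 one_ne_zero)
  have get : ∀ r, r < chevG2.nroots → 1 ≤ ht chevG2 r →
      (∀ s, s < chevG2.nroots → ht chevG2 r ≤ ht chevG2 s → s ≠ r →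
        ¬ (r ∈ [6, 10, 11] ∧ s ∈ [6, 10, 11]) ∨ InT X s) →
      ∀ x ∈ X, ∀ d, Vec (ht chevG2 r) x d → d r ≠ 0 → InT X r := by
    intro r hr hr1 hl x hx d hd hdr
    obtain ⟨t, ht0, h⟩ := exists_xg hU hX hr hr1
      (fun s hs hge' hne => (hl s hs hge' hne).imp (hsep r s hr hs hr1 (by omega) (Ne.symm hne)) id) hx hd hdr
    exact inT_of_xg hU hX hr hr1 (P.exists_span hr hr1) ht0 h
  have f11 : ∀ x ∈ X, ∀ d, Vec (ht chevG2 11) x d → d 11 ≠ 0 → InT X 11 :=
    get 11 (by omega) (by omega) fun s hs h hne => by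
      rcases hge s hs (by omega) with rfl | rfl | rfl | rfl <;> omega
  have top : ∀ {j : ℤ}, 5 < j → ∀ {y : GL chevG2.Idx F}, y ∈ XS chevG2 F (htGe chevG2 j) → y = 1 := by
    intro j hj y hy
    have hbot : XS chevG2 F (htGe chevG2 j) = ⊥ := le_antisymm (XS_le fun s t hs (h : j ≤ _) => by
      rcases hge s hs (by omega) with rfl | rfl | rfl | rfl <;> omega) bot_le
    rw [hbot, Subgroup.mem_bot] at hy
    exact hy
  have f10 : ∀ x ∈ X, ∀ d, Vec (ht chevG2 10) x d → d 10 ≠ 0 → InT X 10 := by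
    intro x hx d hd hdr
    have hT11 : InT X 11 := by
      obtain ⟨t, z, ht0, hxz, hz⟩ := exists_lead hU hX (r := 10) (by omega) (by omega)
        (fun s hs h hne => by rcases hge s hs (by omega) with rfl | rfl | rfl | rfl <;> omega) hx hd hdr
      set b := xg chevG2 F 6 (1 : F)
      set a := xg chevG2 F 10 t
      obtain ⟨e, he, he11⟩ := word_vec_zero hU (a := 10) (b := 6) (c := 11) (by omega) (by omega)
        (by omega) (by omega) (by omega) t (1 : F) (by omega)
        (fun e he h => absurd (t3 e he) (by omega))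
        (fun e he h => by
          refine mul_ne_zero (mul_ne_zero (fun h' => t6 e he h ((CharP.intCast_eq_zero_iff F 2 _).1 h')) ?_)
            (pow_ne_zero _ one_ne_zero)
          exact pow_ne_zero _ (neg_ne_zero.2 ht0)) t10
      refine f11 _ ?_ e he he11
      have hzU : ∀ g ∈ XS chevG2 F (htGe chevG2 1), g * z = z * g := fun g hg => by
        obtain ⟨dz, hdz⟩ := exists_vec hU (show 1 ≤ ht chevG2 10 + 1 by omega) hz
        have h0 := (hdz.conj hU (by omega) hg).mul hU (by omega) (hdz.inv hU (by omega))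
        rw [add_neg_cancel] at h0
        have h1 : g * z * g⁻¹ * z⁻¹ = 1 := by
          have h2 := h0.2
          rw [show (0 : ℕ → F) = fun _ => 0 from rfl, prodL_zero hU, inv_one, one_mul] at h2
          exact top (by omega) h2
        rwa [mul_inv_eq_one, mul_inv_eq_iff_eq_mul] at h1
      have hb : b ∈ XS chevG2 F (htGe chevG2 1) :=
        xg_mem_XS (by omega) (show (1 : ℤ) ≤ ht chevG2 6 by omega) _
      have hm := mul_mem (hX.conjU _ (inv_mem hb) _ (inv_mem hxz)) hxz
      have e1 : b⁻¹ * (a * z)⁻¹ * b⁻¹⁻¹ * (a * z) = b⁻¹ * a⁻¹ * b * a := by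
        have h1 := hzU _ (inv_mem hb)
        have ha : a ∈ XS chevG2 F (htGe chevG2 1) :=
          xg_mem_XS (by omega) (show (1 : ℤ) ≤ ht chevG2 10 by omega) _
        have h2 := hzU _ (mul_mem (mul_mem (inv_mem ha) hb) ha)
        calc b⁻¹ * (a * z)⁻¹ * b⁻¹⁻¹ * (a * z) = b⁻¹ * z⁻¹ * (a⁻¹ * b * a * z) := by group
          _ = b⁻¹ * z⁻¹ * (z * (a⁻¹ * b * a)) := by rw [h2]
          _ = b⁻¹ * a⁻¹ * b * a := by group
      rwa [e1] at hm
    refine get 10 (by omega) (by omega) (fun s hs h hne => ?_) x hx d hd hdr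
    rcases hge s hs (by omega) with rfl | rfl | rfl | rfl
    · omega
    · omega
    · exact absurd rfl hne
    · exact .inr hT11
  intro r hr hr1 x hx d hd hdr
  by_cases hsp : r ∈ [6, 10, 11]
  swap
  · exact get r hr hr1 (fun s _ _ _ => .inl fun h => hsp h.1) x hx d hd hdr
  simp only [List.mem_cons, List.not_mem_nil, or_false] at hsp
  rcases hsp with rfl | rfl | rfl
  swap
  · exact f10 x hx d hd hdr
  swap
  · exact f11 x hx d hd hdr
  obtain ⟨t, z, ht0, hxz, hz⟩ := exists_lead hU hX hr hr1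
    (fun s hs h hne => .inl (hsep 6 s hr hs hr1 (by omega) (Ne.symm hne) fun ⟨_, h'⟩ => by
      simp only [List.mem_cons, List.not_mem_nil, or_false] at h'
      rcases h' with rfl | rfl | rfl <;> omega)) hx hd hdr
  obtain ⟨t', z', ht', hx', hz'⟩ := push hU hX hr hr1 (j := 2) (by omega) 2
    (fun s hs h1 h2 => .inl (hsep 6 s hr hs hr1 (by omega) (fun e => by subst e; omega) fun ⟨_, h'⟩ => by
      simp only [List.mem_cons, List.not_mem_nil, or_false] at h'
      rcases h' with rfl | rfl | rfl <;> omega)) hxz ht0 (by rw [h6] at hz; exact hz)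
  have hT8 : InT X 8 := by
    set a := xg chevG2 F 7 (1 : F)
    set b := xg chevG2 F 6 t'
    obtain ⟨e, he, he8⟩ := word_vec_zero hU (a := 7) (b := 6) (c := 8) (by omega) (by omega)
      (by omega) (by omega) (by omega) (1 : F) t' (by omega)
      (fun e he h => absurd (t1 e he) (by omega)) (fun e he h => one e t' ht' (t4 e he h)) t8
    have ha : a ∈ XS chevG2 F (htGe chevG2 1) :=
      xg_mem_XS (by omega) (show (1 : ℤ) ≤ ht chevG2 7 by omega) _
    have hzU : z' ∈ XS chevG2 F (htGe chevG2 1) :=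
      XS_mono (fun s (h : 2 + (2 : ℕ) ≤ ht chevG2 s) => show 1 ≤ ht chevG2 s by omega) hz'
    refine get 8 (by omega) (by omega) (fun s _ _ _ => .inl fun h => by simp at h)
      ((b * z')⁻¹ * a⁻¹ * (b * z') * a⁻¹⁻¹) ?_ (e + 0) ?_ (by simpa using he8)
    · rw [mul_assoc, mul_assoc]
      exact mul_mem (inv_mem hx') (by simpa [mul_assoc] using hX.conjU _ (inv_mem ha) _ hx')
    · have hz3 : z' ∈ XS chevG2 F (htGe chevG2 (ht chevG2 8 + 1)) :=
        XS_mono (fun s (h : 2 + (2 : ℕ) ≤ ht chevG2 s) => show ht chevG2 8 + 1 ≤ ht chevG2 s by omega) hz'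
      have h0 : Vec (ht chevG2 8) z' (0 : ℕ → F) := vec_of_next hU hz3
      have h00 : Vec (ht chevG2 8) z'⁻¹ (0 : ℕ → F) := vec_of_next hU (inv_mem hz3)
      have h1 := ((h00.mul hU (by omega) he).mul hU (by omega) (h0.conj hU (by omega) (inv_mem ha)))
      rw [zero_add] at h1
      refine (show z'⁻¹ * (b⁻¹ * a⁻¹ * b * a) * (a⁻¹ * z' * a⁻¹⁻¹) =
        (b * z')⁻¹ * a⁻¹ * (b * z') * a⁻¹⁻¹ by group) ▸ h1
  obtain ⟨y, hy, e, he, he10⟩ := word_vec hU hX (a := 7) (b := 8) (c := 10) (by omega) (by omega)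
    (by omega) (by omega) (by omega) (.inr (hT8.2.2 (1 : F))) t7
    (fun e he h => .inr ((CharP.intCast_eq_zero_iff F 2 _).2 (t2 e he (by omega))))
    (fun e he h => one e 1 one_ne_zero (t5 e he h)) t9
  have hT10 := f10 y hy e he he10
  have hT11 : InT X 11 := by
    obtain ⟨y, hy, e, he, he11⟩ := word_vec hU hX (a := 10) (b := 6) (c := 11) (by omega) (by omega)
      (by omega) (by omega) (by omega) (u := (1 : F)) (.inl (hT10.2.2 (1 : F)))
      (by decide +kernel)
      (fun e he h => absurd (t3 e he) (by omega))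
      (fun e he h => one e 1 one_ne_zero (t6 e he h)) t10
    exact f11 y hy e he he11
  refine get 6 hr hr1 (fun s hs h hne => ?_) x hx d hd hdr
  by_cases hs' : s ∈ [6, 10, 11]
  · simp only [List.mem_cons, List.not_mem_nil, or_false] at hs'
    rcases hs' with rfl | rfl | rfl
    · exact absurd rfl hne
    · exact .inr hT10
    · exact .inr hT11
  · exact .inl fun h => hs' h.2

end Cfsg.Agent.Chev54
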