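import Cfsg.Agent.Chev54.Models
import Cfsg.Agent.Chev54.Transfer
import Cfsg.Prelude.Def_ChevAutomorphisms

/-!
A graph automorphism of a group with one root length sends root elements to root elements up to sign.
-/

set_option autoImplicit false

namespace Cfsg.Agent.Chev54

open Cfsg.Lie ChevGroup Cfsg.Agent.ChevCore

/-- One root length: the bonds are single, coroot coefficients are root coefficients, and determine the
root. -/
def lacedB (D : ChevalleyDatum) : Bool :=
  ((List.range D.rank).all fun i => (List.range D.rank).all fun j => decide (i = j) ||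
    decide (D.cartan i (D.simple j) = D.cartan j (D.simple i) ∧
      (D.cartan i (D.simple j) = 0 ∨ D.cartan i (D.simple j) = -1))) &&
  (List.range D.nroots).all fun r => (List.range D.nroots).all fun s => decide (r = s) ||
    !((List.range D.rank).all fun j => (D.coroot.getD r #[]).getD j 0 == (D.coroot.getD s #[]).getD j 0)

/-- Coroot coefficients are root coefficients. -/
noncomputable def coCoefB (D : ChevalleyDatum) : Bool :=
  (List.range D.nroots).all fun r => (List.range D.rank).all fun j =>
    decide (coef D r j = (D.coroot.getD r #[]).getD j 0)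

variable {D : ChevalleyDatum} {F : Type*} [Field F]

theorem graph_sign (P : Pack D) (hl : lacedB D = true) (hco : coCoefB D = true)
    (π : Equiv.Perm (Fin D.rank)) (hπ : D.IsDiagramSymmetry π) (φ : ↥(D.group F) ≃* ↥(D.group F))
    (hφ : ∀ (g : ↥(D.group F)) (i : Fin D.rank) (t : F),
      (((g : GL D.Idx F) : Matrix D.Idx D.Idx F) = D.x F (D.simple i) t →
        ((φ g : GL D.Idx F) : Matrix D.Idx D.Idx F) = D.x F (D.simple (π i)) t) ∧
      (((g : GL D.Idx F) : Matrix D.Idx D.Idx F) = D.x F (D.neg (D.simple i)) t →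
        ((φ g : GL D.Idx F) : Matrix D.Idx D.Idx F) = D.x F (D.neg (D.simple (π i))) t))
    (r : ℕ) (hr : r < D.nroots) :
    ∃ ε : F, (ε = 1 ∨ ε = -1) ∧ ∀ (g : ↥(D.group F)) (t : F),
      ((g : GL D.Idx F) : Matrix D.Idx D.Idx F) = D.x F r t →
        ((φ g : GL D.Idx F) : Matrix D.Idx D.Idx F) = D.x F (D.permRoot π r) (ε * t) := by
  simp only [lacedB, Bool.and_eq_true, List.all_eq_true, List.mem_range, Bool.or_eq_true,
    decide_eq_true_eq, Bool.not_eq_true'] at hl
  obtain ⟨hbond, hinj⟩ := hl
  simp only [coCoefB, List.all_eq_true, List.mem_range, decide_eq_true_eq] at hco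
  have hG := P.comm.toGood
  let T := P.T
  let R := T.rel (rels P.comm F)
  -- the Cartan integers are invariant under the symmetry
  have hcar : ∀ i k : Fin D.rank, D.cartan (π i) (D.simple (π k)) = D.cartan i (D.simple k) := by
    intro i k
    by_cases h : i = k
    · subst h
      rw [hG.cartan_self (π i).isLt, hG.cartan_self i.isLt]
    have hne : (π i).val ≠ (π k).val := fun e => h (π.injective (Fin.ext e))
    have hne' : i.val ≠ k.val := fun e => h (Fin.ext e)
    obtain ⟨e1, h1⟩ := (hbond i i.isLt k k.isLt).resolve_left hne'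
    obtain ⟨e2, h2⟩ := (hbond (π i) (π i).isLt (π k) (π k).isLt).resolve_left hne
    have hb := hπ i k h
    rw [ChevalleyDatum.bonds, ChevalleyDatum.bonds, ← e1, ← e2] at hb
    rcases h1 with h1 | h1 <;> rcases h2 with h2 | h2 <;> simp [h1, h2] at hb ⊢
  let π' : Fin T.tab.l → Fin T.tab.l := fun i =>
    ⟨(π ⟨i.val, T.lt_l i⟩).val, (π _).isLt.trans_eq T.l_eq.symm⟩
  have hφp : ∀ i t, φ (R.x (T.S.simple i) t) = R.x (T.S.simple (π' i)) t := fun i t => by
    refine Model.mat_inj (((hφ (R.x (T.S.simple i) t) ⟨i.val, T.lt_l i⟩ t).1 ?_).trans ?_)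
    · show D.x F (T.S.simple i).val t = _
      rw [T.simple_eq]
    · show _ = D.x F (T.S.simple (π' i)).val _
      rw [T.simple_eq]
  have hφn : ∀ i t, φ (R.x (T.S.neg (T.S.simple i)) t) = R.x (T.S.neg (T.S.simple (π' i))) t := fun i t => by
    refine Model.mat_inj (((hφ (R.x (T.S.neg (T.S.simple i)) t) ⟨i.val, T.lt_l i⟩ t).2 ?_).trans ?_)
    · show D.x F (T.S.neg (T.S.simple i)).val t = _
      rw [T.neg_eq, T.simple_eq]
    · show _ = D.x F (T.S.neg (T.S.simple (π' i))).val _
      rw [T.neg_eq, T.simple_eq]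
  have hφni : ∀ i, φ (R.n i) = R.n (π' i) := fun i => by
    show φ (R.x _ 1 * R.x _ _ * R.x _ 1) = R.x _ 1 * R.x _ _ * R.x _ 1
    rw [map_mul, map_mul, hφp, hφn]
  let Rel : Fin T.tab.n → Fin T.tab.n → Prop := fun a b =>
    ∀ j : Fin D.rank, coef D b.val (π j).val = coef D a.val j.val
  have key : ∀ (w : List (Fin T.tab.l)) (j : Fin T.tab.l), ∃ (b : Fin T.tab.n) (ε : F),
      (ε = 1 ∨ ε = -1) ∧ Rel (T.S.actw w (T.S.simple j)) b ∧
        ∀ t, φ (R.x (T.S.actw w (T.S.simple j)) t) = R.x b (ε * t) := by
    intro w j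
    induction w with
    | nil =>
      refine ⟨T.S.simple (π' j), 1, Or.inl rfl, fun k => ?_, fun t => by rw [one_mul]; exact hφp j t⟩
      rw [T.simple_eq, T.S.actw_nil, T.simple_eq, hG.coef_simple (π _).isLt (π k).isLt,
        hG.coef_simple (T.lt_l j) k.isLt]
      refine if_congr ⟨fun e => ?_, fun e => ?_⟩ rfl rfl
      · exact congrArg Fin.val (π.injective (a₁ := k) (a₂ := ⟨j.val, T.lt_l j⟩) (Fin.ext e))
      · exact congrArg (fun x => (π x).val) (Fin.ext (a := k) (b := ⟨j.val, T.lt_l j⟩) e)
    | cons i w ih =>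
      obtain ⟨b, ε, hε, hrel, hx⟩ := ih
      set a := T.S.actw w (T.S.simple j) with ha
      have hai : D.cartan (π' i).val b.val = D.cartan i.val a.val := by
        rw [hG.cartan_eq (T.lt b) (π _).isLt, hG.cartan_eq (T.lt a) (T.lt_l i),
          Finset.sum_range (fun k => coef D b.val k * D.cartan (π' i).val (D.simple k)),
          Finset.sum_range (fun k => coef D a.val k * D.cartan i.val (D.simple k))]
        rw [← Equiv.sum_comp π]
        refine Finset.sum_congr rfl fun k _ => ?_
        rw [hrel k]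
        congr 1
        exact hcar ⟨i.val, T.lt_l i⟩ k
      refine ⟨T.S.refl (π' i) b, R.sgn (π' i) b * ε * R.sgn i a, ?_, fun k => ?_, fun t => ?_⟩
      · exact mul_self_eq_one_iff.1 (by
          rw [show R.sgn (π' i) b * ε * R.sgn i a * (R.sgn (π' i) b * ε * R.sgn i a) =
            (R.sgn (π' i) b * R.sgn (π' i) b) * (ε * ε) * (R.sgn i a * R.sgn i a) by ring,
            R.sgn_sq, R.sgn_sq, mul_self_eq_one_iff.2 hε, one_mul, one_mul])
      · rw [T.S.actw_cons, T.refl_eq, T.refl_eq, ← ha, hG.coef_refl (π _).isLt (T.lt b) (π k).isLt,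
          hG.coef_refl (T.lt_l i) (T.lt a) k.isLt, hrel k, hai]
        congr 1
        refine if_congr ⟨fun e => ?_, fun e => ?_⟩ rfl rfl
        · exact congrArg Fin.val (π.injective (a₁ := k) (a₂ := ⟨i.val, T.lt_l i⟩) (Fin.ext e))
        · exact congrArg (fun x => (π x).val) (Fin.ext (a := k) (b := ⟨i.val, T.lt_l i⟩) e)
      · have h := R.n_conj' i a (R.sgn i a * t)
        rw [← mul_assoc, R.sgn_sq, one_mul] at h
        rw [T.S.actw_cons, ← ha, ← h, map_mul, map_mul, map_inv, hφni, hx, R.n_conj']
        congr 1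
        ring
  obtain ⟨w, j, hwj⟩ := T.witness P.hwit (idxR T hr)
  obtain ⟨b, ε, hε, hrel, hx⟩ := key w j
  rw [hwj] at hrel hx
  refine ⟨ε, hε, fun g t hg => ?_⟩
  have hperm : D.permRoot π r = b.val := by
    have hsat : ((List.finRange D.rank).all fun i : Fin D.rank => (D.coroot.getD b.val #[]).getD (π i).val 0 ==
        (D.coroot.getD r #[]).getD i.val 0) = true := by
      simp only [List.all_eq_true, beq_iff_eq]
      intro i _
      rw [← hco _ (T.lt b) _ (π i).isLt, ← hco _ hr _ i.isLt]
      exact hrel i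
    cases hf : (List.range D.nroots).find? (fun s => (List.finRange D.rank).all fun i =>
        (D.coroot.getD s #[]).getD (π i).val 0 == (D.coroot.getD r #[]).getD i.val 0) with
    | none =>
      exact absurd hsat (List.find?_eq_none.1 hf b.val (List.mem_range.2 (T.lt b)))
    | some s =>
      rw [ChevalleyDatum.permRoot, hf, Option.getD_some]
      have hs := List.find?_some hf
      have hsl := List.mem_range.1 (List.mem_of_find?_eq_some hf)
      refine (hinj s hsl b.val (T.lt b)).resolve_right fun hne => ?_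
      rw [List.all_eq_false] at hne
      obtain ⟨k, hk, hk'⟩ := hne
      simp only [List.all_eq_true, beq_iff_eq, List.mem_finRange, forall_const] at hs hsat
      have hk2 := List.mem_range.1 hk
      have e := (hs (π.symm ⟨k, hk2⟩)).trans (hsat (π.symm ⟨k, hk2⟩)).symm
      rw [Equiv.apply_symm_apply] at e
      simp only [beq_iff_eq] at hk'
      exact hk' e
  have hgx : g = R.x (idxR T hr) t := Model.mat_inj hg
  rw [hperm, hgx, hx]
  rfl

end Cfsg.Agent.Chev54
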