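import Cfsg.Agent.Chev54.Transfer

/-!
Pairs of conjugates of the root subgroup of the highest root, in characteristic two.
-/

set_option autoImplicit false

namespace Cfsg.Agent.Chev54

open Cfsg.Lie ChevGroup

variable {D : ChevalleyDatum} (T : Model D)

/-- The last root. -/
def topR : Fin T.tab.n := ⟨T.tab.n - 1, Nat.sub_lt T.tab.n_pos Nat.one_pos⟩

/-- The words of `L` move the last root and every other root but its negative to positive roots. -/
def movesB (L : List (List (Fin T.tab.l))) : Bool :=
  (List.finRange T.tab.n).all fun s => decide (s = T.S.neg (topR T)) ||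
    L.any fun v => decide (T.S.pos (T.S.actw v (topR T))) && decide (T.S.pos (T.S.actw v s))

variable {F : Type*} [Field F] [Finite F] [CharP F 2] (K : Rels D F)

include K in
theorem high_pair {wit : List (List (Fin T.tab.l) × Fin T.tab.l)} (hwit : T.witB wit = true)
    {w0 : List (Fin T.tab.l)} (hlong : T.longestB w0 = true)
    (hpos : Mat.spanB D (T.posList.map Fin.val) = true)
    {L : List (List (Fin T.tab.l))} (hL : movesB T L = true)
    (hc : ∀ s, D.IsPosRoot s → ∀ t u : F,
      D.x F s u * D.x F (D.nroots - 1) t = D.x F (D.nroots - 1) t * D.x F s u)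
    {g : GL D.Idx F} (hg : g ∈ D.group F) :
    IsPGroup 2 ↥(D.rootSubgroup F (D.nroots - 1) ⊔
        (D.rootSubgroup F (D.nroots - 1)).map (MulAut.conj g).toMonoidHom) ∨
    ∃ h ∈ D.group F, (D.rootSubgroup F (D.nroots - 1) ⊔
        (D.rootSubgroup F (D.nroots - 1)).map (MulAut.conj g).toMonoidHom).map
          (MulAut.conj h).toMonoidHom = D.rootSubgroup F (D.nroots - 1) ⊔ D.rootSubgroup F 0 := by
  have hn := T.n_eq
  have hval : (topR T).val = D.nroots - 1 := by simp [topR, hn]
  have hcomm : ∀ s, T.S.pos s → ∀ t u, Commute ((T.rel K).x s u) ((T.rel K).x (topR T) t) := by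
    intro s hs t u
    refine Model.mat_inj ?_
    rw [Model.mat_mul, Model.mat_mul]
    show D.x F s.val u * D.x F (topR T).val t = D.x F (topR T).val t * D.x F s.val u
    rw [hval]
    exact hc s.val ((T.pos_val s).1 hs) t u
  have hv : ∀ w : List (Fin T.tab.l), T.S.actw w (topR T) = T.S.neg (topR T) ∨
      ∃ v, T.S.pos (T.S.actw v (topR T)) ∧ T.S.pos (T.S.actw v (T.S.actw w (topR T))) := by
    intro w
    simp only [movesB, List.all_eq_true, Bool.or_eq_true, decide_eq_true_eq, List.any_eq_true,
      Bool.and_eq_true] at hL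
    exact (hL _ (List.mem_finRange _)).imp id fun ⟨v, _, h⟩ => ⟨v, h⟩
  have h0 : D.rootSubgroup F 0 = ((T.rel K).X (T.S.neg (topR T))).map (D.group F).subtype := by
    rw [← rootSubgroup_eq T K]
    congr 1
    show 0 = T.tab.n - 1 - (topR T).val
    simp [topR]
  have htop : D.rootSubgroup F (D.nroots - 1) = ((T.rel K).X (topR T)).map (D.group F).subtype := by
    rw [← rootSubgroup_eq T K, hval]
  have hU : IsPGroup 2 ↥(T.rel K).U := by
    have : Fintype F := Fintype.ofFinite F
    obtain ⟨m, -, hm⟩ := FiniteField.card F 2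
    refine IsPGroup.of_card (n := (m : ℕ) * w0.length) ?_
    rw [← T.card_U_eq K, T.card_posUnipotent K hlong hpos, Nat.card_eq_fintype_card, hm, ← pow_mul]
  have hP : D.rootSubgroup F (D.nroots - 1) ⊔
      (D.rootSubgroup F (D.nroots - 1)).map (MulAut.conj g).toMonoidHom =
      ((T.rel K).X (topR T) ⊔
        ((T.rel K).X (topR T)).map (MulAut.conj (⟨g, hg⟩ : ↥(D.group F))).toMonoidHom).map
          (D.group F).subtype := by
    rw [Subgroup.map_sup, map_subtype_conj, htop]
  rw [hP, h0, htop]
  rcases pair_dichotomy (T.rel K) (T.group_top K hwit) hcomm hv ⟨g, hg⟩ with ⟨h, hh⟩ | ⟨h, hh⟩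
  · left
    have hp := ((hU.to_le hh).map (MulAut.conj h⁻¹).toMonoidHom).map (D.group F).subtype
    rwa [map_conj_conj, inv_mul_cancel, map_conj_one] at hp
  · refine Or.inr ⟨(h : GL D.Idx F), h.2, ?_⟩
    rw [← map_subtype_conj, hh, Subgroup.map_sup]

end Cfsg.Agent.Chev54
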