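import Cfsg.Agent.ChevGroup.Mat.G2
import Cfsg.Agent.ChevGroup.Mat.D4
import Cfsg.Agent.ChevGroup.Mat.E6
import Cfsg.Agent.ChevGroup.Mat.E7
import Cfsg.Agent.ChevGroup.Mat.E8
import Cfsg.Agent.Chev54.HighPair

/-!
Certificates: the highest root and any root other than its negative are moved to positive roots by one
word.
-/

set_option autoImplicit false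

namespace Cfsg.Agent.Chev54

open ChevGroup

/-- Words for type G2. -/
def pairWordsG2 : List (List (Fin 2)) := [
  [],
  [0, 1, 0],
  [0, 1]]

theorem movesBG2 : movesB TypeG2.model pairWordsG2 = true := by decide +kernel

/-- Words for type D4. -/
def pairWordsD4 : List (List (Fin 4)) := [
  [],
  [3, 1, 2, 0],
  [2, 1],
  [3, 1, 0],
  [3, 1],
  [3],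
  [3, 1, 2]]

theorem movesBD4 : movesB TypeD4.model pairWordsD4 = true := by decide +kernel

/-- Words for type E6. -/
def pairWordsE6 : List (List (Fin 6)) := [
  [],
  [5, 4, 3, 2, 1, 3, 4, 0, 2, 3],
  [5, 4, 3, 2, 1, 0],
  [5, 4, 3, 2, 1, 3, 4],
  [5, 4, 3, 2, 1, 3],
  [5, 4, 3, 2],
  [5, 4, 3, 1],
  [5],
  [5, 4],
  [5, 4, 3, 2, 0],
  [5, 4, 3, 2, 1, 3, 0],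
  [5, 4, 3],
  [5, 4, 3, 2, 1, 3, 4, 0],
  [5, 4, 3, 2, 1, 3, 0, 2],
  [5, 4, 3, 2, 1],
  [5, 4, 3, 2, 1, 3, 4, 0, 2]]

theorem movesBE6 : movesB TypeE6.model pairWordsE6 = true := by decide +kernel

/-- Words for type E7. -/
def pairWordsE7 : List (List (Fin 7)) := [
  [],
  [6, 5, 4, 3, 2, 1, 3, 4, 5, 0, 2, 3, 4, 1, 3, 2],
  [6, 5, 4, 3, 2, 1, 3, 4, 5, 0, 2, 3, 4, 1, 3],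
  [6, 5, 4, 3, 2, 1, 0],
  [6, 5, 4, 3, 2, 1, 3, 4, 5, 0, 2, 3, 4],
  [6, 5, 4, 3, 2, 1, 3, 4, 5, 0, 2, 3],
  [6, 5, 4, 3, 2, 1, 3, 4, 5, 0, 2, 3, 1],
  [6, 5, 4, 3, 2, 1, 3, 4, 5, 0, 2, 3, 4, 1],
  [6, 5, 4, 3, 2, 1],
  [6, 5, 4, 3, 2],
  [6, 5, 4, 3],
  [6, 5],
  [6, 5, 4, 3, 2, 1, 3, 4, 0, 2],
  [6, 5, 4],
  [6, 5, 4, 3, 2, 1, 3, 4, 0, 2, 3],
  [6, 5, 4, 3, 2, 1, 3, 4, 0],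
  [6, 5, 4, 3, 2, 1, 3, 4, 5, 0],
  [6, 5, 4, 3, 2, 1, 3, 4],
  [6, 5, 4, 3, 2, 1, 3],
  [6, 5, 4, 3, 2, 0],
  [6, 5, 4, 3, 1],
  [6, 5, 4, 3, 2, 1, 3, 4, 5, 0, 2],
  [6],
  [6, 5, 4, 3, 2, 1, 3, 0, 2],
  [6, 5, 4, 3, 2, 1, 3, 0],
  [6, 5, 4, 3, 2, 1, 3, 4, 5],
  [6, 5, 4, 3, 2, 1, 3, 4, 0, 2, 3, 1]]

theorem movesBE7 : movesB TypeE7.model pairWordsE7 = true := by decide +kernel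

/-- Words for type E8. -/
def pairWordsE8 : List (List (Fin 8)) := [
  [],
  [7, 6, 5, 4, 3, 2, 1, 3, 4, 5, 6, 0, 2, 3, 4, 5, 1, 3, 4, 2, 3, 0, 2, 1, 3, 4, 5, 6],
  [7, 6, 5, 4, 3, 2, 1, 3, 4, 5, 6, 0, 2, 3, 4, 5, 1, 3, 4, 2, 3, 0, 2, 1, 3, 4, 5],
  [7, 6, 5, 4, 3, 2, 1, 3, 4, 0, 2, 3, 1],
  [7, 6, 5, 4, 3, 2, 1, 3, 4, 0, 2, 3],
  [7, 6, 5, 4, 3, 2, 1, 3, 4, 0, 2],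
  [7, 6, 5, 4, 3, 2, 1, 3, 4, 5, 6, 0, 2, 3, 4, 5, 1, 3, 2, 0],
  [7, 6, 5, 4, 3, 2, 1, 3, 0, 2],
  [7, 6, 5, 4, 3, 2, 1, 3, 4, 5, 6, 0, 2],
  [7, 6, 5, 4, 3, 2, 1, 3, 4, 5, 6, 0, 2, 3, 4, 5, 1, 3, 2],
  [7, 6, 5, 4, 3, 1],
  [7, 6, 5, 4, 3, 2, 1, 3, 4],
  [7, 6, 5, 4, 3, 2, 1, 3, 4, 5, 6, 0, 2, 3, 4, 5, 1],
  [7, 6, 5, 4, 3, 2, 1, 3, 4, 5, 0, 2, 3, 4],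
  [7, 6, 5, 4, 3, 2, 1, 3, 4, 5, 6, 0, 2, 3, 1],
  [7, 6, 5, 4, 3, 2, 1, 3, 4, 5, 6, 0, 2, 3, 4, 5, 1, 3, 4],
  [7, 6, 5, 4, 3, 2, 1, 3, 4, 5, 0, 2, 3, 4, 1, 3, 2],
  [7, 6, 5, 4, 3, 2, 1, 3, 4, 5, 6],
  [7, 6, 5, 4, 3, 2, 1, 3, 4, 5, 6, 0, 2, 3, 4, 5, 1, 3, 4, 2, 3, 0, 2, 1, 3, 4],
  [7, 6, 5, 4, 3, 2, 1, 3, 4, 5],
  [7, 6, 5, 4, 3, 2, 1, 3, 4, 5, 0, 2, 3],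
  [7, 6, 5, 4, 3, 2, 1, 3, 4, 5, 6, 0, 2, 3, 4, 1, 3, 2, 0],
  [7, 6, 5, 4, 3, 2, 1, 3, 4, 5, 6, 0, 2, 3, 4, 5, 1, 3, 4, 2, 3, 1, 0],
  [7, 6, 5, 4, 3, 2, 1, 3],
  [7, 6, 5, 4, 3, 2, 1, 3, 4, 5, 6, 0, 2, 3, 4, 5],
  [7, 6, 5, 4, 3, 2, 1, 3, 4, 5, 6, 0, 2, 3, 4, 1, 3],
  [7, 6, 5, 4, 3, 2, 1],
  [7, 6, 5, 4, 3, 2, 1, 3, 4, 5, 6, 0, 2, 3, 4, 5, 1, 3, 4, 2, 0],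
  [7, 6, 5, 4, 3, 2],
  [7, 6, 5, 4, 3, 2, 1, 3, 4, 5, 0, 2, 3, 4, 1],
  [7, 6, 5, 4, 3, 2, 1, 3, 4, 5, 6, 0, 2, 3, 4, 5, 1, 3, 4, 2, 3, 0],
  [7, 6, 5, 4, 3, 2, 1, 3, 4, 0],
  [7, 6, 5, 4, 3, 2, 1, 3, 4, 5, 0, 2, 3, 1],
  [7, 6, 5, 4, 3, 2, 1, 3, 4, 5, 6, 0],
  [7, 6, 5, 4, 3, 2, 1, 0],
  [7],
  [7, 6, 5, 4, 3, 2, 1, 3, 4, 5, 6, 0, 2, 3, 4, 5, 1, 3, 4, 2, 3, 0, 2, 1],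
  [7, 6, 5, 4, 3, 2, 1, 3, 4, 5, 6, 0, 2, 3, 4, 1, 3, 2],
  [7, 6, 5, 4, 3, 2, 1, 3, 4, 5, 0, 2, 3, 4, 1, 3, 2, 0],
  [7, 6, 5, 4, 3, 2, 1, 3, 4, 5, 6, 0, 2, 3],
  [7, 6, 5],
  [7, 6, 5, 4, 3, 2, 0],
  [7, 6, 5, 4, 3, 2, 1, 3, 4, 5, 0],
  [7, 6, 5, 4, 3, 2, 1, 3, 4, 5, 6, 0, 2, 3, 4, 5, 1, 3, 4, 2, 3, 0, 2, 1, 3],
  [7, 6, 5, 4],
  [7, 6, 5, 4, 3],
  [7, 6, 5, 4, 3, 2, 1, 3, 4, 5, 6, 0, 2, 3, 4],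
  [7, 6, 5, 4, 3, 2, 1, 3, 0],
  [7, 6, 5, 4, 3, 2, 1, 3, 4, 5, 6, 0, 2, 3, 4, 5, 1, 3, 4, 2, 3, 1],
  [7, 6, 5, 4, 3, 2, 1, 3, 4, 5, 0, 2],
  [7, 6],
  [7, 6, 5, 4, 3, 2, 1, 3, 4, 5, 6, 0, 2, 3, 4, 5, 1, 3, 4, 2, 3],
  [7, 6, 5, 4, 3, 2, 1, 3, 4, 5, 6, 0, 2, 3, 4, 1],
  [7, 6, 5, 4, 3, 2, 1, 3, 4, 5, 6, 0, 2, 3, 4, 5, 1, 3],
  [7, 6, 5, 4, 3, 2, 1, 3, 4, 5, 0, 2, 3, 4, 1, 3],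
  [7, 6, 5, 4, 3, 2, 1, 3, 4, 5, 6, 0, 2, 3, 4, 5, 1, 3, 4, 2, 3, 0, 2],
  [7, 6, 5, 4, 3, 2, 1, 3, 4, 5, 6, 0, 2, 3, 4, 5, 1, 3, 4, 2]]

theorem movesBE8 : movesB TypeE8.model pairWordsE8 = true := by decide +kernel

end Cfsg.Agent.Chev54
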