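import Cfsg.Agent.Chev54.InvRed
import Cfsg.Agent.Lib.ChevCore.GoodAll

/-!
The certificate of the reduction of involutions in type E6.
-/

set_option autoImplicit false
set_option maxRecDepth 100000

namespace Cfsg.Agent.Chev54

open Cfsg.Lie Cfsg.Agent.ChevCore

/-- State 0. -/
def stE6_0 : InvState :=
    { K := [], Φ := [],
      ops := [], rep := 0,
      piv := [{ X := { Φ := [], r := 36, ψ := [2, 2, 2, 2, 3, 0], π := [0, 0, 0, 0, -1, 2],
                              P := [(38, 37), (41, 40), (45, 44), (49, 48), (52, 51), (54, 53), (60, 59), (63, 62), (65, 64), (68, 67)],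
                              N := [(37, 38), (40, 41), (44, 45), (48, 49), (51, 52), (53, 54), (59, 60), (62, 63), (64, 65), (67, 68)], B := 22 },
                        u := [5], φ := [1, 1, 1, 1, 2, -1], w := [1, 3, 2, 0, 4, 3, 1, 2, 3, 4], next := 1 },
      { X := { Φ := [], r := 37, ψ := [2, 2, 2, 3, 0, 3], π := [0, 0, 0, -1, 2, -1],
                              P := [(38, 36), (40, 39), (44, 43), (48, 47), (51, 50), (55, 54), (59, 58), (62, 61), (66, 65), (69, 68)],
                              N := [(36, 38), (39, 40), (43, 44), (47, 48), (50, 51), (54, 55), (58, 59), (61, 62), (65, 66), (68, 69)], B := 22 },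
                        u := [4], φ := [1, 1, 1, 2, -1, 2], w := [1, 3, 2, 0, 4, 3, 1, 2, 3, 5], next := 1 },
      { X := { Φ := [], r := 39, ψ := [2, 3, 3, 0, 3, 2], π := [0, -1, -1, 2, -1, 0],
                              P := [(40, 37), (41, 38), (43, 42), (47, 46), (53, 51), (54, 52), (58, 57), (64, 62), (65, 63), (70, 69)],
                              N := [(37, 40), (38, 41), (42, 43), (46, 47), (51, 53), (52, 54), (57, 58), (62, 64), (63, 65), (69, 70)], B := 22 },
                        u := [3], φ := [1, 2, 2, -1, 2, 1], w := [1, 3, 2, 0, 4, 3, 1, 2, 5, 4], next := 1 },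
      { X := { Φ := [], r := 42, ψ := [3, 2, 0, 3, 2, 2], π := [-1, 0, 2, -1, 0, 0],
                              P := [(43, 39), (44, 40), (45, 41), (50, 47), (51, 48), (52, 49), (57, 56), (67, 64), (68, 65), (69, 66)],
                              N := [(39, 43), (40, 44), (41, 45), (47, 50), (48, 51), (49, 52), (56, 57), (64, 67), (65, 68), (66, 69)], B := 22 },
                        u := [2], φ := [2, 1, -1, 2, 1, 1], w := [1, 3, 2, 0, 4, 3, 1, 5, 4, 3], next := 1 },
      { X := { Φ := [], r := 46, ψ := [2, 0, 2, 3, 2, 2], π := [0, 2, 0, -1, 0, 0],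
                              P := [(47, 39), (48, 40), (49, 41), (50, 43), (51, 44), (52, 45), (61, 58), (62, 59), (63, 60), (71, 70)],
                              N := [(39, 47), (40, 48), (41, 49), (43, 50), (44, 51), (45, 52), (58, 61), (59, 62), (60, 63), (70, 71)], B := 21 },
                        u := [1], φ := [1, -1, 1, 2, 1, 1], w := [1, 3, 2, 0, 4, 3, 2, 5, 4, 3], next := 1 },
      { X := { Φ := [], r := 56, ψ := [0, 2, 3, 2, 2, 2], π := [2, 0, -1, 0, 0, 0],
                              P := [(57, 42), (58, 43), (59, 44), (60, 45), (61, 50), (62, 51), (63, 52), (64, 53), (65, 54), (66, 55)],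
                              N := [(42, 57), (43, 58), (44, 59), (45, 60), (50, 61), (51, 62), (52, 63), (53, 64), (54, 65), (55, 66)], B := 22 },
                        u := [0], φ := [-1, 1, 2, 1, 1, 1], w := [1, 3, 2, 4, 3, 1, 5, 4, 3, 2], next := 1 }] }

/-- State 1. -/
def stE6_1 : InvState :=
    { K := [71], Φ := [[0, 1, 0, 0, 0, 0]],
      ops := [], rep := 0,
      piv := [{ X := { Φ := [[0, 1, 0, 0, 0, 0]], r := 36, ψ := [2, 2, 2, 2, 3, 0], π := [0, 0, 0, 0, -1, 2],
                              P := [(38, 37), (41, 40), (45, 44), (60, 59)],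
                              N := [(37, 38), (40, 41), (44, 45), (59, 60)], B := 9 },
                        u := [5], φ := [1, 1, 1, 1, 2, -1], w := [0, 2, 3, 4], next := 2 },
      { X := { Φ := [[0, 1, 0, 0, 0, 0]], r := 37, ψ := [2, 2, 2, 3, 0, 3], π := [0, 0, 0, -1, 2, -1],
                              P := [(38, 36), (40, 39), (44, 43), (59, 58)],
                              N := [(36, 38), (39, 40), (43, 44), (58, 59)], B := 10 },
                        u := [4], φ := [1, 1, 1, 2, -1, 2], w := [0, 2, 3, 5], next := 2 },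
      { X := { Φ := [[0, 1, 0, 0, 0, 0]], r := 39, ψ := [2, 3, 3, 0, 3, 2], π := [0, -1, -1, 2, -1, 0],
                              P := [(40, 37), (41, 38), (43, 42), (58, 57)],
                              N := [(37, 40), (38, 41), (42, 43), (57, 58)], B := 10 },
                        u := [3], φ := [1, 2, 2, -1, 2, 1], w := [0, 2, 5, 4], next := 2 },
      { X := { Φ := [[0, 1, 0, 0, 0, 0]], r := 42, ψ := [3, 2, 0, 3, 2, 2], π := [-1, 0, 2, -1, 0, 0],
                              P := [(43, 39), (44, 40), (45, 41), (57, 56)],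
                              N := [(39, 43), (40, 44), (41, 45), (56, 57)], B := 10 },
                        u := [2], φ := [2, 1, -1, 2, 1, 1], w := [0, 5, 4, 3], next := 2 },
      { X := { Φ := [[0, 1, 0, 0, 0, 0]], r := 56, ψ := [0, 2, 3, 2, 2, 2], π := [2, 0, -1, 0, 0, 0],
                              P := [(57, 42), (58, 43), (59, 44), (60, 45)],
                              N := [(42, 57), (43, 58), (44, 59), (45, 60)], B := 9 },
                        u := [0], φ := [-1, 1, 2, 1, 1, 1], w := [5, 4, 3, 2], next := 2 }] }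

/-- State 2. -/
def stE6_2 : InvState :=
    { K := [60, 71], Φ := [[1, -1, 0, 0, 0, 1], [0, 1, 0, 0, 0, 0]],
      ops := [(true, 1), (true, 3), (true, 2)], rep := 1,
      piv := [{ X := { Φ := [[1, -1, 0, 0, 0, 1], [0, 1, 0, 0, 0, 0]], r := 37, ψ := [2, 2, 2, 3, 0, 3], π := [0, 0, 0, -1, 2, -1],
                              P := [(40, 39), (44, 43)],
                              N := [(39, 40), (43, 44)], B := 5 },
                        u := [4], φ := [1, 1, 1, 2, -1, 2], w := [2, 3], next := 3 },
      { X := { Φ := [[1, -1, 0, 0, 0, 1], [0, 1, 0, 0, 0, 0]], r := 39, ψ := [2, 3, 3, 0, 3, 2], π := [0, -1, -1, 2, -1, 0],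
                              P := [(40, 37), (43, 42)],
                              N := [(37, 40), (42, 43)], B := 6 },
                        u := [3], φ := [1, 2, 2, -1, 2, 1], w := [2, 4], next := 3 },
      { X := { Φ := [[1, -1, 0, 0, 0, 1], [0, 1, 0, 0, 0, 0]], r := 42, ψ := [3, 2, 0, 3, 2, 2], π := [-1, 0, 2, -1, 0, 0],
                              P := [(43, 39), (44, 40)],
                              N := [(39, 43), (40, 44)], B := 5 },
                        u := [2], φ := [2, 1, -1, 2, 1, 1], w := [4, 3], next := 3 }] }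

/-- State 3. -/
def stE6_3 : InvState :=
    { K := [44, 60, 71], Φ := [[-1, -1, 1, 0, 1, -1], [1, -1, 0, 0, 0, 1], [0, 1, 0, 0, 0, 0]],
      ops := [(true, 0), (true, 1), (true, 3), (true, 2), (true, 0)], rep := 2,
      piv := [{ X := { Φ := [[-1, -1, 1, 0, 1, -1], [1, -1, 0, 0, 0, 1], [0, 1, 0, 0, 0, 0]], r := 39, ψ := [2, 3, 3, 0, 3, 2], π := [0, -1, -1, 2, -1, 0],
                              P := [],
                              N := [], B := 1 },
                        u := [3], φ := [1, 2, 2, -1, 2, 1], w := [], next := 4 }] }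

/-- State 4. -/
def stE6_4 : InvState :=
    { K := [39, 44, 60, 71], Φ := [[0, -1, -1, 2, -1, 0], [-1, -1, 1, 0, 1, -1], [1, -1, 0, 0, 0, 1], [0, 1, 0, 0, 0, 0]],
      ops := [(false, 47), (false, 44), (false, 51), (false, 63), (true, 1), (true, 3), (true, 4), (true, 2), (true, 3), (true, 1), (true, 5), (true, 0), (true, 4), (true, 2), (true, 0), (true, 1), (true, 3), (true, 2), (true, 0)], rep := 2,
      piv := [] }

/-- The states for type E6. -/
def redE6 : RedData where
  fuel := 300
  reps := [[71], [68, 66], [55, 65, 67]]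
  st := [stE6_0, stE6_1, stE6_2, stE6_3, stE6_4]

/-- The byte tables of the simple reflections. -/
def reflTabE6 : List ℕ := [0x47464544433736353433322d2c2b2a0f4241403f3e3d31302f2e3c3b3a39292827262524232221201f1e0e0d0c0b191817160a0908070605381d1c1b1a1514131211100403020100,
  0x46474544434241403c3b3a3f3e3d39383736352d2c2b292827193433322a31302f2625242322211817161d1514132e201f1e1c1b1a1211100f0e0a09080d0c0b0706050403020001,
  0x47464241404544433f3e3d3c3b3a383937363531302f3433322e2928271d2d2c2b2625242322211c1b1a2a201f1e191514131817161211100e0f0d0c0b0a09080403020706050100,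
  0x4745464443423f3e41403d3c3b393a3837343336353231302e2f2d2c2a2b262520292824231f1e2722211c1d1b1a181917161512111413100f0d0e0c0b0a07060908050403010200,
  0x47464445434142403f3d3e3c3a3b3938363735343233312f302e2d2b2c2a2927282422262125231f201e1d1b1c1a191718161415131210110f0e0c0d0b090a080705060402030100,
  0x47464543444240413e3f3d3b3c3a393837353633343230312f2e2c2d2b2a282927252623242122201e1f1d1c1a1b191816171513141112100f0e0d0b0c0a08090607050304020100]

/-- The fast accessors. -/
noncomputable def tabE6 : CTab := CTab.fast chevE6 packedE6 reflTabE6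

theorem refTabE6_0 : refB chevE6 reflTabE6 0 = true := by decide +kernel

theorem refTabE6_1 : refB chevE6 reflTabE6 1 = true := by decide +kernel

theorem refTabE6_2 : refB chevE6 reflTabE6 2 = true := by decide +kernel

theorem refTabE6_3 : refB chevE6 reflTabE6 3 = true := by decide +kernel

theorem refTabE6_4 : refB chevE6 reflTabE6 4 = true := by decide +kernel

theorem refTabE6_5 : refB chevE6 reflTabE6 5 = true := by decide +kernel

theorem tabE6_eq : tabE6 = CTab.std chevE6 :=
  CTab.fast_eq chkLinkE6 fun i hi => by
    have h : i < 6 := hi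
    interval_cases i <;> first
      | exact refTabE6_0
      | exact refTabE6_1
      | exact refTabE6_2
      | exact refTabE6_3
      | exact refTabE6_4
      | exact refTabE6_5

theorem stE6_0_ok : redE6.stateB chevE6 tabE6 0 stE6_0 = true := by decide +kernel

theorem stE6_1_ok : redE6.stateB chevE6 tabE6 1 stE6_1 = true := by decide +kernel

theorem stE6_2_ok : redE6.stateB chevE6 tabE6 2 stE6_2 = true := by decide +kernel

theorem stE6_3_ok : redE6.stateB chevE6 tabE6 3 stE6_3 = true := by decide +kernel

theorem stE6_4_ok : redE6.stateB chevE6 tabE6 4 stE6_4 = true := by decide +kernel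

theorem redE6_ok : redE6.checkB chevE6 (CTab.std chevE6) = true := by
  rw [← tabE6_eq]
  refine redCheck_of (s0 := stE6_0) rfl rfl rfl ?_
  simp only [redE6, List.zipIdx_cons, List.zipIdx_nil, Nat.zero_add, Nat.reduceAdd, List.forall_mem_cons]
  exact ⟨stE6_0_ok, stE6_1_ok, stE6_2_ok, stE6_3_ok, stE6_4_ok, List.forall_mem_nil _⟩

end Cfsg.Agent.Chev54
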