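import Cfsg.Agent.Chev54.InvRed
import Cfsg.Agent.Lib.ChevCore.GoodAll

/-!
The certificate of the reduction of involutions in type E7.
-/

set_option autoImplicit false
set_option maxRecDepth 100000

namespace Cfsg.Agent.Chev54

open Cfsg.Lie Cfsg.Agent.ChevCore

/-- State 0. -/
def stE7_0 : InvState :=
    { K := [], Φ := [],
      ops := [], rep := 0,
      piv := [{ X := { Φ := [], r := 63, ψ := [2, 2, 2, 2, 2, 3, 0], π := [0, 0, 0, 0, 0, -1, 2],
                              P := [(65, 64), (68, 67), (72, 71), (77, 76), (82, 81), (86, 85), (89, 88), (91, 90), (98, 97), (102, 101), (105, 104), (107, 106), (111, 110), (113, 112), (116, 115), (120, 119)],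
                              N := [(64, 65), (67, 68), (71, 72), (76, 77), (81, 82), (85, 86), (88, 89), (90, 91), (97, 98), (101, 102), (104, 105), (106, 107), (110, 111), (112, 113), (115, 116), (119, 120)], B := 34 },
                        u := [6], φ := [1, 1, 1, 1, 1, 2, -1], w := [0, 2, 3, 1, 4, 3, 2, 0, 5, 4, 3, 1, 2, 3, 4, 5], next := 1 },
      { X := { Φ := [], r := 64, ψ := [2, 2, 2, 2, 3, 0, 3], π := [0, 0, 0, 0, -1, 2, -1],
                              P := [(65, 63), (67, 66), (71, 70), (76, 75), (81, 80), (85, 84), (88, 87), (92, 91), (97, 96), (101, 100), (104, 103), (108, 107), (110, 109), (114, 113), (117, 116), (121, 120)],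
                              N := [(63, 65), (66, 67), (70, 71), (75, 76), (80, 81), (84, 85), (87, 88), (91, 92), (96, 97), (100, 101), (103, 104), (107, 108), (109, 110), (113, 114), (116, 117), (120, 121)], B := 34 },
                        u := [5], φ := [1, 1, 1, 1, 2, -1, 2], w := [0, 2, 3, 1, 4, 3, 2, 0, 5, 4, 3, 1, 2, 3, 4, 6], next := 1 },
      { X := { Φ := [], r := 66, ψ := [2, 2, 2, 3, 0, 3, 2], π := [0, 0, 0, -1, 2, -1, 0],
                              P := [(67, 64), (68, 65), (70, 69), (75, 74), (80, 79), (84, 83), (90, 88), (91, 89), (96, 95), (100, 99), (106, 104), (107, 105), (112, 110), (113, 111), (118, 117), (122, 121)],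
                              N := [(64, 67), (65, 68), (69, 70), (74, 75), (79, 80), (83, 84), (88, 90), (89, 91), (95, 96), (99, 100), (104, 106), (105, 107), (110, 112), (111, 113), (117, 118), (121, 122)], B := 34 },
                        u := [4], φ := [1, 1, 1, 2, -1, 2, 1], w := [0, 2, 3, 1, 4, 3, 2, 0, 5, 4, 3, 1, 2, 3, 6, 5], next := 1 },
      { X := { Φ := [], r := 69, ψ := [2, 3, 3, 0, 3, 2, 2], π := [0, -1, -1, 2, -1, 0, 0],
                              P := [(70, 66), (71, 67), (72, 68), (74, 73), (79, 78), (87, 84), (88, 85), (89, 86), (95, 94), (103, 100), (104, 101), (105, 102), (115, 112), (116, 113), (117, 114), (123, 122)],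
                              N := [(66, 70), (67, 71), (68, 72), (73, 74), (78, 79), (84, 87), (85, 88), (86, 89), (94, 95), (100, 103), (101, 104), (102, 105), (112, 115), (113, 116), (114, 117), (122, 123)], B := 34 },
                        u := [3], φ := [1, 2, 2, -1, 2, 1, 1], w := [0, 2, 3, 1, 4, 3, 2, 0, 5, 4, 3, 1, 2, 6, 5, 4], next := 1 },
      { X := { Φ := [], r := 73, ψ := [3, 2, 0, 3, 2, 2, 2], π := [-1, 0, 2, -1, 0, 0, 0],
                              P := [(74, 69), (75, 70), (76, 71), (77, 72), (83, 79), (84, 80), (85, 81), (86, 82), (94, 93), (109, 103), (110, 104), (111, 105), (112, 106), (113, 107), (114, 108), (124, 123)],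
                              N := [(69, 74), (70, 75), (71, 76), (72, 77), (79, 83), (80, 84), (81, 85), (82, 86), (93, 94), (103, 109), (104, 110), (105, 111), (106, 112), (107, 113), (108, 114), (123, 124)], B := 34 },
                        u := [2], φ := [2, 1, -1, 2, 1, 1, 1], w := [0, 2, 3, 1, 4, 3, 2, 0, 5, 4, 3, 1, 6, 5, 4, 3], next := 1 },
      { X := { Φ := [], r := 78, ψ := [2, 0, 2, 3, 2, 2, 2], π := [0, 2, 0, -1, 0, 0, 0],
                              P := [(79, 69), (80, 70), (81, 71), (82, 72), (83, 74), (84, 75), (85, 76), (86, 77), (99, 95), (100, 96), (101, 97), (102, 98), (119, 115), (120, 116), (121, 117), (122, 118)],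
                              N := [(69, 79), (70, 80), (71, 81), (72, 82), (74, 83), (75, 84), (76, 85), (77, 86), (95, 99), (96, 100), (97, 101), (98, 102), (115, 119), (116, 120), (117, 121), (118, 122)], B := 34 },
                        u := [1], φ := [1, -1, 1, 2, 1, 1, 1], w := [0, 2, 3, 1, 4, 3, 2, 0, 5, 4, 3, 2, 6, 5, 4, 3], next := 1 },
      { X := { Φ := [], r := 93, ψ := [0, 2, 3, 2, 2, 2, 2], π := [2, 0, -1, 0, 0, 0, 0],
                              P := [(94, 73), (95, 74), (96, 75), (97, 76), (98, 77), (99, 83), (100, 84), (101, 85), (102, 86), (103, 87), (104, 88), (105, 89), (106, 90), (107, 91), (108, 92), (125, 124)],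
                              N := [(73, 94), (74, 95), (75, 96), (76, 97), (77, 98), (83, 99), (84, 100), (85, 101), (86, 102), (87, 103), (88, 104), (89, 105), (90, 106), (91, 107), (92, 108), (124, 125)], B := 33 },
                        u := [0], φ := [-1, 1, 2, 1, 1, 1, 1], w := [0, 2, 3, 1, 4, 3, 2, 5, 4, 3, 1, 6, 5, 4, 3, 2], next := 1 }] }

/-- State 1. -/
def stE7_1 : InvState :=
    { K := [125], Φ := [[1, 0, 0, 0, 0, 0, 0]],
      ops := [], rep := 0,
      piv := [{ X := { Φ := [[1, 0, 0, 0, 0, 0, 0]], r := 63, ψ := [2, 2, 2, 2, 2, 3, 0], π := [0, 0, 0, 0, 0, -1, 2],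
                              P := [(65, 64), (68, 67), (72, 71), (77, 76), (82, 81), (86, 85), (89, 88), (91, 90)],
                              N := [(64, 65), (67, 68), (71, 72), (76, 77), (81, 82), (85, 86), (88, 89), (90, 91)], B := 18 },
                        u := [6], φ := [1, 1, 1, 1, 1, 2, -1], w := [5, 4, 3, 1, 2, 3, 4, 5], next := 2 },
      { X := { Φ := [[1, 0, 0, 0, 0, 0, 0]], r := 64, ψ := [2, 2, 2, 2, 3, 0, 3], π := [0, 0, 0, 0, -1, 2, -1],
                              P := [(65, 63), (67, 66), (71, 70), (76, 75), (81, 80), (85, 84), (88, 87), (92, 91)],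
                              N := [(63, 65), (66, 67), (70, 71), (75, 76), (80, 81), (84, 85), (87, 88), (91, 92)], B := 17 },
                        u := [5], φ := [1, 1, 1, 1, 2, -1, 2], w := [5, 4, 3, 1, 2, 3, 4, 6], next := 2 },
      { X := { Φ := [[1, 0, 0, 0, 0, 0, 0]], r := 66, ψ := [2, 2, 2, 3, 0, 3, 2], π := [0, 0, 0, -1, 2, -1, 0],
                              P := [(67, 64), (68, 65), (70, 69), (75, 74), (80, 79), (84, 83), (90, 88), (91, 89)],
                              N := [(64, 67), (65, 68), (69, 70), (74, 75), (79, 80), (83, 84), (88, 90), (89, 91)], B := 18 },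
                        u := [4], φ := [1, 1, 1, 2, -1, 2, 1], w := [5, 4, 3, 1, 2, 3, 6, 5], next := 2 },
      { X := { Φ := [[1, 0, 0, 0, 0, 0, 0]], r := 69, ψ := [2, 3, 3, 0, 3, 2, 2], π := [0, -1, -1, 2, -1, 0, 0],
                              P := [(70, 66), (71, 67), (72, 68), (74, 73), (79, 78), (87, 84), (88, 85), (89, 86)],
                              N := [(66, 70), (67, 71), (68, 72), (73, 74), (78, 79), (84, 87), (85, 88), (86, 89)], B := 18 },
                        u := [3], φ := [1, 2, 2, -1, 2, 1, 1], w := [5, 4, 3, 1, 2, 6, 5, 4], next := 2 },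
      { X := { Φ := [[1, 0, 0, 0, 0, 0, 0]], r := 73, ψ := [3, 2, 0, 3, 2, 2, 2], π := [-1, 0, 2, -1, 0, 0, 0],
                              P := [(74, 69), (75, 70), (76, 71), (77, 72), (83, 79), (84, 80), (85, 81), (86, 82)],
                              N := [(69, 74), (70, 75), (71, 76), (72, 77), (79, 83), (80, 84), (81, 85), (82, 86)], B := 18 },
                        u := [2], φ := [2, 1, -1, 2, 1, 1, 1], w := [5, 4, 3, 1, 6, 5, 4, 3], next := 2 },
      { X := { Φ := [[1, 0, 0, 0, 0, 0, 0]], r := 78, ψ := [2, 0, 2, 3, 2, 2, 2], π := [0, 2, 0, -1, 0, 0, 0],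
                              P := [(79, 69), (80, 70), (81, 71), (82, 72), (83, 74), (84, 75), (85, 76), (86, 77)],
                              N := [(69, 79), (70, 80), (71, 81), (72, 82), (74, 83), (75, 84), (76, 85), (77, 86)], B := 18 },
                        u := [1], φ := [1, -1, 1, 2, 1, 1, 1], w := [5, 4, 3, 2, 6, 5, 4, 3], next := 2 }] }

/-- State 2. -/
def stE7_2 : InvState :=
    { K := [92, 125], Φ := [[-1, 0, 0, 0, 0, 1, 0], [1, 0, 0, 0, 0, 0, 0]],
      ops := [], rep := 1,
      piv := [{ X := { Φ := [[-1, 0, 0, 0, 0, 1, 0], [1, 0, 0, 0, 0, 0, 0]], r := 63, ψ := [2, 2, 2, 2, 2, 3, 0], π := [0, 0, 0, 0, 0, -1, 2],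
                              P := [],
                              N := [], B := 10 },
                        u := [6], φ := [1, 1, 1, 1, 1, 2, -1], w := [], next := 3 },
      { X := { Φ := [[-1, 0, 0, 0, 0, 1, 0], [1, 0, 0, 0, 0, 0, 0]], r := 66, ψ := [2, 2, 2, 3, 0, 3, 2], π := [0, 0, 0, -1, 2, -1, 0],
                              P := [(70, 69), (75, 74), (80, 79), (84, 83)],
                              N := [(69, 70), (74, 75), (79, 80), (83, 84)], B := 10 },
                        u := [4], φ := [1, 1, 1, 2, -1, 2, 1], w := [3, 1, 2, 3], next := 4 },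
      { X := { Φ := [[-1, 0, 0, 0, 0, 1, 0], [1, 0, 0, 0, 0, 0, 0]], r := 69, ψ := [2, 3, 3, 0, 3, 2, 2], π := [0, -1, -1, 2, -1, 0, 0],
                              P := [(70, 66), (74, 73), (79, 78), (87, 84)],
                              N := [(66, 70), (73, 74), (78, 79), (84, 87)], B := 9 },
                        u := [3], φ := [1, 2, 2, -1, 2, 1, 1], w := [3, 1, 2, 4], next := 4 },
      { X := { Φ := [[-1, 0, 0, 0, 0, 1, 0], [1, 0, 0, 0, 0, 0, 0]], r := 73, ψ := [3, 2, 0, 3, 2, 2, 2], π := [-1, 0, 2, -1, 0, 0, 0],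
                              P := [(74, 69), (75, 70), (83, 79), (84, 80)],
                              N := [(69, 74), (70, 75), (79, 83), (80, 84)], B := 10 },
                        u := [2], φ := [2, 1, -1, 2, 1, 1, 1], w := [3, 1, 4, 3], next := 4 },
      { X := { Φ := [[-1, 0, 0, 0, 0, 1, 0], [1, 0, 0, 0, 0, 0, 0]], r := 78, ψ := [2, 0, 2, 3, 2, 2, 2], π := [0, 2, 0, -1, 0, 0, 0],
                              P := [(79, 69), (80, 70), (83, 74), (84, 75)],
                              N := [(69, 79), (70, 80), (74, 83), (75, 84)], B := 10 },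
                        u := [1], φ := [1, -1, 1, 2, 1, 1, 1], w := [3, 2, 4, 3], next := 4 }] }

/-- State 3. -/
def stE7_3 : InvState :=
    { K := [63, 92, 125], Φ := [[0, 0, 0, 0, 0, -1, 2], [-1, 0, 0, 0, 0, 1, 0], [1, 0, 0, 0, 0, 0, 0]],
      ops := [], rep := 2,
      piv := [{ X := { Φ := [[0, 0, 0, 0, 0, -1, 2], [-1, 0, 0, 0, 0, 1, 0], [1, 0, 0, 0, 0, 0, 0]], r := 66, ψ := [2, 2, 2, 3, 0, 3, 2], π := [0, 0, 0, -1, 2, -1, 0],
                              P := [(70, 69), (75, 74), (80, 79), (84, 83)],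
                              N := [(69, 70), (74, 75), (79, 80), (83, 84)], B := 10 },
                        u := [4], φ := [1, 1, 1, 2, -1, 2, 1], w := [3, 1, 2, 3], next := 5 },
      { X := { Φ := [[0, 0, 0, 0, 0, -1, 2], [-1, 0, 0, 0, 0, 1, 0], [1, 0, 0, 0, 0, 0, 0]], r := 69, ψ := [2, 3, 3, 0, 3, 2, 2], π := [0, -1, -1, 2, -1, 0, 0],
                              P := [(70, 66), (74, 73), (79, 78), (87, 84)],
                              N := [(66, 70), (73, 74), (78, 79), (84, 87)], B := 9 },
                        u := [3], φ := [1, 2, 2, -1, 2, 1, 1], w := [3, 1, 2, 4], next := 5 },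
      { X := { Φ := [[0, 0, 0, 0, 0, -1, 2], [-1, 0, 0, 0, 0, 1, 0], [1, 0, 0, 0, 0, 0, 0]], r := 73, ψ := [3, 2, 0, 3, 2, 2, 2], π := [-1, 0, 2, -1, 0, 0, 0],
                              P := [(74, 69), (75, 70), (83, 79), (84, 80)],
                              N := [(69, 74), (70, 75), (79, 83), (80, 84)], B := 10 },
                        u := [2], φ := [2, 1, -1, 2, 1, 1, 1], w := [3, 1, 4, 3], next := 5 },
      { X := { Φ := [[0, 0, 0, 0, 0, -1, 2], [-1, 0, 0, 0, 0, 1, 0], [1, 0, 0, 0, 0, 0, 0]], r := 78, ψ := [2, 0, 2, 3, 2, 2, 2], π := [0, 2, 0, -1, 0, 0, 0],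
                              P := [(79, 69), (80, 70), (83, 74), (84, 75)],
                              N := [(69, 79), (70, 80), (74, 83), (75, 84)], B := 10 },
                        u := [1], φ := [1, -1, 1, 2, 1, 1, 1], w := [3, 2, 4, 3], next := 5 }] }

/-- State 4. -/
def stE7_4 : InvState :=
    { K := [87, 92, 125], Φ := [[-1, 0, 0, 1, 0, -1, 0], [-1, 0, 0, 0, 0, 1, 0], [1, 0, 0, 0, 0, 0, 0]],
      ops := [], rep := 3,
      piv := [{ X := { Φ := [[-1, 0, 0, 1, 0, -1, 0], [-1, 0, 0, 0, 0, 1, 0], [1, 0, 0, 0, 0, 0, 0]], r := 63, ψ := [2, 2, 2, 2, 2, 3, 0], π := [0, 0, 0, 0, 0, -1, 2],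
                              P := [],
                              N := [], B := 2 },
                        u := [6], φ := [1, 1, 1, 1, 1, 2, -1], w := [], next := 5 },
      { X := { Φ := [[-1, 0, 0, 1, 0, -1, 0], [-1, 0, 0, 0, 0, 1, 0], [1, 0, 0, 0, 0, 0, 0]], r := 66, ψ := [2, 2, 2, 3, 0, 3, 2], π := [0, 0, 0, -1, 2, -1, 0],
                              P := [],
                              N := [], B := 2 },
                        u := [4], φ := [1, 1, 1, 2, -1, 2, 1], w := [], next := 6 },
      { X := { Φ := [[-1, 0, 0, 1, 0, -1, 0], [-1, 0, 0, 0, 0, 1, 0], [1, 0, 0, 0, 0, 0, 0]], r := 73, ψ := [3, 2, 0, 3, 2, 2, 2], π := [-1, 0, 2, -1, 0, 0, 0],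
                              P := [],
                              N := [], B := 2 },
                        u := [2], φ := [2, 1, -1, 2, 1, 1, 1], w := [], next := 7 },
      { X := { Φ := [[-1, 0, 0, 1, 0, -1, 0], [-1, 0, 0, 0, 0, 1, 0], [1, 0, 0, 0, 0, 0, 0]], r := 78, ψ := [2, 0, 2, 3, 2, 2, 2], π := [0, 2, 0, -1, 0, 0, 0],
                              P := [],
                              N := [], B := 2 },
                        u := [1], φ := [1, -1, 1, 2, 1, 1, 1], w := [], next := 8 }] }

/-- State 5. -/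
def stE7_5 : InvState :=
    { K := [63, 87, 92, 125], Φ := [[0, 0, 0, 0, 0, -1, 2], [-1, 0, 0, 1, 0, -1, 0], [-1, 0, 0, 0, 0, 1, 0], [1, 0, 0, 0, 0, 0, 0]],
      ops := [(true, 5), (true, 6), (true, 4), (true, 5), (true, 0), (true, 2), (true, 3), (true, 4), (true, 1), (true, 3), (true, 2), (true, 0), (true, 0), (true, 2), (true, 3), (true, 1), (true, 4), (true, 3), (true, 2), (true, 0), (true, 5), (true, 4), (true, 6), (true, 5)], rep := 4,
      piv := [{ X := { Φ := [[0, 0, 0, 0, 0, -1, 2], [-1, 0, 0, 1, 0, -1, 0], [-1, 0, 0, 0, 0, 1, 0], [1, 0, 0, 0, 0, 0, 0]], r := 66, ψ := [2, 2, 2, 3, 0, 3, 2], π := [0, 0, 0, -1, 2, -1, 0],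
                              P := [],
                              N := [], B := 2 },
                        u := [4], φ := [1, 1, 1, 2, -1, 2, 1], w := [], next := 9 },
      { X := { Φ := [[0, 0, 0, 0, 0, -1, 2], [-1, 0, 0, 1, 0, -1, 0], [-1, 0, 0, 0, 0, 1, 0], [1, 0, 0, 0, 0, 0, 0]], r := 73, ψ := [3, 2, 0, 3, 2, 2, 2], π := [-1, 0, 2, -1, 0, 0, 0],
                              P := [],
                              N := [], B := 2 },
                        u := [2], φ := [2, 1, -1, 2, 1, 1, 1], w := [], next := 10 },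
      { X := { Φ := [[0, 0, 0, 0, 0, -1, 2], [-1, 0, 0, 1, 0, -1, 0], [-1, 0, 0, 0, 0, 1, 0], [1, 0, 0, 0, 0, 0, 0]], r := 78, ψ := [2, 0, 2, 3, 2, 2, 2], π := [0, 2, 0, -1, 0, 0, 0],
                              P := [],
                              N := [], B := 2 },
                        u := [1], φ := [1, -1, 1, 2, 1, 1, 1], w := [], next := 11 }] }

/-- State 6. -/
def stE7_6 : InvState :=
    { K := [66, 87, 92, 125], Φ := [[0, 0, 0, -1, 2, -1, 0], [-1, 0, 0, 1, 0, -1, 0], [-1, 0, 0, 0, 0, 1, 0], [1, 0, 0, 0, 0, 0, 0]],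
      ops := [(true, 0), (true, 2), (true, 3), (true, 4), (true, 1), (true, 3), (true, 2), (true, 0), (true, 0), (true, 2), (true, 3), (true, 1), (true, 4), (true, 3), (true, 2), (true, 0), (true, 5), (true, 4), (true, 6), (true, 5)], rep := 4,
      piv := [{ X := { Φ := [[0, 0, 0, -1, 2, -1, 0], [-1, 0, 0, 1, 0, -1, 0], [-1, 0, 0, 0, 0, 1, 0], [1, 0, 0, 0, 0, 0, 0]], r := 63, ψ := [2, 2, 2, 2, 2, 3, 0], π := [0, 0, 0, 0, 0, -1, 2],
                              P := [],
                              N := [], B := 2 },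
                        u := [6], φ := [1, 1, 1, 1, 1, 2, -1], w := [], next := 9 },
      { X := { Φ := [[0, 0, 0, -1, 2, -1, 0], [-1, 0, 0, 1, 0, -1, 0], [-1, 0, 0, 0, 0, 1, 0], [1, 0, 0, 0, 0, 0, 0]], r := 73, ψ := [3, 2, 0, 3, 2, 2, 2], π := [-1, 0, 2, -1, 0, 0, 0],
                              P := [],
                              N := [], B := 2 },
                        u := [2], φ := [2, 1, -1, 2, 1, 1, 1], w := [], next := 12 },
      { X := { Φ := [[0, 0, 0, -1, 2, -1, 0], [-1, 0, 0, 1, 0, -1, 0], [-1, 0, 0, 0, 0, 1, 0], [1, 0, 0, 0, 0, 0, 0]], r := 78, ψ := [2, 0, 2, 3, 2, 2, 2], π := [0, 2, 0, -1, 0, 0, 0],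
                              P := [],
                              N := [], B := 2 },
                        u := [1], φ := [1, -1, 1, 2, 1, 1, 1], w := [], next := 13 }] }

/-- State 7. -/
def stE7_7 : InvState :=
    { K := [73, 87, 92, 125], Φ := [[-1, 0, 2, -1, 0, 0, 0], [-1, 0, 0, 1, 0, -1, 0], [-1, 0, 0, 0, 0, 1, 0], [1, 0, 0, 0, 0, 0, 0]],
      ops := [(false, 94), (false, 87), (false, 103), (false, 108), (true, 0), (true, 2), (true, 3), (true, 4), (true, 1), (true, 3), (true, 2), (true, 0), (true, 5), (true, 6), (true, 4), (true, 5), (true, 3), (true, 4), (true, 1), (true, 3)], rep := 3,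
      piv := [{ X := { Φ := [[-1, 0, 2, -1, 0, 0, 0], [-1, 0, 0, 1, 0, -1, 0], [-1, 0, 0, 0, 0, 1, 0], [1, 0, 0, 0, 0, 0, 0]], r := 63, ψ := [2, 2, 2, 2, 2, 3, 0], π := [0, 0, 0, 0, 0, -1, 2],
                              P := [],
                              N := [], B := 2 },
                        u := [6], φ := [1, 1, 1, 1, 1, 2, -1], w := [], next := 10 },
      { X := { Φ := [[-1, 0, 2, -1, 0, 0, 0], [-1, 0, 0, 1, 0, -1, 0], [-1, 0, 0, 0, 0, 1, 0], [1, 0, 0, 0, 0, 0, 0]], r := 66, ψ := [2, 2, 2, 3, 0, 3, 2], π := [0, 0, 0, -1, 2, -1, 0],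
                              P := [],
                              N := [], B := 2 },
                        u := [4], φ := [1, 1, 1, 2, -1, 2, 1], w := [], next := 12 },
      { X := { Φ := [[-1, 0, 2, -1, 0, 0, 0], [-1, 0, 0, 1, 0, -1, 0], [-1, 0, 0, 0, 0, 1, 0], [1, 0, 0, 0, 0, 0, 0]], r := 78, ψ := [2, 0, 2, 3, 2, 2, 2], π := [0, 2, 0, -1, 0, 0, 0],
                              P := [],
                              N := [], B := 2 },
                        u := [1], φ := [1, -1, 1, 2, 1, 1, 1], w := [], next := 14 }] }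

/-- State 8. -/
def stE7_8 : InvState :=
    { K := [78, 87, 92, 125], Φ := [[0, 2, 0, -1, 0, 0, 0], [-1, 0, 0, 1, 0, -1, 0], [-1, 0, 0, 0, 0, 1, 0], [1, 0, 0, 0, 0, 0, 0]],
      ops := [(true, 0), (true, 2), (true, 3), (true, 1), (true, 4), (true, 3), (true, 2), (true, 0), (true, 5), (true, 4), (true, 6), (true, 5)], rep := 4,
      piv := [{ X := { Φ := [[0, 2, 0, -1, 0, 0, 0], [-1, 0, 0, 1, 0, -1, 0], [-1, 0, 0, 0, 0, 1, 0], [1, 0, 0, 0, 0, 0, 0]], r := 63, ψ := [2, 2, 2, 2, 2, 3, 0], π := [0, 0, 0, 0, 0, -1, 2],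
                              P := [],
                              N := [], B := 2 },
                        u := [6], φ := [1, 1, 1, 1, 1, 2, -1], w := [], next := 11 },
      { X := { Φ := [[0, 2, 0, -1, 0, 0, 0], [-1, 0, 0, 1, 0, -1, 0], [-1, 0, 0, 0, 0, 1, 0], [1, 0, 0, 0, 0, 0, 0]], r := 66, ψ := [2, 2, 2, 3, 0, 3, 2], π := [0, 0, 0, -1, 2, -1, 0],
                              P := [],
                              N := [], B := 2 },
                        u := [4], φ := [1, 1, 1, 2, -1, 2, 1], w := [], next := 13 },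
      { X := { Φ := [[0, 2, 0, -1, 0, 0, 0], [-1, 0, 0, 1, 0, -1, 0], [-1, 0, 0, 0, 0, 1, 0], [1, 0, 0, 0, 0, 0, 0]], r := 73, ψ := [3, 2, 0, 3, 2, 2, 2], π := [-1, 0, 2, -1, 0, 0, 0],
                              P := [],
                              N := [], B := 2 },
                        u := [2], φ := [2, 1, -1, 2, 1, 1, 1], w := [], next := 14 }] }

/-- State 9. -/
def stE7_9 : InvState :=
    { K := [63, 66, 87, 92, 125], Φ := [[0, 0, 0, 0, 0, -1, 2], [0, 0, 0, -1, 2, -1, 0], [-1, 0, 0, 1, 0, -1, 0], [-1, 0, 0, 0, 0, 1, 0], [1, 0, 0, 0, 0, 0, 0]],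
      ops := [(false, 65), (false, 66), (false, 67), (false, 88), (true, 5), (true, 6), (true, 4), (true, 5), (true, 3), (true, 2), (true, 1), (true, 3), (true, 5), (true, 6), (true, 4), (true, 5), (true, 0), (true, 2), (true, 3), (true, 4), (true, 1), (true, 3), (true, 2), (true, 0), (true, 0), (true, 2), (true, 3), (true, 1), (true, 4), (true, 3), (true, 2), (true, 0), (true, 5), (true, 4), (true, 6), (true, 5)], rep := 4,
      piv := [{ X := { Φ := [[0, 0, 0, 0, 0, -1, 2], [0, 0, 0, -1, 2, -1, 0], [-1, 0, 0, 1, 0, -1, 0], [-1, 0, 0, 0, 0, 1, 0], [1, 0, 0, 0, 0, 0, 0]], r := 73, ψ := [3, 2, 0, 3, 2, 2, 2], π := [-1, 0, 2, -1, 0, 0, 0],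
                              P := [],
                              N := [], B := 2 },
                        u := [2], φ := [2, 1, -1, 2, 1, 1, 1], w := [], next := 15 },
      { X := { Φ := [[0, 0, 0, 0, 0, -1, 2], [0, 0, 0, -1, 2, -1, 0], [-1, 0, 0, 1, 0, -1, 0], [-1, 0, 0, 0, 0, 1, 0], [1, 0, 0, 0, 0, 0, 0]], r := 78, ψ := [2, 0, 2, 3, 2, 2, 2], π := [0, 2, 0, -1, 0, 0, 0],
                              P := [],
                              N := [], B := 2 },
                        u := [1], φ := [1, -1, 1, 2, 1, 1, 1], w := [], next := 16 }] }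

/-- State 10. -/
def stE7_10 : InvState :=
    { K := [63, 73, 87, 92, 125], Φ := [[0, 0, 0, 0, 0, -1, 2], [-1, 0, 2, -1, 0, 0, 0], [-1, 0, 0, 1, 0, -1, 0], [-1, 0, 0, 0, 0, 1, 0], [1, 0, 0, 0, 0, 0, 0]],
      ops := [(true, 5), (true, 4), (true, 3), (true, 2), (true, 1), (true, 3), (true, 4), (true, 5), (true, 0), (true, 2), (true, 3), (true, 4), (true, 1), (true, 3), (true, 2), (true, 0), (false, 65), (false, 66), (false, 67), (false, 88), (true, 5), (true, 6), (true, 4), (true, 5), (true, 3), (true, 2), (true, 1), (true, 3), (true, 5), (true, 6), (true, 4), (true, 5), (true, 0), (true, 2), (true, 3), (true, 4), (true, 1), (true, 3), (true, 2), (true, 0), (true, 0), (true, 2), (true, 3), (true, 1), (true, 4), (true, 3), (true, 2), (true, 0), (true, 5), (true, 4), (true, 6), (true, 5)], rep := 4,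
      piv := [{ X := { Φ := [[0, 0, 0, 0, 0, -1, 2], [-1, 0, 2, -1, 0, 0, 0], [-1, 0, 0, 1, 0, -1, 0], [-1, 0, 0, 0, 0, 1, 0], [1, 0, 0, 0, 0, 0, 0]], r := 66, ψ := [2, 2, 2, 3, 0, 3, 2], π := [0, 0, 0, -1, 2, -1, 0],
                              P := [],
                              N := [], B := 2 },
                        u := [4], φ := [1, 1, 1, 2, -1, 2, 1], w := [], next := 15 },
      { X := { Φ := [[0, 0, 0, 0, 0, -1, 2], [-1, 0, 2, -1, 0, 0, 0], [-1, 0, 0, 1, 0, -1, 0], [-1, 0, 0, 0, 0, 1, 0], [1, 0, 0, 0, 0, 0, 0]], r := 78, ψ := [2, 0, 2, 3, 2, 2, 2], π := [0, 2, 0, -1, 0, 0, 0],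
                              P := [],
                              N := [], B := 2 },
                        u := [1], φ := [1, -1, 1, 2, 1, 1, 1], w := [], next := 17 }] }

/-- State 11. -/
def stE7_11 : InvState :=
    { K := [63, 78, 87, 92, 125], Φ := [[0, 0, 0, 0, 0, -1, 2], [0, 2, 0, -1, 0, 0, 0], [-1, 0, 0, 1, 0, -1, 0], [-1, 0, 0, 0, 0, 1, 0], [1, 0, 0, 0, 0, 0, 0]],
      ops := [(true, 0), (true, 2), (true, 3), (true, 4), (true, 1), (true, 3), (true, 2), (true, 0), (false, 65), (false, 66), (false, 67), (false, 88), (true, 5), (true, 6), (true, 4), (true, 5), (true, 3), (true, 2), (true, 1), (true, 3), (true, 5), (true, 6), (true, 4), (true, 5), (true, 0), (true, 2), (true, 3), (true, 4), (true, 1), (true, 3), (true, 2), (true, 0), (true, 0), (true, 2), (true, 3), (true, 1), (true, 4), (true, 3), (true, 2), (true, 0), (true, 5), (true, 4), (true, 6), (true, 5)], rep := 4,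
      piv := [{ X := { Φ := [[0, 0, 0, 0, 0, -1, 2], [0, 2, 0, -1, 0, 0, 0], [-1, 0, 0, 1, 0, -1, 0], [-1, 0, 0, 0, 0, 1, 0], [1, 0, 0, 0, 0, 0, 0]], r := 66, ψ := [2, 2, 2, 3, 0, 3, 2], π := [0, 0, 0, -1, 2, -1, 0],
                              P := [],
                              N := [], B := 2 },
                        u := [4], φ := [1, 1, 1, 2, -1, 2, 1], w := [], next := 16 },
      { X := { Φ := [[0, 0, 0, 0, 0, -1, 2], [0, 2, 0, -1, 0, 0, 0], [-1, 0, 0, 1, 0, -1, 0], [-1, 0, 0, 0, 0, 1, 0], [1, 0, 0, 0, 0, 0, 0]], r := 73, ψ := [3, 2, 0, 3, 2, 2, 2], π := [-1, 0, 2, -1, 0, 0, 0],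
                              P := [],
                              N := [], B := 2 },
                        u := [2], φ := [2, 1, -1, 2, 1, 1, 1], w := [], next := 17 }] }

/-- State 12. -/
def stE7_12 : InvState :=
    { K := [66, 73, 87, 92, 125], Φ := [[0, 0, 0, -1, 2, -1, 0], [-1, 0, 2, -1, 0, 0, 0], [-1, 0, 0, 1, 0, -1, 0], [-1, 0, 0, 0, 0, 1, 0], [1, 0, 0, 0, 0, 0, 0]],
      ops := [(true, 5), (true, 6), (true, 3), (true, 2), (true, 1), (true, 3), (true, 4), (true, 5), (true, 0), (true, 2), (true, 3), (true, 4), (true, 1), (true, 3), (true, 2), (true, 0), (false, 65), (false, 66), (false, 67), (false, 88), (true, 5), (true, 6), (true, 4), (true, 5), (true, 3), (true, 2), (true, 1), (true, 3), (true, 5), (true, 6), (true, 4), (true, 5), (true, 0), (true, 2), (true, 3), (true, 4), (true, 1), (true, 3), (true, 2), (true, 0), (true, 0), (true, 2), (true, 3), (true, 1), (true, 4), (true, 3), (true, 2), (true, 0), (true, 5), (true, 4), (true, 6), (true, 5)], rep := 4,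
      piv := [{ X := { Φ := [[0, 0, 0, -1, 2, -1, 0], [-1, 0, 2, -1, 0, 0, 0], [-1, 0, 0, 1, 0, -1, 0], [-1, 0, 0, 0, 0, 1, 0], [1, 0, 0, 0, 0, 0, 0]], r := 63, ψ := [2, 2, 2, 2, 2, 3, 0], π := [0, 0, 0, 0, 0, -1, 2],
                              P := [],
                              N := [], B := 2 },
                        u := [6], φ := [1, 1, 1, 1, 1, 2, -1], w := [], next := 15 },
      { X := { Φ := [[0, 0, 0, -1, 2, -1, 0], [-1, 0, 2, -1, 0, 0, 0], [-1, 0, 0, 1, 0, -1, 0], [-1, 0, 0, 0, 0, 1, 0], [1, 0, 0, 0, 0, 0, 0]], r := 78, ψ := [2, 0, 2, 3, 2, 2, 2], π := [0, 2, 0, -1, 0, 0, 0],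
                              P := [],
                              N := [], B := 2 },
                        u := [1], φ := [1, -1, 1, 2, 1, 1, 1], w := [], next := 18 }] }

/-- State 13. -/
def stE7_13 : InvState :=
    { K := [66, 78, 87, 92, 125], Φ := [[0, 0, 0, -1, 2, -1, 0], [0, 2, 0, -1, 0, 0, 0], [-1, 0, 0, 1, 0, -1, 0], [-1, 0, 0, 0, 0, 1, 0], [1, 0, 0, 0, 0, 0, 0]],
      ops := [(true, 5), (true, 6), (true, 4), (true, 5), (true, 0), (true, 2), (true, 3), (true, 4), (true, 1), (true, 3), (true, 2), (true, 0), (false, 65), (false, 66), (false, 67), (false, 88), (true, 5), (true, 6), (true, 4), (true, 5), (true, 3), (true, 2), (true, 1), (true, 3), (true, 5), (true, 6), (true, 4), (true, 5), (true, 0), (true, 2), (true, 3), (true, 4), (true, 1), (true, 3), (true, 2), (true, 0), (true, 0), (true, 2), (true, 3), (true, 1), (true, 4), (true, 3), (true, 2), (true, 0), (true, 5), (true, 4), (true, 6), (true, 5)], rep := 4,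
      piv := [{ X := { Φ := [[0, 0, 0, -1, 2, -1, 0], [0, 2, 0, -1, 0, 0, 0], [-1, 0, 0, 1, 0, -1, 0], [-1, 0, 0, 0, 0, 1, 0], [1, 0, 0, 0, 0, 0, 0]], r := 63, ψ := [2, 2, 2, 2, 2, 3, 0], π := [0, 0, 0, 0, 0, -1, 2],
                              P := [],
                              N := [], B := 2 },
                        u := [6], φ := [1, 1, 1, 1, 1, 2, -1], w := [], next := 16 },
      { X := { Φ := [[0, 0, 0, -1, 2, -1, 0], [0, 2, 0, -1, 0, 0, 0], [-1, 0, 0, 1, 0, -1, 0], [-1, 0, 0, 0, 0, 1, 0], [1, 0, 0, 0, 0, 0, 0]], r := 73, ψ := [3, 2, 0, 3, 2, 2, 2], π := [-1, 0, 2, -1, 0, 0, 0],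
                              P := [],
                              N := [], B := 2 },
                        u := [2], φ := [2, 1, -1, 2, 1, 1, 1], w := [], next := 18 }] }

/-- State 14. -/
def stE7_14 : InvState :=
    { K := [73, 78, 87, 92, 125], Φ := [[-1, 0, 2, -1, 0, 0, 0], [0, 2, 0, -1, 0, 0, 0], [-1, 0, 0, 1, 0, -1, 0], [-1, 0, 0, 0, 0, 1, 0], [1, 0, 0, 0, 0, 0, 0]],
      ops := [(true, 3), (true, 4), (true, 5), (true, 6), (true, 2), (true, 3), (true, 4), (true, 5), (true, 0), (true, 2), (true, 3), (true, 4), (true, 1), (true, 3), (true, 2), (true, 0), (false, 65), (false, 66), (false, 67), (false, 88), (true, 5), (true, 6), (true, 4), (true, 5), (true, 3), (true, 2), (true, 1), (true, 3), (true, 5), (true, 6), (true, 4), (true, 5), (true, 0), (true, 2), (true, 3), (true, 4), (true, 1), (true, 3), (true, 2), (true, 0), (true, 0), (true, 2), (true, 3), (true, 1), (true, 4), (true, 3), (true, 2), (true, 0), (true, 5), (true, 4), (true, 6), (true, 5)], rep := 4,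
      piv := [{ X := { Φ := [[-1, 0, 2, -1, 0, 0, 0], [0, 2, 0, -1, 0, 0, 0], [-1, 0, 0, 1, 0, -1, 0], [-1, 0, 0, 0, 0, 1, 0], [1, 0, 0, 0, 0, 0, 0]], r := 63, ψ := [2, 2, 2, 2, 2, 3, 0], π := [0, 0, 0, 0, 0, -1, 2],
                              P := [],
                              N := [], B := 2 },
                        u := [6], φ := [1, 1, 1, 1, 1, 2, -1], w := [], next := 17 },
      { X := { Φ := [[-1, 0, 2, -1, 0, 0, 0], [0, 2, 0, -1, 0, 0, 0], [-1, 0, 0, 1, 0, -1, 0], [-1, 0, 0, 0, 0, 1, 0], [1, 0, 0, 0, 0, 0, 0]], r := 66, ψ := [2, 2, 2, 3, 0, 3, 2], π := [0, 0, 0, -1, 2, -1, 0],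
                              P := [],
                              N := [], B := 2 },
                        u := [4], φ := [1, 1, 1, 2, -1, 2, 1], w := [], next := 18 }] }

/-- State 15. -/
def stE7_15 : InvState :=
    { K := [63, 66, 73, 87, 92, 125], Φ := [[0, 0, 0, 0, 0, -1, 2], [0, 0, 0, -1, 2, -1, 0], [-1, 0, 2, -1, 0, 0, 0], [-1, 0, 0, 1, 0, -1, 0], [-1, 0, 0, 0, 0, 1, 0], [1, 0, 0, 0, 0, 0, 0]],
      ops := [(false, 105), (false, 66), (false, 106), (false, 110), (true, 3), (true, 4), (true, 5), (true, 6), (true, 1), (true, 3), (true, 4), (true, 5), (true, 0), (true, 2), (true, 3), (true, 4), (true, 1), (true, 3), (true, 2), (true, 0), (true, 5), (true, 6), (true, 4), (true, 5), (true, 3), (true, 4), (true, 2), (true, 3), (false, 65), (false, 66), (false, 67), (false, 88), (true, 5), (true, 6), (true, 4), (true, 5), (true, 3), (true, 2), (true, 1), (true, 3), (true, 5), (true, 6), (true, 4), (true, 5), (true, 0), (true, 2), (true, 3), (true, 4), (true, 1), (true, 3), (true, 2), (true, 0), (true,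 0), (true, 2), (true, 3), (true, 1), (true, 4), (true, 3), (true, 2), (true, 0), (true, 5), (true, 4), (true, 6), (true, 5)], rep := 4,
      piv := [{ X := { Φ := [[0, 0, 0, 0, 0, -1, 2], [0, 0, 0, -1, 2, -1, 0], [-1, 0, 2, -1, 0, 0, 0], [-1, 0, 0, 1, 0, -1, 0], [-1, 0, 0, 0, 0, 1, 0], [1, 0, 0, 0, 0, 0, 0]], r := 78, ψ := [2, 0, 2, 3, 2, 2, 2], π := [0, 2, 0, -1, 0, 0, 0],
                              P := [],
                              N := [], B := 1 },
                        u := [1], φ := [1, -1, 1, 2, 1, 1, 1], w := [], next := 19 }] }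

/-- State 16. -/
def stE7_16 : InvState :=
    { K := [63, 66, 78, 87, 92, 125], Φ := [[0, 0, 0, 0, 0, -1, 2], [0, 0, 0, -1, 2, -1, 0], [0, 2, 0, -1, 0, 0, 0], [-1, 0, 0, 1, 0, -1, 0], [-1, 0, 0, 0, 0, 1, 0], [1, 0, 0, 0, 0, 0, 0]],
      ops := [(true, 5), (true, 4), (true, 3), (true, 2), (true, 1), (true, 3), (true, 4), (true, 5), (false, 105), (false, 66), (false, 106), (false, 110), (true, 3), (true, 4), (true, 5), (true, 6), (true, 1), (true, 3), (true, 4), (true, 5), (true, 0), (true, 2), (true, 3), (true, 4), (true, 1), (true, 3), (true, 2), (true, 0), (true, 5), (true, 6), (true, 4), (true, 5), (true, 3), (true, 4), (true, 2), (true, 3), (false, 65), (false, 66), (false, 67), (false, 88), (true, 5), (true, 6), (true, 4), (true, 5), (true, 3), (true, 2), (true, 1), (true, 3), (true, 5), (true, 6), (true, 4), (true, 5), (true, 0), (true, 2), (true, 3), (true, 4), (true, 1), (true, 3), (true, 2), (true, 0), (true, 0), (true, 2), (true, 3), (true, 1), (true, 4), (true, 3), (true, 2), (true, 0), (true,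 5), (true, 4), (true, 6), (true, 5)], rep := 4,
      piv := [{ X := { Φ := [[0, 0, 0, 0, 0, -1, 2], [0, 0, 0, -1, 2, -1, 0], [0, 2, 0, -1, 0, 0, 0], [-1, 0, 0, 1, 0, -1, 0], [-1, 0, 0, 0, 0, 1, 0], [1, 0, 0, 0, 0, 0, 0]], r := 73, ψ := [3, 2, 0, 3, 2, 2, 2], π := [-1, 0, 2, -1, 0, 0, 0],
                              P := [],
                              N := [], B := 1 },
                        u := [2], φ := [2, 1, -1, 2, 1, 1, 1], w := [], next := 19 }] }

/-- State 17. -/
def stE7_17 : InvState :=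
    { K := [63, 73, 78, 87, 92, 125], Φ := [[0, 0, 0, 0, 0, -1, 2], [-1, 0, 2, -1, 0, 0, 0], [0, 2, 0, -1, 0, 0, 0], [-1, 0, 0, 1, 0, -1, 0], [-1, 0, 0, 0, 0, 1, 0], [1, 0, 0, 0, 0, 0, 0]],
      ops := [(true, 3), (true, 4), (true, 1), (true, 3), (false, 105), (false, 66), (false, 106), (false, 110), (true, 3), (true, 4), (true, 5), (true, 6), (true, 1), (true, 3), (true, 4), (true, 5), (true, 0), (true, 2), (true, 3), (true, 4), (true, 1), (true, 3), (true, 2), (true, 0), (true, 5), (true, 6), (true, 4), (true, 5), (true, 3), (true, 4), (true, 2), (true, 3), (false, 65), (false, 66), (false, 67), (false, 88), (true, 5), (true, 6), (true, 4), (true, 5), (true, 3), (true, 2), (true, 1), (true, 3), (true, 5), (true, 6), (true, 4), (true, 5), (true, 0), (true, 2), (true, 3), (true, 4), (true, 1), (true, 3), (true, 2), (true, 0), (true, 0), (true, 2), (true, 3), (true, 1), (true, 4), (true, 3), (true, 2), (true, 0), (true, 5), (true, 4), (true, 6), (true, 5)], rep := 4,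
      piv := [{ X := { Φ := [[0, 0, 0, 0, 0, -1, 2], [-1, 0, 2, -1, 0, 0, 0], [0, 2, 0, -1, 0, 0, 0], [-1, 0, 0, 1, 0, -1, 0], [-1, 0, 0, 0, 0, 1, 0], [1, 0, 0, 0, 0, 0, 0]], r := 66, ψ := [2, 2, 2, 3, 0, 3, 2], π := [0, 0, 0, -1, 2, -1, 0],
                              P := [],
                              N := [], B := 1 },
                        u := [4], φ := [1, 1, 1, 2, -1, 2, 1], w := [], next := 19 }] }

/-- State 18. -/
def stE7_18 : InvState :=
    { K := [66, 73, 78, 87, 92, 125], Φ := [[0, 0, 0, -1, 2, -1, 0], [-1, 0, 2, -1, 0, 0, 0], [0, 2, 0, -1, 0, 0, 0], [-1, 0, 0, 1, 0, -1, 0], [-1, 0, 0, 0, 0, 1, 0], [1, 0, 0, 0, 0, 0, 0]],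
      ops := [(true, 5), (true, 6), (true, 4), (true, 5), (true, 3), (true, 4), (true, 1), (true, 3), (false, 105), (false, 66), (false, 106), (false, 110), (true, 3), (true, 4), (true, 5), (true, 6), (true, 1), (true, 3), (true, 4), (true, 5), (true, 0), (true, 2), (true, 3), (true, 4), (true, 1), (true, 3), (true, 2), (true, 0), (true, 5), (true, 6), (true, 4), (true, 5), (true, 3), (true, 4), (true, 2), (true, 3), (false, 65), (false, 66), (false, 67), (false, 88), (true, 5), (true, 6), (true, 4), (true, 5), (true, 3), (true, 2), (true, 1), (true, 3), (true, 5), (true, 6), (true, 4), (true, 5), (true, 0), (true, 2), (true, 3), (true, 4), (true, 1), (true, 3), (true, 2), (true, 0), (true, 0), (true, 2), (true, 3), (true, 1), (true, 4), (true, 3), (true, 2), (true, 0), (true, 5), (true, 4), (true, 6), (true, 5)], rep := 4,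
      piv := [{ X := { Φ := [[0, 0, 0, -1, 2, -1, 0], [-1, 0, 2, -1, 0, 0, 0], [0, 2, 0, -1, 0, 0, 0], [-1, 0, 0, 1, 0, -1, 0], [-1, 0, 0, 0, 0, 1, 0], [1, 0, 0, 0, 0, 0, 0]], r := 63, ψ := [2, 2, 2, 2, 2, 3, 0], π := [0, 0, 0, 0, 0, -1, 2],
                              P := [],
                              N := [], B := 1 },
                        u := [6], φ := [1, 1, 1, 1, 1, 2, -1], w := [], next := 19 }] }

/-- State 19. -/
def stE7_19 : InvState :=
    { K := [63, 66, 73, 78, 87, 92, 125], Φ := [[0, 0, 0, 0, 0, -1, 2], [0, 0, 0, -1, 2, -1, 0], [-1, 0, 2, -1, 0, 0, 0], [0, 2, 0, -1, 0, 0, 0], [-1, 0, 0, 1, 0, -1, 0], [-1, 0, 0, 0, 0, 1, 0], [1, 0, 0, 0, 0, 0, 0]],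
      ops := [(false, 105), (false, 66), (false, 106), (false, 110), (true, 0), (true, 2), (true, 3), (true, 4), (true, 1), (true, 3), (true, 2), (true, 0), (true, 5), (true, 6), (true, 4), (true, 5), (true, 3), (true, 4), (true, 2), (true, 3), (false, 105), (false, 66), (false, 106), (false, 110), (true, 3), (true, 4), (true, 5), (true, 6), (true, 1), (true, 3), (true, 4), (true, 5), (true, 0), (true, 2), (true, 3), (true, 4), (true, 1), (true, 3), (true, 2), (true, 0), (true, 5), (true, 6), (true, 4), (true, 5), (true, 3), (true, 4), (true, 2), (true, 3), (false, 65), (false, 66), (false, 67), (false, 88), (true, 5), (true, 6), (true, 4), (true, 5), (true, 3), (true, 2), (true, 1), (true, 3), (true, 5), (true, 6), (true, 4), (true, 5), (true, 0), (true, 2), (true, 3), (true, 4), (true, 1), (true, 3), (true, 2), (true, 0), (true, 0), (true, 2), (true, 3), (true, 1), (true, 4), (true, 3), (true, 2), (true, 0), (true, 5), (true, 4), (true, 6), (true, 5)], rep := 4,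
      piv := [] }

/-- The states for type E7. -/
def redE7 : RedData where
  fuel := 300
  reps := [[125], [92, 125], [63, 92, 125], [87, 92, 125], [63, 87, 92, 125]]
  st := [stE7_0, stE7_1, stE7_2, stE7_3, stE7_4, stE7_5, stE7_6, stE7_7, stE7_8, stE7_9, stE7_10, stE7_11, stE7_12, stE7_13, stE7_14, stE7_15, stE7_16, stE7_17, stE7_18, stE7_19]

/-- The byte tables of the simple reflections. -/
def reflTabE7 : List ℕ := [0x7c7d7b7a797877767574737271706f6e6d5c5b5a595857565554534d4c4b4a49206c6b6a696867666564635251504f4e6261605f5e4847464544434241403f3e3d3c3b3a39383736351f1e1d1c1b2f2e2d2c2b1a1918171615141312115d34333231302a292827262524232221100f0e0d0c0b0a09080706050403020001,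
  0x7d7c7b767574737a7978777271706f6e6d6c6b6a6968676261605f666564635e5d5c5b5a5958574d4c4b4a484746452f56555453495251504f44434241403f3e3d3c3b3a392e2d2c2b342a2928274e3837363533323130262524232221201f1a1918171e1d1c1b161514131211100f0e0d0c0b060504030a090807020100,
  0x7d7b7c7a797877767574736c6b6a6968677271706f6e6d666564636261605f5d5e5c5b5a5958575251504f565554534e48474645344d4c4b4a44434241403f3e3d3c3b3a393332313049383736352f2a2928272e2d2c2b2625242322211f201e1d1c1b1a191817100f0e0d0c0b1615141312110a09080706050403010200,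
  0x7d7c7a7b797877767271707574736f6e6d6c6b6a666564696867636261605e5f5d5c5b5a565554595857535251504e4f4d4c4b494a4443423848474641403f3e3d3c373635453b3a3933343231302e2f2d2c2b2a262524292827232221201e1f1d1c1b1a161514191817131211100f0e0a09080d0c0b0706050402030100,
  0x7d7c7b797a787775767473726f6e71706d6c69686b6a676665636462615f605e5d5c59585b5a575655535452514f504e4d4c4a4b494847454641403b44433f3e3a39423d3c3738363534323331302f2d2e2c2b292a2827262322252421201f1d1e1c1b191a1817161312151411100d0c0f0e0b0a09070806050304020100,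
  0x7d7c7b7a787977767475737172706f6d6e6b6c6a696768666465636260615f5e5d5b5c5a595758565455535250514f4e4d4b4c4a49484647454442433f3d413c403e3a3b393836373534333132302f2e2c2d2b2a282927252624232122201f1e1c1d1b1a1819171516141311120f100e0d0b0c0a08090706040503020100,
  0x7d7c7b7a797778767573747270716e6f6d6c6a6b686967656664636162605f5e5d5c5a5b585957555654535152504f4e4c4d4b4a494748464543444240413e3f3c3d3b393a3837353634333230312f2e2d2b2c2a292728262425222321201f1e1d1b1c1a191718161415121311100e0f0c0d0b090a080705060403020100]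

/-- The fast accessors. -/
noncomputable def tabE7 : CTab := CTab.fast chevE7 packedE7 reflTabE7

theorem refTabE7_0 : refB chevE7 reflTabE7 0 = true := by decide +kernel

theorem refTabE7_1 : refB chevE7 reflTabE7 1 = true := by decide +kernel

theorem refTabE7_2 : refB chevE7 reflTabE7 2 = true := by decide +kernel

theorem refTabE7_3 : refB chevE7 reflTabE7 3 = true := by decide +kernel

theorem refTabE7_4 : refB chevE7 reflTabE7 4 = true := by decide +kernel

theorem refTabE7_5 : refB chevE7 reflTabE7 5 = true := by decide +kernel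

theorem refTabE7_6 : refB chevE7 reflTabE7 6 = true := by decide +kernel

theorem tabE7_eq : tabE7 = CTab.std chevE7 :=
  CTab.fast_eq chkLinkE7 fun i hi => by
    have h : i < 7 := hi
    interval_cases i <;> first
      | exact refTabE7_0
      | exact refTabE7_1
      | exact refTabE7_2
      | exact refTabE7_3
      | exact refTabE7_4
      | exact refTabE7_5
      | exact refTabE7_6

theorem stE7_0_ok : redE7.stateB chevE7 tabE7 0 stE7_0 = true := by decide +kernel

theorem stE7_1_ok : redE7.stateB chevE7 tabE7 1 stE7_1 = true := by decide +kernel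

theorem stE7_2_ok : redE7.stateB chevE7 tabE7 2 stE7_2 = true := by decide +kernel

theorem stE7_3_ok : redE7.stateB chevE7 tabE7 3 stE7_3 = true := by decide +kernel

theorem stE7_4_ok : redE7.stateB chevE7 tabE7 4 stE7_4 = true := by decide +kernel

theorem stE7_5_ok : redE7.stateB chevE7 tabE7 5 stE7_5 = true := by decide +kernel

theorem stE7_6_ok : redE7.stateB chevE7 tabE7 6 stE7_6 = true := by decide +kernel

theorem stE7_7_ok : redE7.stateB chevE7 tabE7 7 stE7_7 = true := by decide +kernel

theorem stE7_8_ok : redE7.stateB chevE7 tabE7 8 stE7_8 = true := by decide +kernel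

theorem stE7_9_ok : redE7.stateB chevE7 tabE7 9 stE7_9 = true := by decide +kernel

theorem stE7_10_ok : redE7.stateB chevE7 tabE7 10 stE7_10 = true := by decide +kernel

theorem stE7_11_ok : redE7.stateB chevE7 tabE7 11 stE7_11 = true := by decide +kernel

theorem stE7_12_ok : redE7.stateB chevE7 tabE7 12 stE7_12 = true := by decide +kernel

theorem stE7_13_ok : redE7.stateB chevE7 tabE7 13 stE7_13 = true := by decide +kernel

theorem stE7_14_ok : redE7.stateB chevE7 tabE7 14 stE7_14 = true := by decide +kernel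

theorem stE7_15_ok : redE7.stateB chevE7 tabE7 15 stE7_15 = true := by decide +kernel

theorem stE7_16_ok : redE7.stateB chevE7 tabE7 16 stE7_16 = true := by decide +kernel

theorem stE7_17_ok : redE7.stateB chevE7 tabE7 17 stE7_17 = true := by decide +kernel

theorem stE7_18_ok : redE7.stateB chevE7 tabE7 18 stE7_18 = true := by decide +kernel

theorem stE7_19_ok : redE7.stateB chevE7 tabE7 19 stE7_19 = true := by decide +kernel

theorem redE7_ok : redE7.checkB chevE7 (CTab.std chevE7) = true := by
  rw [← tabE7_eq]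
  refine redCheck_of (s0 := stE7_0) rfl rfl rfl ?_
  simp only [redE7, List.zipIdx_cons, List.zipIdx_nil, Nat.zero_add, Nat.reduceAdd, List.forall_mem_cons]
  exact ⟨stE7_0_ok, stE7_1_ok, stE7_2_ok, stE7_3_ok, stE7_4_ok, stE7_5_ok, stE7_6_ok, stE7_7_ok, stE7_8_ok, stE7_9_ok, stE7_10_ok, stE7_11_ok, stE7_12_ok, stE7_13_ok, stE7_14_ok, stE7_15_ok, stE7_16_ok, stE7_17_ok, stE7_18_ok, stE7_19_ok, List.forall_mem_nil _⟩

end Cfsg.Agent.Chev54
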