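import Cfsg.Agent.Chev54.InvRed
import Cfsg.Agent.Lib.ChevCore.GoodAll

/-!
The certificate of the reduction of involutions in type E8.
-/

set_option autoImplicit false
set_option maxRecDepth 100000

namespace Cfsg.Agent.Chev54

open Cfsg.Lie Cfsg.Agent.ChevCore

/-- State 0. -/
def stE8_0 : InvState :=
    { K := [], Φ := [],
      ops := [], rep := 0,
      piv := [{ X := { Φ := [], r := 120, ψ := [2, 2, 2, 2, 2, 2, 3, 0], π := [0, 0, 0, 0, 0, 0, -1, 2],
                              P := [(122, 121), (125, 124), (129, 128), (134, 133), (140, 139), (146, 145), (151, 150), (155, 154), (158, 157), (160, 159), (168, 167), (173, 172), (177, 176), (180, 179), (182, 181), (187, 186), (190, 189), (192, 191), (196, 195), (198, 197), (201, 200), (206, 205), (208, 207), (211, 210), (215, 214), (220, 219), (227, 226), (239, 238)],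
                              N := [(121, 122), (124, 125), (128, 129), (133, 134), (139, 140), (145, 146), (150, 151), (154, 155), (157, 158), (159, 160), (167, 168), (172, 173), (176, 177), (179, 180), (181, 182), (186, 187), (189, 190), (191, 192), (195, 196), (197, 198), (200, 201), (205, 206), (207, 208), (210, 211), (214, 215), (219, 220), (226, 227), (238, 239)], B := 57 },
                        u := [7], φ := [1, 1, 1, 1, 1, 1, 2, -1], w := [7, 6, 5, 4, 3, 2, 0, 1, 3, 2, 4, 3, 1, 5, 4, 3, 2, 0, 6, 5, 4, 3, 1, 2, 3, 4, 5, 6], next := 1 },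
      { X := { Φ := [], r := 121, ψ := [2, 2, 2, 2, 2, 3, 0, 3], π := [0, 0, 0, 0, 0, -1, 2, -1],
                              P := [(122, 120), (124, 123), (128, 127), (133, 132), (139, 138), (145, 144), (150, 149), (154, 153), (157, 156), (161, 160), (167, 166), (172, 171), (176, 175), (179, 178), (183, 182), (186, 185), (189, 188), (193, 192), (195, 194), (199, 198), (202, 201), (205, 204), (209, 208), (212, 211), (216, 215), (221, 220), (228, 227), (238, 237)],
                              N := [(120, 122), (123, 124), (127, 128), (132, 133), (138, 139), (144, 145), (149, 150), (153, 154), (156, 157), (160, 161), (166, 167), (171, 172), (175, 176), (178, 179), (182, 183), (185, 186), (188, 189), (192, 193), (194, 195), (198, 199), (201, 202), (204, 205), (208, 209), (211, 212), (215, 216), (220, 221), (227, 228), (237, 238)], B := 58 },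
                        u := [6], φ := [1, 1, 1, 1, 1, 2, -1, 2], w := [7, 6, 5, 4, 3, 2, 0, 1, 3, 2, 4, 3, 1, 5, 4, 3, 2, 0, 6, 5, 4, 3, 1, 2, 3, 4, 5, 7], next := 1 },
      { X := { Φ := [], r := 123, ψ := [2, 2, 2, 2, 3, 0, 3, 2], π := [0, 0, 0, 0, -1, 2, -1, 0],
                              P := [(124, 121), (125, 122), (127, 126), (132, 131), (138, 137), (144, 143), (149, 148), (153, 152), (159, 157), (160, 158), (166, 165), (171, 170), (175, 174), (181, 179), (182, 180), (185, 184), (191, 189), (192, 190), (197, 195), (198, 196), (203, 202), (207, 205), (208, 206), (213, 212), (217, 216), (222, 221), (229, 228), (237, 236)],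
                              N := [(121, 124), (122, 125), (126, 127), (131, 132), (137, 138), (143, 144), (148, 149), (152, 153), (157, 159), (158, 160), (165, 166), (170, 171), (174, 175), (179, 181), (180, 182), (184, 185), (189, 191), (190, 192), (195, 197), (196, 198), (202, 203), (205, 207), (206, 208), (212, 213), (216, 217), (221, 222), (228, 229), (236, 237)], B := 58 },
                        u := [5], φ := [1, 1, 1, 1, 2, -1, 2, 1], w := [7, 6, 5, 4, 3, 2, 0, 1, 3, 2, 4, 3, 1, 5, 4, 3, 2, 0, 6, 5, 4, 3, 1, 2, 3, 4, 7, 6], next := 1 },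
      { X := { Φ := [], r := 126, ψ := [2, 2, 2, 3, 0, 3, 2, 2], π := [0, 0, 0, -1, 2, -1, 0, 0],
                              P := [(127, 123), (128, 124), (129, 125), (131, 130), (137, 136), (143, 142), (148, 147), (156, 153), (157, 154), (158, 155), (165, 164), (170, 169), (178, 175), (179, 176), (180, 177), (188, 185), (189, 186), (190, 187), (200, 197), (201, 198), (202, 199), (210, 207), (211, 208), (212, 209), (218, 217), (223, 222), (230, 229), (236, 235)],
                              N := [(123, 127), (124, 128), (125, 129), (130, 131), (136, 137), (142, 143), (147, 148), (153, 156), (154, 157), (155, 158), (164, 165), (169, 170), (175, 178), (176, 179), (177, 180), (185, 188), (186, 189), (187, 190), (197, 200), (198, 201), (199, 202), (207, 210), (208, 211), (209, 212), (217, 218), (222, 223), (229, 230), (235, 236)], B := 58 },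
                        u := [4], φ := [1, 1, 1, 2, -1, 2, 1, 1], w := [7, 6, 5, 4, 3, 2, 0, 1, 3, 2, 4, 3, 1, 5, 4, 3, 2, 0, 6, 5, 4, 3, 1, 2, 3, 7, 6, 5], next := 1 },
      { X := { Φ := [], r := 130, ψ := [2, 3, 3, 0, 3, 2, 2, 2], π := [0, -1, -1, 2, -1, 0, 0, 0],
                              P := [(131, 126), (132, 127), (133, 128), (134, 129), (136, 135), (142, 141), (152, 148), (153, 149), (154, 150), (155, 151), (164, 163), (174, 170), (175, 171), (176, 172), (177, 173), (194, 188), (195, 189), (196, 190), (197, 191), (198, 192), (199, 193), (214, 210), (215, 211), (216, 212), (217, 213), (224, 223), (231, 230), (235, 234)],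
                              N := [(126, 131), (127, 132), (128, 133), (129, 134), (135, 136), (141, 142), (148, 152), (149, 153), (150, 154), (151, 155), (163, 164), (170, 174), (171, 175), (172, 176), (173, 177), (188, 194), (189, 195), (190, 196), (191, 197), (192, 198), (193, 199), (210, 214), (211, 215), (212, 216), (213, 217), (223, 224), (230, 231), (234, 235)], B := 58 },
                        u := [3], φ := [1, 2, 2, -1, 2, 1, 1, 1], w := [7, 6, 5, 4, 3, 2, 0, 1, 3, 2, 4, 3, 1, 5, 4, 3, 2, 0, 6, 5, 4, 3, 1, 2, 7, 6, 5, 4], next := 1 },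
      { X := { Φ := [], r := 135, ψ := [3, 2, 0, 3, 2, 2, 2, 2], π := [-1, 0, 2, -1, 0, 0, 0, 0],
                              P := [(136, 130), (137, 131), (138, 132), (139, 133), (140, 134), (147, 142), (148, 143), (149, 144), (150, 145), (151, 146), (163, 162), (184, 174), (185, 175), (186, 176), (187, 177), (188, 178), (189, 179), (190, 180), (191, 181), (192, 182), (193, 183), (219, 214), (220, 215), (221, 216), (222, 217), (223, 218), (232, 231), (234, 233)],
                              N := [(130, 136), (131, 137), (132, 138), (133, 139), (134, 140), (142, 147), (143, 148), (144, 149), (145, 150), (146, 151), (162, 163), (174, 184), (175, 185), (176, 186), (177, 187), (178, 188), (179, 189), (180, 190), (181, 191), (182, 192), (183, 193), (214, 219), (215, 220), (216, 221), (217, 222), (218, 223), (231, 232), (233, 234)], B := 58 },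
                        u := [2], φ := [2, 1, -1, 2, 1, 1, 1, 1], w := [7, 6, 5, 4, 3, 2, 0, 1, 3, 2, 4, 3, 1, 5, 4, 3, 2, 0, 6, 5, 4, 3, 1, 7, 6, 5, 4, 3], next := 1 },
      { X := { Φ := [], r := 141, ψ := [2, 0, 2, 3, 2, 2, 2, 2], π := [0, 2, 0, -1, 0, 0, 0, 0],
                              P := [(142, 130), (143, 131), (144, 132), (145, 133), (146, 134), (147, 136), (148, 137), (149, 138), (150, 139), (151, 140), (169, 164), (170, 165), (171, 166), (172, 167), (173, 168), (204, 194), (205, 195), (206, 196), (207, 197), (208, 198), (209, 199), (210, 200), (211, 201), (212, 202), (213, 203), (225, 224), (233, 231), (234, 232)],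
                              N := [(130, 142), (131, 143), (132, 144), (133, 145), (134, 146), (136, 147), (137, 148), (138, 149), (139, 150), (140, 151), (164, 169), (165, 170), (166, 171), (167, 172), (168, 173), (194, 204), (195, 205), (196, 206), (197, 207), (198, 208), (199, 209), (200, 210), (201, 211), (202, 212), (203, 213), (224, 225), (231, 233), (232, 234)], B := 58 },
                        u := [1], φ := [1, -1, 1, 2, 1, 1, 1, 1], w := [7, 6, 5, 4, 3, 2, 0, 1, 3, 2, 4, 3, 1, 5, 4, 3, 2, 0, 6, 5, 4, 3, 2, 7, 6, 5, 4, 3], next := 1 },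
      { X := { Φ := [], r := 162, ψ := [0, 2, 3, 2, 2, 2, 2, 2], π := [2, 0, -1, 0, 0, 0, 0, 0],
                              P := [(163, 135), (164, 136), (165, 137), (166, 138), (167, 139), (168, 140), (169, 147), (170, 148), (171, 149), (172, 150), (173, 151), (174, 152), (175, 153), (176, 154), (177, 155), (178, 156), (179, 157), (180, 158), (181, 159), (182, 160), (183, 161), (226, 219), (227, 220), (228, 221), (229, 222), (230, 223), (231, 224), (233, 225)],
                              N := [(135, 163), (136, 164), (137, 165), (138, 166), (139, 167), (140, 168), (147, 169), (148, 170), (149, 171), (150, 172), (151, 173), (152, 174), (153, 175), (154, 176), (155, 177), (156, 178), (157, 179), (158, 180), (159, 181), (160, 182), (161, 183), (219, 226), (220, 227), (221, 228), (222, 229), (223, 230), (224, 231), (225, 233)], B := 58 },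
                        u := [0], φ := [-1, 1, 2, 1, 1, 1, 1, 1], w := [7, 6, 5, 4, 3, 2, 0, 1, 3, 2, 4, 3, 1, 5, 4, 3, 2, 6, 5, 4, 3, 1, 7, 6, 5, 4, 3, 2], next := 1 }] }

/-- State 1. -/
def stE8_1 : InvState :=
    { K := [239], Φ := [[0, 0, 0, 0, 0, 0, 0, 1]],
      ops := [], rep := 0,
      piv := [{ X := { Φ := [[0, 0, 0, 0, 0, 0, 0, 1]], r := 121, ψ := [2, 2, 2, 2, 2, 3, 0, 3], π := [0, 0, 0, 0, 0, -1, 2, -1],
                              P := [(124, 123), (128, 127), (133, 132), (139, 138), (145, 144), (150, 149), (154, 153), (157, 156), (167, 166), (172, 171), (176, 175), (179, 178), (186, 185), (189, 188), (195, 194), (205, 204)],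
                              N := [(123, 124), (127, 128), (132, 133), (138, 139), (144, 145), (149, 150), (153, 154), (156, 157), (166, 167), (171, 172), (175, 176), (178, 179), (185, 186), (188, 189), (194, 195), (204, 205)], B := 34 },
                        u := [6], φ := [1, 1, 1, 1, 1, 2, -1, 2], w := [0, 2, 3, 1, 4, 3, 2, 0, 5, 4, 3, 1, 2, 3, 4, 5], next := 2 },
      { X := { Φ := [[0, 0, 0, 0, 0, 0, 0, 1]], r := 123, ψ := [2, 2, 2, 2, 3, 0, 3, 2], π := [0, 0, 0, 0, -1, 2, -1, 0],
                              P := [(124, 121), (127, 126), (132, 131), (138, 137), (144, 143), (149, 148), (153, 152), (159, 157), (166, 165), (171, 170), (175, 174), (181, 179), (185, 184), (191, 189), (197, 195), (207, 205)],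
                              N := [(121, 124), (126, 127), (131, 132), (137, 138), (143, 144), (148, 149), (152, 153), (157, 159), (165, 166), (170, 171), (174, 175), (179, 181), (184, 185), (189, 191), (195, 197), (205, 207)], B := 34 },
                        u := [5], φ := [1, 1, 1, 1, 2, -1, 2, 1], w := [0, 2, 3, 1, 4, 3, 2, 0, 5, 4, 3, 1, 2, 3, 4, 6], next := 2 },
      { X := { Φ := [[0, 0, 0, 0, 0, 0, 0, 1]], r := 126, ψ := [2, 2, 2, 3, 0, 3, 2, 2], π := [0, 0, 0, -1, 2, -1, 0, 0],
                              P := [(127, 123), (128, 124), (131, 130), (137, 136), (143, 142), (148, 147), (156, 153), (157, 154), (165, 164), (170, 169), (178, 175), (179, 176), (188, 185), (189, 186), (200, 197), (210, 207)],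
                              N := [(123, 127), (124, 128), (130, 131), (136, 137), (142, 143), (147, 148), (153, 156), (154, 157), (164, 165), (169, 170), (175, 178), (176, 179), (185, 188), (186, 189), (197, 200), (207, 210)], B := 34 },
                        u := [4], φ := [1, 1, 1, 2, -1, 2, 1, 1], w := [0, 2, 3, 1, 4, 3, 2, 0, 5, 4, 3, 1, 2, 3, 6, 5], next := 2 },
      { X := { Φ := [[0, 0, 0, 0, 0, 0, 0, 1]], r := 130, ψ := [2, 3, 3, 0, 3, 2, 2, 2], π := [0, -1, -1, 2, -1, 0, 0, 0],
                              P := [(131, 126), (132, 127), (133, 128), (136, 135), (142, 141), (152, 148), (153, 149), (154, 150), (164, 163), (174, 170), (175, 171), (176, 172), (194, 188), (195, 189), (197, 191), (214, 210)],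
                              N := [(126, 131), (127, 132), (128, 133), (135, 136), (141, 142), (148, 152), (149, 153), (150, 154), (163, 164), (170, 174), (171, 175), (172, 176), (188, 194), (189, 195), (191, 197), (210, 214)], B := 34 },
                        u := [3], φ := [1, 2, 2, -1, 2, 1, 1, 1], w := [0, 2, 3, 1, 4, 3, 2, 0, 5, 4, 3, 1, 2, 6, 5, 4], next := 2 },
      { X := { Φ := [[0, 0, 0, 0, 0, 0, 0, 1]], r := 135, ψ := [3, 2, 0, 3, 2, 2, 2, 2], π := [-1, 0, 2, -1, 0, 0, 0, 0],
                              P := [(136, 130), (137, 131), (138, 132), (139, 133), (147, 142), (148, 143), (149, 144), (150, 145), (163, 162), (184, 174), (185, 175), (186, 176), (188, 178), (189, 179), (191, 181), (219, 214)],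
                              N := [(130, 136), (131, 137), (132, 138), (133, 139), (142, 147), (143, 148), (144, 149), (145, 150), (162, 163), (174, 184), (175, 185), (176, 186), (178, 188), (179, 189), (181, 191), (214, 219)], B := 34 },
                        u := [2], φ := [2, 1, -1, 2, 1, 1, 1, 1], w := [0, 2, 3, 1, 4, 3, 2, 0, 5, 4, 3, 1, 6, 5, 4, 3], next := 2 },
      { X := { Φ := [[0, 0, 0, 0, 0, 0, 0, 1]], r := 141, ψ := [2, 0, 2, 3, 2, 2, 2, 2], π := [0, 2, 0, -1, 0, 0, 0, 0],
                              P := [(142, 130), (143, 131), (144, 132), (145, 133), (147, 136), (148, 137), (149, 138), (150, 139), (169, 164), (170, 165), (171, 166), (172, 167), (204, 194), (205, 195), (207, 197), (210, 200)],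
                              N := [(130, 142), (131, 143), (132, 144), (133, 145), (136, 147), (137, 148), (138, 149), (139, 150), (164, 169), (165, 170), (166, 171), (167, 172), (194, 204), (195, 205), (197, 207), (200, 210)], B := 34 },
                        u := [1], φ := [1, -1, 1, 2, 1, 1, 1, 1], w := [0, 2, 3, 1, 4, 3, 2, 0, 5, 4, 3, 2, 6, 5, 4, 3], next := 2 },
      { X := { Φ := [[0, 0, 0, 0, 0, 0, 0, 1]], r := 162, ψ := [0, 2, 3, 2, 2, 2, 2, 2], π := [2, 0, -1, 0, 0, 0, 0, 0],
                              P := [(163, 135), (164, 136), (165, 137), (166, 138), (167, 139), (169, 147), (170, 148), (171, 149), (172, 150), (174, 152), (175, 153), (176, 154), (178, 156), (179, 157), (181, 159), (226, 219)],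
                              N := [(135, 163), (136, 164), (137, 165), (138, 166), (139, 167), (147, 169), (148, 170), (149, 171), (150, 172), (152, 174), (153, 175), (154, 176), (156, 178), (157, 179), (159, 181), (219, 226)], B := 33 },
                        u := [0], φ := [-1, 1, 2, 1, 1, 1, 1, 1], w := [0, 2, 3, 1, 4, 3, 2, 5, 4, 3, 1, 6, 5, 4, 3, 2], next := 2 }] }

/-- State 2. -/
def stE8_2 : InvState :=
    { K := [226, 239], Φ := [[1, 0, 0, 0, 0, 0, 0, -1], [0, 0, 0, 0, 0, 0, 0, 1]],
      ops := [(true, 7), (true, 6), (true, 5), (true, 4), (true, 3), (true, 1)], rep := 1,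
      piv := [{ X := { Φ := [[1, 0, 0, 0, 0, 0, 0, -1], [0, 0, 0, 0, 0, 0, 0, 1]], r := 121, ψ := [2, 2, 2, 2, 2, 3, 0, 3], π := [0, 0, 0, 0, 0, -1, 2, -1],
                              P := [(124, 123), (128, 127), (133, 132), (139, 138), (145, 144), (150, 149), (154, 153), (157, 156)],
                              N := [(123, 124), (127, 128), (132, 133), (138, 139), (144, 145), (149, 150), (153, 154), (156, 157)], B := 18 },
                        u := [6], φ := [1, 1, 1, 1, 1, 2, -1, 2], w := [5, 4, 3, 1, 2, 3, 4, 5], next := 3 },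
      { X := { Φ := [[1, 0, 0, 0, 0, 0, 0, -1], [0, 0, 0, 0, 0, 0, 0, 1]], r := 123, ψ := [2, 2, 2, 2, 3, 0, 3, 2], π := [0, 0, 0, 0, -1, 2, -1, 0],
                              P := [(124, 121), (127, 126), (132, 131), (138, 137), (144, 143), (149, 148), (153, 152), (159, 157)],
                              N := [(121, 124), (126, 127), (131, 132), (137, 138), (143, 144), (148, 149), (152, 153), (157, 159)], B := 17 },
                        u := [5], φ := [1, 1, 1, 1, 2, -1, 2, 1], w := [5, 4, 3, 1, 2, 3, 4, 6], next := 3 },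
      { X := { Φ := [[1, 0, 0, 0, 0, 0, 0, -1], [0, 0, 0, 0, 0, 0, 0, 1]], r := 126, ψ := [2, 2, 2, 3, 0, 3, 2, 2], π := [0, 0, 0, -1, 2, -1, 0, 0],
                              P := [(127, 123), (128, 124), (131, 130), (137, 136), (143, 142), (148, 147), (156, 153), (157, 154)],
                              N := [(123, 127), (124, 128), (130, 131), (136, 137), (142, 143), (147, 148), (153, 156), (154, 157)], B := 18 },
                        u := [4], φ := [1, 1, 1, 2, -1, 2, 1, 1], w := [5, 4, 3, 1, 2, 3, 6, 5], next := 3 },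
      { X := { Φ := [[1, 0, 0, 0, 0, 0, 0, -1], [0, 0, 0, 0, 0, 0, 0, 1]], r := 130, ψ := [2, 3, 3, 0, 3, 2, 2, 2], π := [0, -1, -1, 2, -1, 0, 0, 0],
                              P := [(131, 126), (132, 127), (133, 128), (136, 135), (142, 141), (152, 148), (153, 149), (154, 150)],
                              N := [(126, 131), (127, 132), (128, 133), (135, 136), (141, 142), (148, 152), (149, 153), (150, 154)], B := 18 },
                        u := [3], φ := [1, 2, 2, -1, 2, 1, 1, 1], w := [5, 4, 3, 1, 2, 6, 5, 4], next := 3 },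
      { X := { Φ := [[1, 0, 0, 0, 0, 0, 0, -1], [0, 0, 0, 0, 0, 0, 0, 1]], r := 135, ψ := [3, 2, 0, 3, 2, 2, 2, 2], π := [-1, 0, 2, -1, 0, 0, 0, 0],
                              P := [(136, 130), (137, 131), (138, 132), (139, 133), (147, 142), (148, 143), (149, 144), (150, 145)],
                              N := [(130, 136), (131, 137), (132, 138), (133, 139), (142, 147), (143, 148), (144, 149), (145, 150)], B := 18 },
                        u := [2], φ := [2, 1, -1, 2, 1, 1, 1, 1], w := [5, 4, 3, 1, 6, 5, 4, 3], next := 3 },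
      { X := { Φ := [[1, 0, 0, 0, 0, 0, 0, -1], [0, 0, 0, 0, 0, 0, 0, 1]], r := 141, ψ := [2, 0, 2, 3, 2, 2, 2, 2], π := [0, 2, 0, -1, 0, 0, 0, 0],
                              P := [(142, 130), (143, 131), (144, 132), (145, 133), (147, 136), (148, 137), (149, 138), (150, 139)],
                              N := [(130, 142), (131, 143), (132, 144), (133, 145), (136, 147), (137, 148), (138, 149), (139, 150)], B := 18 },
                        u := [1], φ := [1, -1, 1, 2, 1, 1, 1, 1], w := [5, 4, 3, 2, 6, 5, 4, 3], next := 3 }] }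

/-- State 3. -/
def stE8_3 : InvState :=
    { K := [159, 226, 239], Φ := [[-1, 0, 0, 0, 0, 1, 0, -1], [1, 0, 0, 0, 0, 0, 0, -1], [0, 0, 0, 0, 0, 0, 0, 1]],
      ops := [(true, 0), (true, 2), (true, 3), (true, 1), (true, 7), (true, 6), (true, 5), (true, 4), (true, 3), (true, 2), (true, 0), (true, 1), (true, 3), (true, 2)], rep := 2,
      piv := [{ X := { Φ := [[-1, 0, 0, 0, 0, 1, 0, -1], [1, 0, 0, 0, 0, 0, 0, -1], [0, 0, 0, 0, 0, 0, 0, 1]], r := 121, ψ := [2, 2, 2, 2, 2, 3, 0, 3], π := [0, 0, 0, 0, 0, -1, 2, -1],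
                              P := [],
                              N := [], B := 10 },
                        u := [6], φ := [1, 1, 1, 1, 1, 2, -1, 2], w := [], next := 4 },
      { X := { Φ := [[-1, 0, 0, 0, 0, 1, 0, -1], [1, 0, 0, 0, 0, 0, 0, -1], [0, 0, 0, 0, 0, 0, 0, 1]], r := 126, ψ := [2, 2, 2, 3, 0, 3, 2, 2], π := [0, 0, 0, -1, 2, -1, 0, 0],
                              P := [(131, 130), (137, 136), (143, 142), (148, 147)],
                              N := [(130, 131), (136, 137), (142, 143), (147, 148)], B := 10 },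
                        u := [4], φ := [1, 1, 1, 2, -1, 2, 1, 1], w := [3, 1, 2, 3], next := 5 },
      { X := { Φ := [[-1, 0, 0, 0, 0, 1, 0, -1], [1, 0, 0, 0, 0, 0, 0, -1], [0, 0, 0, 0, 0, 0, 0, 1]], r := 130, ψ := [2, 3, 3, 0, 3, 2, 2, 2], π := [0, -1, -1, 2, -1, 0, 0, 0],
                              P := [(131, 126), (136, 135), (142, 141), (152, 148)],
                              N := [(126, 131), (135, 136), (141, 142), (148, 152)], B := 9 },
                        u := [3], φ := [1, 2, 2, -1, 2, 1, 1, 1], w := [3, 1, 2, 4], next := 5 },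
      { X := { Φ := [[-1, 0, 0, 0, 0, 1, 0, -1], [1, 0, 0, 0, 0, 0, 0, -1], [0, 0, 0, 0, 0, 0, 0, 1]], r := 135, ψ := [3, 2, 0, 3, 2, 2, 2, 2], π := [-1, 0, 2, -1, 0, 0, 0, 0],
                              P := [(136, 130), (137, 131), (147, 142), (148, 143)],
                              N := [(130, 136), (131, 137), (142, 147), (143, 148)], B := 10 },
                        u := [2], φ := [2, 1, -1, 2, 1, 1, 1, 1], w := [3, 1, 4, 3], next := 5 },
      { X := { Φ := [[-1, 0, 0, 0, 0, 1, 0, -1], [1, 0, 0, 0, 0, 0, 0, -1], [0, 0, 0, 0, 0, 0, 0, 1]], r := 141, ψ := [2, 0, 2, 3, 2, 2, 2, 2], π := [0, 2, 0, -1, 0, 0, 0, 0],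
                              P := [(142, 130), (143, 131), (147, 136), (148, 137)],
                              N := [(130, 142), (131, 143), (136, 147), (137, 148)], B := 10 },
                        u := [1], φ := [1, -1, 1, 2, 1, 1, 1, 1], w := [3, 2, 4, 3], next := 5 }] }

/-- State 4. -/
def stE8_4 : InvState :=
    { K := [121, 159, 226, 239], Φ := [[0, 0, 0, 0, 0, -1, 2, -1], [-1, 0, 0, 0, 0, 1, 0, -1], [1, 0, 0, 0, 0, 0, 0, -1], [0, 0, 0, 0, 0, 0, 0, 1]],
      ops := [(false, 122), (false, 159), (false, 160), (false, 227), (true, 7), (true, 6), (true, 5), (true, 4), (true, 3), (true, 2), (true, 1), (true, 3), (true, 4), (true, 5), (true, 6), (true, 7), (true, 0), (true, 2), (true, 3), (true, 4), (true, 1), (true, 3), (true, 2), (true, 0), (true, 5), (true, 4), (true, 3), (true, 2), (true, 1), (true, 3), (true, 4), (true, 5), (true, 0), (true, 2), (true, 3), (true, 1), (true, 7), (true, 6), (true, 5), (true, 4), (true, 3), (true, 2), (true, 0), (true, 1), (true, 3), (true, 2)], rep := 2,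
      piv := [{ X := { Φ := [[0, 0, 0, 0, 0, -1, 2, -1], [-1, 0, 0, 0, 0, 1, 0, -1], [1, 0, 0, 0, 0, 0, 0, -1], [0, 0, 0, 0, 0, 0, 0, 1]], r := 126, ψ := [2, 2, 2, 3, 0, 3, 2, 2], π := [0, 0, 0, -1, 2, -1, 0, 0],
                              P := [(131, 130), (137, 136), (143, 142), (148, 147)],
                              N := [(130, 131), (136, 137), (142, 143), (147, 148)], B := 10 },
                        u := [4], φ := [1, 1, 1, 2, -1, 2, 1, 1], w := [3, 1, 2, 3], next := 6 },
      { X := { Φ := [[0, 0, 0, 0, 0, -1, 2, -1], [-1, 0, 0, 0, 0, 1, 0, -1], [1, 0, 0, 0, 0, 0, 0, -1], [0, 0, 0, 0, 0, 0, 0, 1]], r := 130, ψ := [2, 3, 3, 0, 3, 2, 2, 2], π := [0, -1, -1, 2, -1, 0, 0, 0],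
                              P := [(131, 126), (136, 135), (142, 141), (152, 148)],
                              N := [(126, 131), (135, 136), (141, 142), (148, 152)], B := 9 },
                        u := [3], φ := [1, 2, 2, -1, 2, 1, 1, 1], w := [3, 1, 2, 4], next := 6 },
      { X := { Φ := [[0, 0, 0, 0, 0, -1, 2, -1], [-1, 0, 0, 0, 0, 1, 0, -1], [1, 0, 0, 0, 0, 0, 0, -1], [0, 0, 0, 0, 0, 0, 0, 1]], r := 135, ψ := [3, 2, 0, 3, 2, 2, 2, 2], π := [-1, 0, 2, -1, 0, 0, 0, 0],
                              P := [(136, 130), (137, 131), (147, 142), (148, 143)],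
                              N := [(130, 136), (131, 137), (142, 147), (143, 148)], B := 10 },
                        u := [2], φ := [2, 1, -1, 2, 1, 1, 1, 1], w := [3, 1, 4, 3], next := 6 },
      { X := { Φ := [[0, 0, 0, 0, 0, -1, 2, -1], [-1, 0, 0, 0, 0, 1, 0, -1], [1, 0, 0, 0, 0, 0, 0, -1], [0, 0, 0, 0, 0, 0, 0, 1]], r := 141, ψ := [2, 0, 2, 3, 2, 2, 2, 2], π := [0, 2, 0, -1, 0, 0, 0, 0],
                              P := [(142, 130), (143, 131), (147, 136), (148, 137)],
                              N := [(130, 142), (131, 143), (136, 147), (137, 148)], B := 10 },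
                        u := [1], φ := [1, -1, 1, 2, 1, 1, 1, 1], w := [3, 2, 4, 3], next := 6 }] }

/-- State 5. -/
def stE8_5 : InvState :=
    { K := [152, 159, 226, 239], Φ := [[-1, 0, 0, 1, 0, -1, 0, 0], [-1, 0, 0, 0, 0, 1, 0, -1], [1, 0, 0, 0, 0, 0, 0, -1], [0, 0, 0, 0, 0, 0, 0, 1]],
      ops := [(true, 5), (true, 4), (true, 0), (true, 2), (true, 3), (true, 1), (true, 4), (true, 3), (true, 7), (true, 6), (true, 5), (true, 4), (true, 3), (true, 2), (true, 0), (true, 1), (true, 3), (true, 2), (true, 4), (true, 3)], rep := 3,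
      piv := [{ X := { Φ := [[-1, 0, 0, 1, 0, -1, 0, 0], [-1, 0, 0, 0, 0, 1, 0, -1], [1, 0, 0, 0, 0, 0, 0, -1], [0, 0, 0, 0, 0, 0, 0, 1]], r := 121, ψ := [2, 2, 2, 2, 2, 3, 0, 3], π := [0, 0, 0, 0, 0, -1, 2, -1],
                              P := [],
                              N := [], B := 2 },
                        u := [6], φ := [1, 1, 1, 1, 1, 2, -1, 2], w := [], next := 6 },
      { X := { Φ := [[-1, 0, 0, 1, 0, -1, 0, 0], [-1, 0, 0, 0, 0, 1, 0, -1], [1, 0, 0, 0, 0, 0, 0, -1], [0, 0, 0, 0, 0, 0, 0, 1]], r := 126, ψ := [2, 2, 2, 3, 0, 3, 2, 2], π := [0, 0, 0, -1, 2, -1, 0, 0],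
                              P := [],
                              N := [], B := 2 },
                        u := [4], φ := [1, 1, 1, 2, -1, 2, 1, 1], w := [], next := 7 },
      { X := { Φ := [[-1, 0, 0, 1, 0, -1, 0, 0], [-1, 0, 0, 0, 0, 1, 0, -1], [1, 0, 0, 0, 0, 0, 0, -1], [0, 0, 0, 0, 0, 0, 0, 1]], r := 135, ψ := [3, 2, 0, 3, 2, 2, 2, 2], π := [-1, 0, 2, -1, 0, 0, 0, 0],
                              P := [],
                              N := [], B := 2 },
                        u := [2], φ := [2, 1, -1, 2, 1, 1, 1, 1], w := [], next := 8 },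
      { X := { Φ := [[-1, 0, 0, 1, 0, -1, 0, 0], [-1, 0, 0, 0, 0, 1, 0, -1], [1, 0, 0, 0, 0, 0, 0, -1], [0, 0, 0, 0, 0, 0, 0, 1]], r := 141, ψ := [2, 0, 2, 3, 2, 2, 2, 2], π := [0, 2, 0, -1, 0, 0, 0, 0],
                              P := [],
                              N := [], B := 2 },
                        u := [1], φ := [1, -1, 1, 2, 1, 1, 1, 1], w := [], next := 9 }] }

/-- State 6. -/
def stE8_6 : InvState :=
    { K := [121, 152, 159, 226, 239], Φ := [[0, 0, 0, 0, 0, -1, 2, -1], [-1, 0, 0, 1, 0, -1, 0, 0], [-1, 0, 0, 0, 0, 1, 0, -1], [1, 0, 0, 0, 0, 0, 0, -1], [0, 0, 0, 0, 0, 0, 0, 1]],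
      ops := [(false, 122), (false, 159), (false, 160), (false, 227), (true, 7), (true, 6), (true, 5), (true, 4), (true, 3), (true, 2), (true, 1), (true, 3), (true, 4), (true, 5), (true, 6), (true, 7), (true, 0), (true, 2), (true, 3), (true, 4), (true, 1), (true, 3), (true, 2), (true, 0), (true, 5), (true, 4), (true, 3), (true, 2), (true, 1), (true, 3), (true, 4), (true, 5), (true, 5), (true, 4), (true, 0), (true, 2), (true, 3), (true, 1), (true, 4), (true, 3), (true, 7), (true, 6), (true, 5), (true, 4), (true, 3), (true, 2), (true, 0), (true, 1), (true, 3), (true, 2), (true, 4), (true, 3)], rep := 3,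
      piv := [{ X := { Φ := [[0, 0, 0, 0, 0, -1, 2, -1], [-1, 0, 0, 1, 0, -1, 0, 0], [-1, 0, 0, 0, 0, 1, 0, -1], [1, 0, 0, 0, 0, 0, 0, -1], [0, 0, 0, 0, 0, 0, 0, 1]], r := 126, ψ := [2, 2, 2, 3, 0, 3, 2, 2], π := [0, 0, 0, -1, 2, -1, 0, 0],
                              P := [],
                              N := [], B := 2 },
                        u := [4], φ := [1, 1, 1, 2, -1, 2, 1, 1], w := [], next := 10 },
      { X := { Φ := [[0, 0, 0, 0, 0, -1, 2, -1], [-1, 0, 0, 1, 0, -1, 0, 0], [-1, 0, 0, 0, 0, 1, 0, -1], [1, 0, 0, 0, 0, 0, 0, -1], [0, 0, 0, 0, 0, 0, 0, 1]], r := 135, ψ := [3, 2, 0, 3, 2, 2, 2, 2], π := [-1, 0, 2, -1, 0, 0, 0, 0],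
                              P := [],
                              N := [], B := 2 },
                        u := [2], φ := [2, 1, -1, 2, 1, 1, 1, 1], w := [], next := 11 },
      { X := { Φ := [[0, 0, 0, 0, 0, -1, 2, -1], [-1, 0, 0, 1, 0, -1, 0, 0], [-1, 0, 0, 0, 0, 1, 0, -1], [1, 0, 0, 0, 0, 0, 0, -1], [0, 0, 0, 0, 0, 0, 0, 1]], r := 141, ψ := [2, 0, 2, 3, 2, 2, 2, 2], π := [0, 2, 0, -1, 0, 0, 0, 0],
                              P := [],
                              N := [], B := 2 },
                        u := [1], φ := [1, -1, 1, 2, 1, 1, 1, 1], w := [], next := 12 }] }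

/-- State 7. -/
def stE8_7 : InvState :=
    { K := [126, 152, 159, 226, 239], Φ := [[0, 0, 0, -1, 2, -1, 0, 0], [-1, 0, 0, 1, 0, -1, 0, 0], [-1, 0, 0, 0, 0, 1, 0, -1], [1, 0, 0, 0, 0, 0, 0, -1], [0, 0, 0, 0, 0, 0, 0, 1]],
      ops := [(true, 5), (true, 6), (true, 4), (true, 5), (false, 122), (false, 159), (false, 160), (false, 227), (true, 7), (true, 6), (true, 5), (true, 4), (true, 3), (true, 2), (true, 1), (true, 3), (true, 4), (true, 5), (true, 6), (true, 7), (true, 0), (true, 2), (true, 3), (true, 4), (true, 1), (true, 3), (true, 2), (true, 0), (true, 5), (true, 4), (true, 3), (true, 2), (true, 1), (true, 3), (true, 4), (true, 5), (true, 5), (true, 4), (true, 0), (true, 2), (true, 3), (true, 1), (true, 4), (true, 3), (true, 7), (true, 6), (true, 5), (true, 4), (true, 3), (true, 2), (true, 0), (true, 1), (true, 3), (true, 2), (true, 4), (true, 3)], rep := 3,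
      piv := [{ X := { Φ := [[0, 0, 0, -1, 2, -1, 0, 0], [-1, 0, 0, 1, 0, -1, 0, 0], [-1, 0, 0, 0, 0, 1, 0, -1], [1, 0, 0, 0, 0, 0, 0, -1], [0, 0, 0, 0, 0, 0, 0, 1]], r := 121, ψ := [2, 2, 2, 2, 2, 3, 0, 3], π := [0, 0, 0, 0, 0, -1, 2, -1],
                              P := [],
                              N := [], B := 2 },
                        u := [6], φ := [1, 1, 1, 1, 1, 2, -1, 2], w := [], next := 10 },
      { X := { Φ := [[0, 0, 0, -1, 2, -1, 0, 0], [-1, 0, 0, 1, 0, -1, 0, 0], [-1, 0, 0, 0, 0, 1, 0, -1], [1, 0, 0, 0, 0, 0, 0, -1], [0, 0, 0, 0, 0, 0, 0, 1]], r := 135, ψ := [3, 2, 0, 3, 2, 2, 2, 2], π := [-1, 0, 2, -1, 0, 0, 0, 0],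
                              P := [],
                              N := [], B := 2 },
                        u := [2], φ := [2, 1, -1, 2, 1, 1, 1, 1], w := [], next := 13 },
      { X := { Φ := [[0, 0, 0, -1, 2, -1, 0, 0], [-1, 0, 0, 1, 0, -1, 0, 0], [-1, 0, 0, 0, 0, 1, 0, -1], [1, 0, 0, 0, 0, 0, 0, -1], [0, 0, 0, 0, 0, 0, 0, 1]], r := 141, ψ := [2, 0, 2, 3, 2, 2, 2, 2], π := [0, 2, 0, -1, 0, 0, 0, 0],
                              P := [],
                              N := [], B := 2 },
                        u := [1], φ := [1, -1, 1, 2, 1, 1, 1, 1], w := [], next := 14 }] }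

/-- State 8. -/
def stE8_8 : InvState :=
    { K := [135, 152, 159, 226, 239], Φ := [[-1, 0, 2, -1, 0, 0, 0, 0], [-1, 0, 0, 1, 0, -1, 0, 0], [-1, 0, 0, 0, 0, 1, 0, -1], [1, 0, 0, 0, 0, 0, 0, -1], [0, 0, 0, 0, 0, 0, 0, 1]],
      ops := [(true, 7), (true, 6), (true, 5), (true, 4), (true, 3), (true, 2), (true, 1), (true, 3), (true, 4), (true, 5), (true, 6), (true, 7), (true, 0), (true, 2), (true, 3), (true, 4), (true, 1), (true, 3), (true, 2), (true, 0), (true, 5), (true, 6), (true, 4), (true, 5), (false, 122), (false, 159), (false, 160), (false, 227), (true, 7), (true, 6), (true, 5), (true, 4), (true, 3), (true, 2), (true, 1), (true, 3), (true, 4), (true, 5), (true, 6), (true, 7), (true, 0), (true, 2), (true, 3), (true, 4), (true, 1), (true, 3), (true, 2), (true, 0), (true, 5), (true, 4), (true, 3), (true, 2), (true, 1), (true, 3), (true, 4), (true, 5), (true, 5), (true, 4), (true, 0), (true, 2), (true, 3), (true, 1), (true, 4), (true, 3), (true, 7), (true, 6), (true, 5), (true, 4), (true, 3), (true,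 2), (true, 0), (true, 1), (true, 3), (true, 2), (true, 4), (true, 3)], rep := 3,
      piv := [{ X := { Φ := [[-1, 0, 2, -1, 0, 0, 0, 0], [-1, 0, 0, 1, 0, -1, 0, 0], [-1, 0, 0, 0, 0, 1, 0, -1], [1, 0, 0, 0, 0, 0, 0, -1], [0, 0, 0, 0, 0, 0, 0, 1]], r := 121, ψ := [2, 2, 2, 2, 2, 3, 0, 3], π := [0, 0, 0, 0, 0, -1, 2, -1],
                              P := [],
                              N := [], B := 2 },
                        u := [6], φ := [1, 1, 1, 1, 1, 2, -1, 2], w := [], next := 11 },
      { X := { Φ := [[-1, 0, 2, -1, 0, 0, 0, 0], [-1, 0, 0, 1, 0, -1, 0, 0], [-1, 0, 0, 0, 0, 1, 0, -1], [1, 0, 0, 0, 0, 0, 0, -1], [0, 0, 0, 0, 0, 0, 0, 1]], r := 126, ψ := [2, 2, 2, 3, 0, 3, 2, 2], π := [0, 0, 0, -1, 2, -1, 0, 0],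
                              P := [],
                              N := [], B := 2 },
                        u := [4], φ := [1, 1, 1, 2, -1, 2, 1, 1], w := [], next := 13 },
      { X := { Φ := [[-1, 0, 2, -1, 0, 0, 0, 0], [-1, 0, 0, 1, 0, -1, 0, 0], [-1, 0, 0, 0, 0, 1, 0, -1], [1, 0, 0, 0, 0, 0, 0, -1], [0, 0, 0, 0, 0, 0, 0, 1]], r := 141, ψ := [2, 0, 2, 3, 2, 2, 2, 2], π := [0, 2, 0, -1, 0, 0, 0, 0],
                              P := [],
                              N := [], B := 2 },
                        u := [1], φ := [1, -1, 1, 2, 1, 1, 1, 1], w := [], next := 15 }] }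

/-- State 9. -/
def stE8_9 : InvState :=
    { K := [141, 152, 159, 226, 239], Φ := [[0, 2, 0, -1, 0, 0, 0, 0], [-1, 0, 0, 1, 0, -1, 0, 0], [-1, 0, 0, 0, 0, 1, 0, -1], [1, 0, 0, 0, 0, 0, 0, -1], [0, 0, 0, 0, 0, 0, 0, 1]],
      ops := [(true, 0), (true, 2), (true, 3), (true, 4), (true, 1), (true, 3), (true, 2), (true, 0), (true, 5), (true, 6), (true, 4), (true, 5), (false, 122), (false, 159), (false, 160), (false, 227), (true, 7), (true, 6), (true, 5), (true, 4), (true, 3), (true, 2), (true, 1), (true, 3), (true, 4), (true, 5), (true, 6), (true, 7), (true, 0), (true, 2), (true, 3), (true, 4), (true, 1), (true, 3), (true, 2), (true, 0), (true, 5), (true, 4), (true, 3), (true, 2), (true, 1), (true, 3), (true, 4), (true, 5), (true, 5), (true, 4), (true, 0), (true, 2), (true, 3), (true, 1), (true, 4), (true, 3), (true, 7), (true, 6), (true, 5), (true, 4), (true, 3), (true, 2), (true, 0), (true, 1), (true, 3), (true, 2), (true, 4), (true, 3)], rep := 3,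
      piv := [{ X := { Φ := [[0, 2, 0, -1, 0, 0, 0, 0], [-1, 0, 0, 1, 0, -1, 0, 0], [-1, 0, 0, 0, 0, 1, 0, -1], [1, 0, 0, 0, 0, 0, 0, -1], [0, 0, 0, 0, 0, 0, 0, 1]], r := 121, ψ := [2, 2, 2, 2, 2, 3, 0, 3], π := [0, 0, 0, 0, 0, -1, 2, -1],
                              P := [],
                              N := [], B := 2 },
                        u := [6], φ := [1, 1, 1, 1, 1, 2, -1, 2], w := [], next := 12 },
      { X := { Φ := [[0, 2, 0, -1, 0, 0, 0, 0], [-1, 0, 0, 1, 0, -1, 0, 0], [-1, 0, 0, 0, 0, 1, 0, -1], [1, 0, 0, 0, 0, 0, 0, -1], [0, 0, 0, 0, 0, 0, 0, 1]], r := 126, ψ := [2, 2, 2, 3, 0, 3, 2, 2], π := [0, 0, 0, -1, 2, -1, 0, 0],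
                              P := [],
                              N := [], B := 2 },
                        u := [4], φ := [1, 1, 1, 2, -1, 2, 1, 1], w := [], next := 14 },
      { X := { Φ := [[0, 2, 0, -1, 0, 0, 0, 0], [-1, 0, 0, 1, 0, -1, 0, 0], [-1, 0, 0, 0, 0, 1, 0, -1], [1, 0, 0, 0, 0, 0, 0, -1], [0, 0, 0, 0, 0, 0, 0, 1]], r := 135, ψ := [3, 2, 0, 3, 2, 2, 2, 2], π := [-1, 0, 2, -1, 0, 0, 0, 0],
                              P := [],
                              N := [], B := 2 },
                        u := [2], φ := [2, 1, -1, 2, 1, 1, 1, 1], w := [], next := 15 }] }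

/-- State 10. -/
def stE8_10 : InvState :=
    { K := [121, 126, 152, 159, 226, 239], Φ := [[0, 0, 0, 0, 0, -1, 2, -1], [0, 0, 0, -1, 2, -1, 0, 0], [-1, 0, 0, 1, 0, -1, 0, 0], [-1, 0, 0, 0, 0, 1, 0, -1], [1, 0, 0, 0, 0, 0, 0, -1], [0, 0, 0, 0, 0, 0, 0, 1]],
      ops := [(false, 124), (false, 126), (false, 127), (false, 153), (true, 5), (true, 6), (true, 4), (true, 5), (true, 3), (true, 2), (true, 1), (true, 3), (false, 122), (false, 159), (false, 160), (false, 227), (true, 7), (true, 6), (true, 5), (true, 4), (true, 3), (true, 2), (true, 1), (true, 3), (true, 4), (true, 5), (true, 6), (true, 7), (true, 0), (true, 2), (true, 3), (true, 4), (true, 1), (true, 3), (true, 2), (true, 0), (true, 5), (true, 4), (true, 3), (true, 2), (true, 1), (true, 3), (true, 4), (true, 5), (true, 5), (true, 4), (true, 0), (true, 2), (true, 3), (true, 1), (true, 4), (true, 3), (true, 7), (true, 6), (true, 5), (true, 4), (true, 3), (true, 2), (true, 0), (true, 1), (true, 3), (true, 2), (true, 4), (true, 3)], rep := 3,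
      piv := [{ X := { Φ := [[0, 0, 0, 0, 0, -1, 2, -1], [0, 0, 0, -1, 2, -1, 0, 0], [-1, 0, 0, 1, 0, -1, 0, 0], [-1, 0, 0, 0, 0, 1, 0, -1], [1, 0, 0, 0, 0, 0, 0, -1], [0, 0, 0, 0, 0, 0, 0, 1]], r := 135, ψ := [3, 2, 0, 3, 2, 2, 2, 2], π := [-1, 0, 2, -1, 0, 0, 0, 0],
                              P := [],
                              N := [], B := 2 },
                        u := [2], φ := [2, 1, -1, 2, 1, 1, 1, 1], w := [], next := 16 },
      { X := { Φ := [[0, 0, 0, 0, 0, -1, 2, -1], [0, 0, 0, -1, 2, -1, 0, 0], [-1, 0, 0, 1, 0, -1, 0, 0], [-1, 0, 0, 0, 0, 1, 0, -1], [1, 0, 0, 0, 0, 0, 0, -1], [0, 0, 0, 0, 0, 0, 0, 1]], r := 141, ψ := [2, 0, 2, 3, 2, 2, 2, 2], π := [0, 2, 0, -1, 0, 0, 0, 0],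
                              P := [],
                              N := [], B := 2 },
                        u := [1], φ := [1, -1, 1, 2, 1, 1, 1, 1], w := [], next := 17 }] }

/-- State 11. -/
def stE8_11 : InvState :=
    { K := [121, 135, 152, 159, 226, 239], Φ := [[0, 0, 0, 0, 0, -1, 2, -1], [-1, 0, 2, -1, 0, 0, 0, 0], [-1, 0, 0, 1, 0, -1, 0, 0], [-1, 0, 0, 0, 0, 1, 0, -1], [1, 0, 0, 0, 0, 0, 0, -1], [0, 0, 0, 0, 0, 0, 0, 1]],
      ops := [(true, 5), (true, 4), (true, 3), (true, 2), (true, 1), (true, 3), (true, 4), (true, 5), (true, 0), (true, 2), (true, 3), (true, 4), (true, 1), (true, 3), (true, 2), (true, 0), (false, 124), (false, 126), (false, 127), (false, 153), (true, 5), (true, 6), (true, 4), (true, 5), (true, 3), (true, 2), (true, 1), (true, 3), (false, 122), (false, 159), (false, 160), (false, 227), (true, 7), (true, 6), (true, 5), (true, 4), (true, 3), (true, 2), (true, 1), (true, 3), (true, 4), (true, 5), (true, 6), (true, 7), (true, 0), (true, 2), (true, 3), (true, 4), (true, 1),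 (true, 3), (true, 2), (true, 0), (true, 5), (true, 4), (true, 3), (true, 2), (true, 1), (true, 3), (true, 4), (true, 5), (true, 5), (true, 4), (true, 0), (true, 2), (true, 3), (true, 1), (true, 4), (true, 3), (true, 7), (true, 6), (true, 5), (true, 4), (true, 3), (true, 2), (true, 0), (true, 1), (true, 3), (true, 2), (true, 4), (true, 3)], rep := 3,
      piv := [{ X := { Φ := [[0, 0, 0, 0, 0, -1, 2, -1], [-1, 0, 2, -1, 0, 0, 0, 0], [-1, 0, 0, 1, 0, -1, 0, 0], [-1, 0, 0, 0, 0, 1, 0, -1], [1, 0, 0, 0, 0, 0, 0, -1], [0, 0, 0, 0, 0, 0, 0, 1]], r := 126, ψ := [2, 2, 2, 3, 0, 3, 2, 2], π := [0, 0, 0, -1, 2, -1, 0, 0],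
                              P := [],
                              N := [], B := 2 },
                        u := [4], φ := [1, 1, 1, 2, -1, 2, 1, 1], w := [], next := 16 },
      { X := { Φ := [[0, 0, 0, 0, 0, -1, 2, -1], [-1, 0, 2, -1, 0, 0, 0, 0], [-1, 0, 0, 1, 0, -1, 0, 0], [-1, 0, 0, 0, 0, 1, 0, -1], [1, 0, 0, 0, 0, 0, 0, -1], [0, 0, 0, 0, 0, 0, 0, 1]], r := 141, ψ := [2, 0, 2, 3, 2, 2, 2, 2], π := [0, 2, 0, -1, 0, 0, 0, 0],
                              P := [],
                              N := [], B := 2 },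
                        u := [1], φ := [1, -1, 1, 2, 1, 1, 1, 1], w := [], next := 18 }] }

/-- State 12. -/
def stE8_12 : InvState :=
    { K := [121, 141, 152, 159, 226, 239], Φ := [[0, 0, 0, 0, 0, -1, 2, -1], [0, 2, 0, -1, 0, 0, 0, 0], [-1, 0, 0, 1, 0, -1, 0, 0], [-1, 0, 0, 0, 0, 1, 0, -1], [1, 0, 0, 0, 0, 0, 0, -1], [0, 0, 0, 0, 0, 0, 0, 1]],
      ops := [(true, 0), (true, 2), (true, 3), (true, 4), (true, 1), (true, 3), (true, 2), (true, 0), (true, 3), (true, 2), (true, 1), (true, 3), (false, 124), (false, 126), (false, 127), (false, 153), (true, 5), (true, 6), (true, 4), (true, 5), (true, 3), (true, 2), (true, 1), (true, 3), (false, 122), (false, 159), (false, 160), (false, 227), (true, 7), (true, 6), (true, 5), (true, 4), (true, 3), (true, 2), (true, 1), (true, 3), (true, 4), (true, 5), (true, 6), (true, 7), (true, 0), (true, 2), (true, 3), (true, 4), (true, 1), (true, 3), (true, 2), (true, 0), (true, 5), (true, 4), (true, 3), (true, 2), (true, 1), (true, 3), (true, 4), (true, 5), (true, 5),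 (true, 4), (true, 0), (true, 2), (true, 3), (true, 1), (true, 4), (true, 3), (true, 7), (true, 6), (true, 5), (true, 4), (true, 3), (true, 2), (true, 0), (true, 1), (true, 3), (true, 2), (true, 4), (true, 3)], rep := 3,
      piv := [{ X := { Φ := [[0, 0, 0, 0, 0, -1, 2, -1], [0, 2, 0, -1, 0, 0, 0, 0], [-1, 0, 0, 1, 0, -1, 0, 0], [-1, 0, 0, 0, 0, 1, 0, -1], [1, 0, 0, 0, 0, 0, 0, -1], [0, 0, 0, 0, 0, 0, 0, 1]], r := 126, ψ := [2, 2, 2, 3, 0, 3, 2, 2], π := [0, 0, 0, -1, 2, -1, 0, 0],
                              P := [],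
                              N := [], B := 2 },
                        u := [4], φ := [1, 1, 1, 2, -1, 2, 1, 1], w := [], next := 17 },
      { X := { Φ := [[0, 0, 0, 0, 0, -1, 2, -1], [0, 2, 0, -1, 0, 0, 0, 0], [-1, 0, 0, 1, 0, -1, 0, 0], [-1, 0, 0, 0, 0, 1, 0, -1], [1, 0, 0, 0, 0, 0, 0, -1], [0, 0, 0, 0, 0, 0, 0, 1]], r := 135, ψ := [3, 2, 0, 3, 2, 2, 2, 2], π := [-1, 0, 2, -1, 0, 0, 0, 0],
                              P := [],
                              N := [], B := 2 },
                        u := [2], φ := [2, 1, -1, 2, 1, 1, 1, 1], w := [], next := 18 }] }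

/-- State 13. -/
def stE8_13 : InvState :=
    { K := [126, 135, 152, 159, 226, 239], Φ := [[0, 0, 0, -1, 2, -1, 0, 0], [-1, 0, 2, -1, 0, 0, 0, 0], [-1, 0, 0, 1, 0, -1, 0, 0], [-1, 0, 0, 0, 0, 1, 0, -1], [1, 0, 0, 0, 0, 0, 0, -1], [0, 0, 0, 0, 0, 0, 0, 1]],
      ops := [(true, 5), (true, 6), (true, 3), (true, 2), (true, 1), (true, 3), (true, 4), (true, 5), (true, 0), (true, 2), (true, 3), (true, 4), (true, 1), (true, 3), (true, 2), (true, 0), (true, 3), (true, 2), (true, 1), (true, 3), (false, 124), (false, 126), (false, 127), (false, 153), (true, 5), (true, 6), (true, 4), (true, 5), (true, 3), (true, 2), (true, 1), (true, 3), (false, 122), (false, 159), (false, 160), (false, 227), (true, 7), (true, 6), (true, 5), (true, 4), (true, 3), (true, 2), (true, 1), (true, 3), (true, 4), (true, 5), (true, 6), (true, 7), (true, 0), (true, 2), (true, 3), (true, 4), (true, 1), (true, 3), (true, 2), (true, 0), (true, 5), (true, 4), (true, 3), (true, 2), (true, 1), (true, 3), (true, 4), (true, 5), (true, 5), (true,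 4), (true, 0), (true, 2), (true, 3), (true, 1), (true, 4), (true, 3), (true, 7), (true, 6), (true, 5), (true, 4), (true, 3), (true, 2), (true, 0), (true, 1), (true, 3), (true, 2), (true, 4), (true, 3)], rep := 3,
      piv := [{ X := { Φ := [[0, 0, 0, -1, 2, -1, 0, 0], [-1, 0, 2, -1, 0, 0, 0, 0], [-1, 0, 0, 1, 0, -1, 0, 0], [-1, 0, 0, 0, 0, 1, 0, -1], [1, 0, 0, 0, 0, 0, 0, -1], [0, 0, 0, 0, 0, 0, 0, 1]], r := 121, ψ := [2, 2, 2, 2, 2, 3, 0, 3], π := [0, 0, 0, 0, 0, -1, 2, -1],
                              P := [],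
                              N := [], B := 2 },
                        u := [6], φ := [1, 1, 1, 1, 1, 2, -1, 2], w := [], next := 16 },
      { X := { Φ := [[0, 0, 0, -1, 2, -1, 0, 0], [-1, 0, 2, -1, 0, 0, 0, 0], [-1, 0, 0, 1, 0, -1, 0, 0], [-1, 0, 0, 0, 0, 1, 0, -1], [1, 0, 0, 0, 0, 0, 0, -1], [0, 0, 0, 0, 0, 0, 0, 1]], r := 141, ψ := [2, 0, 2, 3, 2, 2, 2, 2], π := [0, 2, 0, -1, 0, 0, 0, 0],
                              P := [],
                              N := [], B := 2 },
                        u := [1], φ := [1, -1, 1, 2, 1, 1, 1, 1], w := [], next := 19 }] }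

/-- State 14. -/
def stE8_14 : InvState :=
    { K := [126, 141, 152, 159, 226, 239], Φ := [[0, 0, 0, -1, 2, -1, 0, 0], [0, 2, 0, -1, 0, 0, 0, 0], [-1, 0, 0, 1, 0, -1, 0, 0], [-1, 0, 0, 0, 0, 1, 0, -1], [1, 0, 0, 0, 0, 0, 0, -1], [0, 0, 0, 0, 0, 0, 0, 1]],
      ops := [(true, 5), (true, 6), (true, 4), (true, 5), (true, 0), (true, 2), (true, 3), (true, 4), (true, 1), (true, 3), (true, 2), (true, 0), (false, 124), (false, 126), (false, 127), (false, 153), (true, 5), (true, 6), (true, 4), (true, 5), (true, 3), (true, 2), (true, 1), (true, 3), (false, 122), (false, 159), (false, 160), (false, 227), (true, 7), (true, 6), (true, 5), (true, 4), (true, 3), (true, 2), (true, 1), (true, 3), (true, 4), (true, 5), (true, 6), (true, 7), (true, 0), (true, 2), (true, 3), (true, 4), (true, 1), (true, 3), (true, 2), (true, 0), (true, 5), (true, 4), (true, 3), (true, 2), (true, 1), (true, 3), (true, 4), (true, 5), (true, 5), (true, 4), (true, 0), (true, 2), (true, 3), (true, 1), (true, 4), (true, 3), (true, 7), (true,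 6), (true, 5), (true, 4), (true, 3), (true, 2), (true, 0), (true, 1), (true, 3), (true, 2), (true, 4), (true, 3)], rep := 3,
      piv := [{ X := { Φ := [[0, 0, 0, -1, 2, -1, 0, 0], [0, 2, 0, -1, 0, 0, 0, 0], [-1, 0, 0, 1, 0, -1, 0, 0], [-1, 0, 0, 0, 0, 1, 0, -1], [1, 0, 0, 0, 0, 0, 0, -1], [0, 0, 0, 0, 0, 0, 0, 1]], r := 121, ψ := [2, 2, 2, 2, 2, 3, 0, 3], π := [0, 0, 0, 0, 0, -1, 2, -1],
                              P := [],
                              N := [], B := 2 },
                        u := [6], φ := [1, 1, 1, 1, 1, 2, -1, 2], w := [], next := 17 },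
      { X := { Φ := [[0, 0, 0, -1, 2, -1, 0, 0], [0, 2, 0, -1, 0, 0, 0, 0], [-1, 0, 0, 1, 0, -1, 0, 0], [-1, 0, 0, 0, 0, 1, 0, -1], [1, 0, 0, 0, 0, 0, 0, -1], [0, 0, 0, 0, 0, 0, 0, 1]], r := 135, ψ := [3, 2, 0, 3, 2, 2, 2, 2], π := [-1, 0, 2, -1, 0, 0, 0, 0],
                              P := [],
                              N := [], B := 2 },
                        u := [2], φ := [2, 1, -1, 2, 1, 1, 1, 1], w := [], next := 19 }] }

/-- State 15. -/
def stE8_15 : InvState :=
    { K := [135, 141, 152, 159, 226, 239], Φ := [[-1, 0, 2, -1, 0, 0, 0, 0], [0, 2, 0, -1, 0, 0, 0, 0], [-1, 0, 0, 1, 0, -1, 0, 0], [-1, 0, 0, 0, 0, 1, 0, -1], [1, 0, 0, 0, 0, 0, 0, -1], [0, 0, 0, 0, 0, 0, 0, 1]],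
      ops := [(true, 3), (true, 4), (true, 5), (true, 6), (true, 2), (true, 3), (true, 4), (true, 5), (true, 0), (true, 2), (true, 3), (true, 4), (true, 1), (true, 3), (true, 2), (true, 0), (true, 5), (true, 6), (true, 4), (true, 5), (false, 124), (false, 126), (false, 127), (false, 153), (true, 5), (true, 6), (true, 4), (true, 5), (true, 3), (true, 2), (true, 1), (true, 3), (false, 122), (false, 159), (false, 160), (false, 227), (true, 7), (true, 6), (true, 5), (true, 4), (true, 3), (true, 2), (true, 1), (true, 3), (true, 4), (true, 5), (true, 6), (true, 7), (true, 0), (true, 2), (true, 3), (true, 4), (true, 1), (true, 3), (true, 2), (true, 0), (true, 5), (true, 4), (true, 3), (true, 2), (true, 1), (true, 3), (true, 4), (true, 5), (true, 5), (true, 4), (true, 0), (true, 2), (true, 3), (true, 1), (true, 4), (true, 3), (true, 7), (true, 6), (true, 5), (true, 4), (true, 3), (true, 2), (true, 0), (true, 1), (true, 3), (true, 2), (true, 4), (true, 3)], rep := 3,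
      piv := [{ X := { Φ := [[-1, 0, 2, -1, 0, 0, 0, 0], [0, 2, 0, -1, 0, 0, 0, 0], [-1, 0, 0, 1, 0, -1, 0, 0], [-1, 0, 0, 0, 0, 1, 0, -1], [1, 0, 0, 0, 0, 0, 0, -1], [0, 0, 0, 0, 0, 0, 0, 1]], r := 121, ψ := [2, 2, 2, 2, 2, 3, 0, 3], π := [0, 0, 0, 0, 0, -1, 2, -1],
                              P := [],
                              N := [], B := 2 },
                        u := [6], φ := [1, 1, 1, 1, 1, 2, -1, 2], w := [], next := 18 },
      { X := { Φ := [[-1, 0, 2, -1, 0, 0, 0, 0], [0, 2, 0, -1, 0, 0, 0, 0], [-1, 0, 0, 1, 0, -1, 0, 0], [-1, 0, 0, 0, 0, 1, 0, -1], [1, 0, 0, 0, 0, 0, 0, -1], [0, 0, 0, 0, 0, 0, 0, 1]], r := 126, ψ := [2, 2, 2, 3, 0, 3, 2, 2], π := [0, 0, 0, -1, 2, -1, 0, 0],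
                              P := [],
                              N := [], B := 2 },
                        u := [4], φ := [1, 1, 1, 2, -1, 2, 1, 1], w := [], next := 19 }] }

/-- State 16. -/
def stE8_16 : InvState :=
    { K := [121, 126, 135, 152, 159, 226, 239], Φ := [[0, 0, 0, 0, 0, -1, 2, -1], [0, 0, 0, -1, 2, -1, 0, 0], [-1, 0, 2, -1, 0, 0, 0, 0], [-1, 0, 0, 1, 0, -1, 0, 0], [-1, 0, 0, 0, 0, 1, 0, -1], [1, 0, 0, 0, 0, 0, 0, -1], [0, 0, 0, 0, 0, 0, 0, 1]],
      ops := [(false, 176), (false, 126), (false, 178), (false, 185), (true, 3), (true, 4), (true, 5), (true, 6), (true, 1), (true, 3), (true, 4), (true, 5), (true, 0), (true, 2), (true, 3), (true, 4), (true, 1), (true, 3), (true, 2), (true, 0), (true, 5), (true, 6), (true, 4), (true, 5), (true, 3), (true, 4), (true, 2), (true, 3), (false, 124), (false, 126), (false, 127), (false, 153), (true, 5), (true, 6), (true, 4), (true, 5), (true, 3), (true, 2), (true, 1), (true, 3), (false, 122), (false, 159), (false, 160), (false, 227), (true, 7),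 (true, 6), (true, 5), (true, 4), (true, 3), (true, 2), (true, 1), (true, 3), (true, 4), (true, 5), (true, 6), (true, 7), (true, 0), (true, 2), (true, 3), (true, 4), (true, 1), (true, 3), (true, 2), (true, 0), (true, 5), (true, 4), (true, 3), (true, 2), (true, 1), (true, 3), (true, 4), (true, 5), (true, 5), (true, 4), (true, 0), (true, 2), (true, 3), (true, 1), (true, 4), (true, 3), (true, 7), (true, 6), (true, 5), (true, 4), (true, 3), (true, 2), (true, 0), (true, 1), (true, 3), (true, 2), (true, 4), (true, 3)], rep := 3,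
      piv := [{ X := { Φ := [[0, 0, 0, 0, 0, -1, 2, -1], [0, 0, 0, -1, 2, -1, 0, 0], [-1, 0, 2, -1, 0, 0, 0, 0], [-1, 0, 0, 1, 0, -1, 0, 0], [-1, 0, 0, 0, 0, 1, 0, -1], [1, 0, 0, 0, 0, 0, 0, -1], [0, 0, 0, 0, 0, 0, 0, 1]], r := 141, ψ := [2, 0, 2, 3, 2, 2, 2, 2], π := [0, 2, 0, -1, 0, 0, 0, 0],
                              P := [],
                              N := [], B := 1 },
                        u := [1], φ := [1, -1, 1, 2, 1, 1, 1, 1], w := [], next := 20 }] }

/-- State 17. -/
def stE8_17 : InvState :=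
    { K := [121, 126, 141, 152, 159, 226, 239], Φ := [[0, 0, 0, 0, 0, -1, 2, -1], [0, 0, 0, -1, 2, -1, 0, 0], [0, 2, 0, -1, 0, 0, 0, 0], [-1, 0, 0, 1, 0, -1, 0, 0], [-1, 0, 0, 0, 0, 1, 0, -1], [1, 0, 0, 0, 0, 0, 0, -1], [0, 0, 0, 0, 0, 0, 0, 1]],
      ops := [(true, 5), (true, 6), (true, 3), (true, 2), (true, 1), (true, 3), (true, 4), (true, 5), (false, 176), (false, 126), (false, 178), (false, 185), (true, 3), (true, 4), (true, 5), (true, 6), (true, 1), (true, 3), (true, 4), (true, 5), (true, 0), (true, 2), (true, 3), (true, 4), (true, 1), (true, 3), (true, 2), (true, 0), (true, 5), (true, 6), (true, 4), (true, 5), (true, 3), (true, 4), (true, 2), (true, 3), (false, 124), (false, 126), (false, 127), (false, 153), (true, 5), (true, 6), (true, 4), (true, 5), (true, 3), (true, 2), (true, 1), (true, 3), (false, 122), (false, 159), (false, 160), (false, 227), (true, 7), (true, 6), (true, 5), (true, 4), (true, 3), (true, 2), (true, 1), (true, 3), (true, 4), (true, 5), (true, 6), (true, 7), (true, 0), (true,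 2), (true, 3), (true, 4), (true, 1), (true, 3), (true, 2), (true, 0), (true, 5), (true, 4), (true, 3), (true, 2), (true, 1), (true, 3), (true, 4), (true, 5), (true, 5), (true, 4), (true, 0), (true, 2), (true, 3), (true, 1), (true, 4), (true, 3), (true, 7), (true, 6), (true, 5), (true, 4), (true, 3), (true, 2), (true, 0), (true, 1), (true, 3), (true, 2), (true, 4), (true, 3)], rep := 3,
      piv := [{ X := { Φ := [[0, 0, 0, 0, 0, -1, 2, -1], [0, 0, 0, -1, 2, -1, 0, 0], [0, 2, 0, -1, 0, 0, 0, 0], [-1, 0, 0, 1, 0, -1, 0, 0], [-1, 0, 0, 0, 0, 1, 0, -1], [1, 0, 0, 0, 0, 0, 0, -1], [0, 0, 0, 0, 0, 0, 0, 1]], r := 135, ψ := [3, 2, 0, 3, 2, 2, 2, 2], π := [-1, 0, 2, -1, 0, 0, 0, 0],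
                              P := [],
                              N := [], B := 1 },
                        u := [2], φ := [2, 1, -1, 2, 1, 1, 1, 1], w := [], next := 20 }] }

/-- State 18. -/
def stE8_18 : InvState :=
    { K := [121, 135, 141, 152, 159, 226, 239], Φ := [[0, 0, 0, 0, 0, -1, 2, -1], [-1, 0, 2, -1, 0, 0, 0, 0], [0, 2, 0, -1, 0, 0, 0, 0], [-1, 0, 0, 1, 0, -1, 0, 0], [-1, 0, 0, 0, 0, 1, 0, -1], [1, 0, 0, 0, 0, 0, 0, -1], [0, 0, 0, 0, 0, 0, 0, 1]],
      ops := [(true, 3), (true, 4), (true, 5), (true, 6), (true, 1), (true, 3), (true, 4), (true, 5), (false, 176), (false, 126), (false, 178), (false, 185), (true, 3), (true, 4), (true, 5), (true, 6), (true, 1), (true, 3), (true, 4), (true, 5), (true, 0), (true, 2), (true, 3), (true, 4), (true, 1), (true, 3), (true, 2), (true, 0), (true, 5), (true, 6), (true, 4), (true, 5), (true, 3), (true, 4), (true, 2), (true, 3), (false, 124), (false, 126), (false, 127), (false, 153), (true, 5), (true, 6), (true, 4), (true, 5), (true, 3), (true, 2),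 (true, 1), (true, 3), (false, 122), (false, 159), (false, 160), (false, 227), (true, 7), (true, 6), (true, 5), (true, 4), (true, 3), (true, 2), (true, 1), (true, 3), (true, 4), (true, 5), (true, 6), (true, 7), (true, 0), (true, 2), (true, 3), (true, 4), (true, 1), (true, 3), (true, 2), (true, 0), (true, 5), (true, 4), (true, 3), (true, 2), (true, 1), (true, 3), (true, 4), (true, 5), (true, 5), (true, 4), (true, 0), (true, 2), (true, 3), (true, 1), (true, 4), (true, 3), (true, 7), (true, 6), (true, 5), (true, 4), (true, 3), (true, 2), (true, 0), (true, 1), (true, 3), (true, 2), (true, 4), (true, 3)], rep := 3,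
      piv := [{ X := { Φ := [[0, 0, 0, 0, 0, -1, 2, -1], [-1, 0, 2, -1, 0, 0, 0, 0], [0, 2, 0, -1, 0, 0, 0, 0], [-1, 0, 0, 1, 0, -1, 0, 0], [-1, 0, 0, 0, 0, 1, 0, -1], [1, 0, 0, 0, 0, 0, 0, -1], [0, 0, 0, 0, 0, 0, 0, 1]], r := 126, ψ := [2, 2, 2, 3, 0, 3, 2, 2], π := [0, 0, 0, -1, 2, -1, 0, 0],
                              P := [],
                              N := [], B := 1 },
                        u := [4], φ := [1, 1, 1, 2, -1, 2, 1, 1], w := [], next := 20 }] }

/-- State 19. -/
def stE8_19 : InvState :=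
    { K := [126, 135, 141, 152, 159, 226, 239], Φ := [[0, 0, 0, -1, 2, -1, 0, 0], [-1, 0, 2, -1, 0, 0, 0, 0], [0, 2, 0, -1, 0, 0, 0, 0], [-1, 0, 0, 1, 0, -1, 0, 0], [-1, 0, 0, 0, 0, 1, 0, -1], [1, 0, 0, 0, 0, 0, 0, -1], [0, 0, 0, 0, 0, 0, 0, 1]],
      ops := [(true, 3), (true, 4), (true, 5), (true, 6), (true, 1), (true, 3), (true, 4), (true, 5), (true, 3), (true, 4), (true, 1), (true, 3), (false, 176), (false, 126), (false, 178), (false, 185), (true, 3), (true, 4), (true, 5), (true, 6), (true, 1), (true, 3), (true, 4), (true, 5), (true, 0), (true, 2), (true, 3), (true, 4), (true, 1), (true, 3), (true, 2), (true, 0), (true, 5), (true, 6), (true, 4), (true, 5), (true, 3), (true, 4), (true, 2), (true, 3), (false, 124), (false, 126), (false, 127), (false, 153), (true, 5), (true, 6), (true, 4), (true, 5), (true, 3), (true, 2), (true, 1), (true, 3), (false, 122), (false, 159), (false, 160), (false, 227), (true, 7), (true, 6), (true, 5), (true, 4), (true, 3), (true, 2), (true, 1), (true, 3), (true, 4), (true,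 5), (true, 6), (true, 7), (true, 0), (true, 2), (true, 3), (true, 4), (true, 1), (true, 3), (true, 2), (true, 0), (true, 5), (true, 4), (true, 3), (true, 2), (true, 1), (true, 3), (true, 4), (true, 5), (true, 5), (true, 4), (true, 0), (true, 2), (true, 3), (true, 1), (true, 4), (true, 3), (true, 7), (true, 6), (true, 5), (true, 4), (true, 3), (true, 2), (true, 0), (true, 1), (true, 3), (true, 2), (true, 4), (true, 3)], rep := 3,
      piv := [{ X := { Φ := [[0, 0, 0, -1, 2, -1, 0, 0], [-1, 0, 2, -1, 0, 0, 0, 0], [0, 2, 0, -1, 0, 0, 0, 0], [-1, 0, 0, 1, 0, -1, 0, 0], [-1, 0, 0, 0, 0, 1, 0, -1], [1, 0, 0, 0, 0, 0, 0, -1], [0, 0, 0, 0, 0, 0, 0, 1]], r := 121, ψ := [2, 2, 2, 2, 2, 3, 0, 3], π := [0, 0, 0, 0, 0, -1, 2, -1],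
                              P := [],
                              N := [], B := 1 },
                        u := [6], φ := [1, 1, 1, 1, 1, 2, -1, 2], w := [], next := 20 }] }

/-- State 20. -/
def stE8_20 : InvState :=
    { K := [121, 126, 135, 141, 152, 159, 226, 239], Φ := [[0, 0, 0, 0, 0, -1, 2, -1], [0, 0, 0, -1, 2, -1, 0, 0], [-1, 0, 2, -1, 0, 0, 0, 0], [0, 2, 0, -1, 0, 0, 0, 0], [-1, 0, 0, 1, 0, -1, 0, 0], [-1, 0, 0, 0, 0, 1, 0, -1], [1, 0, 0, 0, 0, 0, 0, -1], [0, 0, 0, 0, 0, 0, 0, 1]],
      ops := [(false, 176), (false, 126), (false, 178), (false, 185), (true, 0), (true, 2), (true, 3), (true, 4), (true, 1), (true, 3), (true, 2), (true, 0), (true, 5), (true, 6), (true, 4), (true, 5), (true, 3), (true, 4), (true, 2), (true, 3), (false, 176), (false, 126), (false, 178), (false, 185), (true, 3), (true, 4), (true, 5), (true, 6), (true, 1), (true, 3), (true, 4), (true, 5), (true, 0), (true, 2), (true, 3), (true, 4), (true, 1), (true, 3), (true, 2), (true, 0), (true, 5), (true, 6), (true, 4),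 (true, 5), (true, 3), (true, 4), (true, 2), (true, 3), (false, 124), (false, 126), (false, 127), (false, 153), (true, 5), (true, 6), (true, 4), (true, 5), (true, 3), (true, 2), (true, 1), (true, 3), (false, 122), (false, 159), (false, 160), (false, 227), (true, 7), (true, 6), (true, 5), (true, 4), (true, 3), (true, 2), (true, 1), (true, 3), (true, 4), (true, 5), (true, 6), (true, 7), (true, 0), (true, 2), (true, 3), (true, 4), (true, 1), (true, 3), (true, 2), (true, 0), (true, 5), (true, 4), (true, 3), (true, 2), (true, 1), (true, 3), (true, 4), (true, 5), (true, 5), (true, 4), (true, 0), (true, 2), (true, 3), (true, 1), (true, 4), (true, 3), (true, 7), (true, 6), (true, 5), (true, 4), (true, 3), (true, 2), (true, 0), (true, 1), (true, 3), (true, 2), (true, 4), (true, 3)], rep := 3,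
      piv := [] }

/-- The states for type E8. -/
def redE8 : RedData where
  fuel := 300
  reps := [[239], [232, 233], [228, 222, 218], [226, 220, 213, 216]]
  st := [stE8_0, stE8_1, stE8_2, stE8_3, stE8_4, stE8_5, stE8_6, stE8_7, stE8_8, stE8_9, stE8_10, stE8_11, stE8_12, stE8_13, stE8_14, stE8_15, stE8_16, stE8_17, stE8_18, stE8_19, stE8_20]

/-- The byte tables of the simple reflections. -/
def reflTabE8 : List ℕ := [0xefeeedecebeae1e8e0dfdedddcdbe9e7e6e5e4e3e2dad9d8d7d6d5d4d3d2d1d0cfcecdcccbcac9c8c7c6c5c4c3c2c1c0bfbebdbcbbbab9b8a1a09f9e9d9c9b9a999897969594938c8b8a8988874db7b6b5b4b3b2b1b0afaeadacabaaa99291908f8e8da8a7a6a5a4a3868584838281807f7e7d7c7b7a797877767574737271706f6e6d6c6b6a694c4b4a4948476261605f5e5d464544434241403f3e3d3c3b3a3938a26867666564635c5b5a595857565554535251504f4e37363534333231302f2e2d2c2b2a292827262524232221201f1e1d1c1b1a19181716150d0c0b0a09080614131211100f070e050403020100,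
  0xefeeedecebe8e7eae9e6e5e4e3e2e0e1dfdedddcdbdad9d8d7d6cbcac9c8c7c6c5c4c3c2d5d4d3d2d1d0cfcecdccc1c0bfbebdbcbbbab9b8b7b6b5b4b3b2b1b0afaea8a7a6a5a4adacabaaa9a3a2a1a09f9e9d9c9b9a99988c8b8a89888685848382629796959493879291908f8e81807f7e7d7c7b7a797877767574737271706f6e61605f5e5d685c5b5a59588d6d6c6b6a69676665646357565554535251504f4e4d4c46454443424b4a49484741403f3e3d3c3b3a393837363534333231302f2e232221201f1e1d1c1b1a2d2c2b2a292827262524191817161514131211100e0f0d0c0b0a09060508070403020100,
  0xefeeedecebe9eae7e8e6e5e4e3e2e1e0dad9d8d7d6dfdedddcdbd5d4d3d2d1d0cfcecdcccbcac9c8c7c6c5c4c3c2b7b6b5b4b3b2b1b0afaec1c0bfbebdbcbbbab9b8adacabaaa9a8a7a6a5a4a2a3a1a09f9e9d9c9b9a99989291908f8e97969594938d8685848382688c8b8a898881807f7e7d7c7b7a797877767574737271706f6e6766656463876d6c6b6a69625c5b5a595861605f5e5d57565554535251504f4e4c4d4b4a494847464544434237363534333231302f2e41403f3e3d3c3b3a39382d2c2b2a292827262524232221201f1e1d1c1b1a141312111019181716150f0e0d0c0b0a09070805060403020100,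
  0xefeeedeceaebe9e8e6e7e5e4e3e2e1dfe0dedddcdbdad5d4d3d2d9d8d7d6d1d0cfcecdcccbcac9c8c1c0bfbebdbcc7c6c5c4c3c2bbbab9b8b7b6b5b4b3b2adacabaab1b0afaea9a8a7a6a5a3a4a2a1a09f9e9d9c979695949b9a9998939291908f8d8e8c8b8a89878881807f7e6d868584837d7c7b7a79787776757473726c6b6a698271706f6e6768666564636162605f5e5d5c575655545b5a5958535251504f4e4d4b4c4a4948474641403f3e454443423d3c3b3a3938373635342d2c2b2a2928333231302f2e27262524232221201f1e191817161d1c1b1a15141312110f100e0d0c0b0a08090706040503020100,
  0xefeeedebeceae9e8e7e5e6e4e3e2e1e0dedfdddcdbd9dad8d7d6d5d1d0cfd4d3d2cecdcccbc7c6c5cac9c8c4c3c2c1c0bfbbbab9bebdbcb8b7b6b5b1b0afb4b3b2aeadacaba9aaa8a7a6a4a5a3a2a1a09f9b9a999e9d9c9897969593949291908e8f8d8c8b8a88898786858482837d7c7b7181807f7a7978777675706f6e7e7473726c6d6b6a696866676564636260615f5e5d5b5c5a595857535251565554504f4e4d4c4a4b4948474546444342413d3c3b403f3e3a393837333231363534302f2e2d2c2b2726252a2928242322211d1c1b201f1e1a191817151614131210110f0e0d0c0b090a080706050304020100,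
  0xefeeecedebeae9e8e7e6e4e5e3e2e1e0dfdddedcdbdad8d9d7d6d4d5d3d2d1cecdd0cfcccacbc9c8c7c4c3c6c5c2c1bebdc0bfbcbbbab8b9b7b4b3b6b5b2b1b0aeafadacaaaba9a8a7a5a6a4a3a2a19e9da09f9c9b9a9899979694959392918f908e8d8c8b898a8887868583848281807e7f7a79747d7c787773727b767570716f6e6d6b6c6a6968676566646362615f605e5d5c5a5b59585657555453504f52514e4d4c4b494a4847464445434240413f3e3d3a393c3b383637353433302f32312e2d2a292c2b282726242523201f22211e1d1c1a1b191816171514131112100f0e0d0c0a0b09080706050402030100,
  0xefedeeecebeae9e8e7e6e5e3e4e2e1e0dfdedcdddbdad9d7d8d6d5d3d4d2d0d1cfcecccdcbc9cac8c6c7c5c4c2c3c0c1bfbebcbdbbb9bab8b6b7b5b4b2b3b1afb0aeadabacaaa9a8a6a7a5a4a3a2a0a19f9e9c9d9b999a9897959694939290918f8e8d8c8a8b8988878684858382817f807e7d7b7c78767a757977737472716f706e6d6c6a6b696867666465636261605e5f5d5c5b595a5857555654525351504e4f4d4c4b4a4849474645434442413f403e3c3d3b3a383937353634323331302e2f2c2d2b2a282927252624222321201e1f1d1b1c1a191718161514121311100f0e0d0b0c0a09080706050403010200,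
  0xeeefedecebeae9e8e7e6e5e4e2e3e1e0dfdedddbdcdad9d8d6d7d5d4d2d3d1cfd0cdcecccbcac8c9c7c5c6c3c4c2c1bfc0bdbebcbabbb9b8b7b5b6b3b4b2b0b1afaeacadabaaa9a7a8a6a5a4a3a2a19fa09d9e9c9a9b999896979594939192908f8e8d8b8c8a898887858684838280817f7e7c7d7b797a7778757674727371706e6f6d6c6b696a6867666563646261605f5d5e5c5b5a5859575654555351524f504e4d4c4b4a494748464544424341403e3f3d3b3c393a38373634353331322f302e2d2b2c292a28262725242321221f201e1c1d1b1a181917161513141211100f0e0c0d0b0a09080706050403020001]

/-- The fast accessors. -/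
noncomputable def tabE8 : CTab := CTab.fast chevE8 packedE8 reflTabE8

theorem refTabE8_0 : refB chevE8 reflTabE8 0 = true := by decide +kernel

theorem refTabE8_1 : refB chevE8 reflTabE8 1 = true := by decide +kernel

theorem refTabE8_2 : refB chevE8 reflTabE8 2 = true := by decide +kernel

theorem refTabE8_3 : refB chevE8 reflTabE8 3 = true := by decide +kernel

theorem refTabE8_4 : refB chevE8 reflTabE8 4 = true := by decide +kernel

theorem refTabE8_5 : refB chevE8 reflTabE8 5 = true := by decide +kernel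

theorem refTabE8_6 : refB chevE8 reflTabE8 6 = true := by decide +kernel

theorem refTabE8_7 : refB chevE8 reflTabE8 7 = true := by decide +kernel

theorem tabE8_eq : tabE8 = CTab.std chevE8 :=
  CTab.fast_eq chkLinkE8 fun i hi => by
    have h : i < 8 := hi
    interval_cases i <;> first
      | exact refTabE8_0
      | exact refTabE8_1
      | exact refTabE8_2
      | exact refTabE8_3
      | exact refTabE8_4
      | exact refTabE8_5
      | exact refTabE8_6
      | exact refTabE8_7

theorem stE8_0_ok : redE8.stateB chevE8 tabE8 0 stE8_0 = true := by decide +kernel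

theorem stE8_1_ok : redE8.stateB chevE8 tabE8 1 stE8_1 = true := by decide +kernel

theorem stE8_2_ok : redE8.stateB chevE8 tabE8 2 stE8_2 = true := by decide +kernel

theorem stE8_3_ok : redE8.stateB chevE8 tabE8 3 stE8_3 = true := by decide +kernel

theorem stE8_4_ok : redE8.stateB chevE8 tabE8 4 stE8_4 = true := by decide +kernel

theorem stE8_5_ok : redE8.stateB chevE8 tabE8 5 stE8_5 = true := by decide +kernel

theorem stE8_6_ok : redE8.stateB chevE8 tabE8 6 stE8_6 = true := by decide +kernel

theorem stE8_7_ok : redE8.stateB chevE8 tabE8 7 stE8_7 = true := by decide +kernel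

theorem stE8_8_ok : redE8.stateB chevE8 tabE8 8 stE8_8 = true := by decide +kernel

theorem stE8_9_ok : redE8.stateB chevE8 tabE8 9 stE8_9 = true := by decide +kernel

theorem stE8_10_ok : redE8.stateB chevE8 tabE8 10 stE8_10 = true := by decide +kernel

theorem stE8_11_ok : redE8.stateB chevE8 tabE8 11 stE8_11 = true := by decide +kernel

theorem stE8_12_ok : redE8.stateB chevE8 tabE8 12 stE8_12 = true := by decide +kernel

theorem stE8_13_ok : redE8.stateB chevE8 tabE8 13 stE8_13 = true := by decide +kernel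

theorem stE8_14_ok : redE8.stateB chevE8 tabE8 14 stE8_14 = true := by decide +kernel

theorem stE8_15_ok : redE8.stateB chevE8 tabE8 15 stE8_15 = true := by decide +kernel

theorem stE8_16_ok : redE8.stateB chevE8 tabE8 16 stE8_16 = true := by decide +kernel

theorem stE8_17_ok : redE8.stateB chevE8 tabE8 17 stE8_17 = true := by decide +kernel

theorem stE8_18_ok : redE8.stateB chevE8 tabE8 18 stE8_18 = true := by decide +kernel

theorem stE8_19_ok : redE8.stateB chevE8 tabE8 19 stE8_19 = true := by decide +kernel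

theorem stE8_20_ok : redE8.stateB chevE8 tabE8 20 stE8_20 = true := by decide +kernel

theorem redE8_ok : redE8.checkB chevE8 (CTab.std chevE8) = true := by
  rw [← tabE8_eq]
  refine redCheck_of (s0 := stE8_0) rfl rfl rfl ?_
  simp only [redE8, List.zipIdx_cons, List.zipIdx_nil, Nat.zero_add, Nat.reduceAdd, List.forall_mem_cons]
  exact ⟨stE8_0_ok, stE8_1_ok, stE8_2_ok, stE8_3_ok, stE8_4_ok, stE8_5_ok, stE8_6_ok, stE8_7_ok, stE8_8_ok, stE8_9_ok, stE8_10_ok, stE8_11_ok, stE8_12_ok, stE8_13_ok, stE8_14_ok, stE8_15_ok, stE8_16_ok, stE8_17_ok, stE8_18_ok, stE8_19_ok, stE8_20_ok, List.forall_mem_nil _⟩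

end Cfsg.Agent.Chev54
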