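import Cfsg.Agent.Chev54.InvRed
import Cfsg.Agent.Lib.ChevCore.GoodAll

/-!
The certificate of the reduction of involutions in type F4.
-/

set_option autoImplicit false
set_option maxRecDepth 100000

namespace Cfsg.Agent.Chev54

open Cfsg.Lie Cfsg.Agent.ChevCore

/-- State 0. -/
def stF4_0 : InvState :=
    { K := [], Φ := [],
      ops := [], rep := 0,
      piv := [{ X := { Φ := [], r := 24, ψ := [2, 2, 3, 0], π := [0, 0, -1, 2],
                              P := [(26, 25), (29, 28), (31, 30), (36, 35), (38, 37), (42, 41), (47, 46)],
                              N := [(25, 26), (28, 29), (30, 31), (35, 36), (37, 38), (41, 42), (46, 47)], B := 21 },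
                        u := [3], φ := [1, 1, 2, -1], w := [3, 2, 1, 0, 2, 1, 2], next := 1 },
      { X := { Φ := [], r := 25, ψ := [2, 3, 0, 3], π := [0, -1, 2, -1],
                              P := [(26, 24), (28, 27), (32, 31), (35, 34), (39, 38), (43, 42), (46, 45)],
                              N := [(24, 26), (27, 28), (31, 32), (34, 35), (38, 39), (42, 43), (45, 46)], B := 22 },
                        u := [2], φ := [1, 2, -1, 2], w := [3, 2, 1, 0, 2, 1, 3], next := 1 },
      { X := { Φ := [], r := 27, ψ := [3, 0, 4, 2], π := [-1, 2, -2, 0],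
                              P := [(30, 25), (31, 26), (34, 33), (37, 35), (38, 36), (40, 39), (45, 43)],
                              N := [(25, 30), (26, 31), (33, 34), (35, 37), (36, 38), (39, 40), (43, 45)], B := 22 },
                        u := [1], φ := [2, -1, 3, 1], w := [0, 1, 2, 1, 0, 3, 2], next := 2 },
      { X := { Φ := [], r := 33, ψ := [0, 3, 2, 2], π := [2, -1, 0, 0],
                              P := [(34, 27), (35, 28), (36, 29), (41, 30), (42, 31), (43, 32), (44, 40)],
                              N := [(27, 34), (28, 35), (29, 36), (30, 41), (31, 42), (32, 43), (40, 44)], B := 22 },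
                        u := [0], φ := [-1, 2, 1, 1], w := [0, 1, 2, 1, 3, 2, 1], next := 2 }] }

/-- State 1. -/
def stF4_1 : InvState :=
    { K := [47], Φ := [[0, 0, 0, 1]],
      ops := [], rep := 0,
      piv := [{ X := { Φ := [[0, 0, 0, 1]], r := 25, ψ := [2, 3, 0, 3], π := [0, -1, 2, -1],
                              P := [(28, 27), (35, 34)],
                              N := [(27, 28), (34, 35)], B := 10 },
                        u := [2], φ := [1, 2, -1, 2], w := [0, 1], next := 3 },
      { X := { Φ := [[0, 0, 0, 1]], r := 27, ψ := [3, 0, 4, 2], π := [-1, 2, -2, 0],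
                              P := [(30, 25), (34, 33), (37, 35)],
                              N := [(25, 30), (33, 34), (35, 37)], B := 10 },
                        u := [1], φ := [2, -1, 3, 1], w := [1, 0, 2], next := 4 },
      { X := { Φ := [[0, 0, 0, 1]], r := 33, ψ := [0, 3, 2, 2], π := [2, -1, 0, 0],
                              P := [(34, 27), (35, 28), (41, 30)],
                              N := [(27, 34), (28, 35), (30, 41)], B := 8 },
                        u := [0], φ := [-1, 2, 1, 1], w := [1, 2, 1], next := 4 }] }

/-- State 2. -/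
def stF4_2 : InvState :=
    { K := [44], Φ := [[1, 0, 0, 0]],
      ops := [], rep := 1,
      piv := [{ X := { Φ := [[1, 0, 0, 0]], r := 24, ψ := [2, 2, 3, 0], π := [0, 0, -1, 2],
                              P := [(26, 25), (29, 28), (31, 30)],
                              N := [(25, 26), (28, 29), (30, 31)], B := 10 },
                        u := [3], φ := [1, 1, 2, -1], w := [2, 1, 2], next := 5 },
      { X := { Φ := [[1, 0, 0, 0]], r := 25, ψ := [2, 3, 0, 3], π := [0, -1, 2, -1],
                              P := [(26, 24), (28, 27), (32, 31)],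
                              N := [(24, 26), (27, 28), (31, 32)], B := 9 },
                        u := [2], φ := [1, 2, -1, 2], w := [2, 1, 3], next := 5 },
      { X := { Φ := [[1, 0, 0, 0]], r := 27, ψ := [3, 0, 4, 2], π := [-1, 2, -2, 0],
                              P := [(30, 25), (31, 26)],
                              N := [(25, 30), (26, 31)], B := 10 },
                        u := [1], φ := [2, -1, 3, 1], w := [3, 2], next := 6 }] }

/-- State 3. -/
def stF4_3 : InvState :=
    { K := [41, 47], Φ := [[1, 0, 0, -1], [0, 0, 0, 1]],
      ops := [(false, 29), (true, 3), (true, 2), (true, 1), (true, 2), (true, 3)], rep := 2,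
      piv := [{ X := { Φ := [[1, 0, 0, -1], [0, 0, 0, 1]], r := 25, ψ := [2, 3, 0, 3], π := [0, -1, 2, -1],
                              P := [(28, 27)],
                              N := [(27, 28)], B := 6 },
                        u := [2], φ := [1, 2, -1, 2], w := [1], next := 7 },
      { X := { Φ := [[1, 0, 0, -1], [0, 0, 0, 1]], r := 27, ψ := [3, 0, 4, 2], π := [-1, 2, -2, 0],
                              P := [(30, 25)],
                              N := [(25, 30)], B := 4 },
                        u := [1], φ := [2, -1, 3, 1], w := [2], next := 8 }] }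

/-- State 4. -/
def stF4_4 : InvState :=
    { K := [37, 47], Φ := [[0, 1, 0, -2], [0, 0, 0, 1]],
      ops := [(true, 3), (true, 2)], rep := 3,
      piv := [{ X := { Φ := [[0, 1, 0, -2], [0, 0, 0, 1]], r := 25, ψ := [2, 3, 0, 3], π := [0, -1, 2, -1],
                              P := [],
                              N := [], B := 2 },
                        u := [2], φ := [1, 2, -1, 2], w := [], next := 9 },
      { X := { Φ := [[0, 1, 0, -2], [0, 0, 0, 1]], r := 33, ψ := [0, 3, 2, 2], π := [2, -1, 0, 0],
                              P := [],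
                              N := [], B := 2 },
                        u := [0], φ := [-1, 2, 1, 1], w := [], next := 10 }] }

/-- State 5. -/
def stF4_5 : InvState :=
    { K := [32, 44], Φ := [[-1, 0, 1, 0], [1, 0, 0, 0]],
      ops := [(true, 0), (true, 1)], rep := 3,
      piv := [{ X := { Φ := [[-1, 0, 1, 0], [1, 0, 0, 0]], r := 24, ψ := [2, 2, 3, 0], π := [0, 0, -1, 2],
                              P := [],
                              N := [], B := 2 },
                        u := [3], φ := [1, 1, 2, -1], w := [], next := 11 },
      { X := { Φ := [[-1, 0, 1, 0], [1, 0, 0, 0]], r := 27, ψ := [3, 0, 4, 2], π := [-1, 2, -2, 0],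
                              P := [],
                              N := [], B := 2 },
                        u := [1], φ := [2, -1, 3, 1], w := [], next := 12 }] }

/-- State 6. -/
def stF4_6 : InvState :=
    { K := [29, 44], Φ := [[-1, 0, 0, 2], [1, 0, 0, 0]],
      ops := [(false, 41), (true, 0), (true, 1), (true, 2), (true, 1), (true, 0)], rep := 2,
      piv := [{ X := { Φ := [[-1, 0, 0, 2], [1, 0, 0, 0]], r := 25, ψ := [2, 3, 0, 3], π := [0, -1, 2, -1],
                              P := [(28, 27)],
                              N := [(27, 28)], B := 6 },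
                        u := [2], φ := [1, 2, -1, 2], w := [1], next := 13 },
      { X := { Φ := [[-1, 0, 0, 2], [1, 0, 0, 0]], r := 27, ψ := [3, 0, 4, 2], π := [-1, 2, -2, 0],
                              P := [(30, 25)],
                              N := [(25, 30)], B := 4 },
                        u := [1], φ := [2, -1, 3, 1], w := [2], next := 14 }] }

/-- State 7. -/
def stF4_7 : InvState :=
    { K := [30, 41, 47], Φ := [[-1, 1, 0, -1], [1, 0, 0, -1], [0, 0, 0, 1]],
      ops := [(false, 29), (false, 33), (true, 0), (true, 3), (true, 2), (true, 1), (false, 27)], rep := 3,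
      piv := [{ X := { Φ := [[-1, 1, 0, -1], [1, 0, 0, -1], [0, 0, 0, 1]], r := 25, ψ := [2, 3, 0, 3], π := [0, -1, 2, -1],
                              P := [],
                              N := [], B := 1 },
                        u := [2], φ := [1, 2, -1, 2], w := [], next := 15 }] }

/-- State 8. -/
def stF4_8 : InvState :=
    { K := [28, 41, 47], Φ := [[-1, 0, 2, -2], [1, 0, 0, -1], [0, 0, 0, 1]],
      ops := [(false, 29), (false, 42), (false, 32), (true, 3), (true, 2), (true, 1), (true, 0), (true, 2), (true, 1), (true, 2)], rep := 3,
      piv := [{ X := { Φ := [[-1, 0, 2, -2], [1, 0, 0, -1], [0, 0, 0, 1]], r := 27, ψ := [3, 0, 4, 2], π := [-1, 2, -2, 0],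
                              P := [],
                              N := [], B := 1 },
                        u := [1], φ := [2, -1, 3, 1], w := [], next := 16 }] }

/-- State 9. -/
def stF4_9 : InvState :=
    { K := [25, 37, 47], Φ := [[0, -1, 2, -1], [0, 1, 0, -2], [0, 0, 0, 1]],
      ops := [(true, 1), (true, 0), (false, 29), (false, 42), (false, 32), (true, 3), (true, 2), (true, 1), (true, 0), (true, 2), (true, 1), (true, 2)], rep := 3,
      piv := [{ X := { Φ := [[0, -1, 2, -1], [0, 1, 0, -2], [0, 0, 0, 1]], r := 33, ψ := [0, 3, 2, 2], π := [2, -1, 0, 0],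
                              P := [],
                              N := [], B := 1 },
                        u := [0], φ := [-1, 2, 1, 1], w := [], next := 17 }] }

/-- State 10. -/
def stF4_10 : InvState :=
    { K := [33, 37, 47], Φ := [[2, -1, 0, 0], [0, 1, 0, -2], [0, 0, 0, 1]],
      ops := [(false, 30), (true, 1), (true, 2), (true, 1), (true, 0), (false, 33), (false, 29), (false, 33), (true, 0), (true, 3), (true, 2), (true, 1), (false, 27)], rep := 3,
      piv := [{ X := { Φ := [[2, -1, 0, 0], [0, 1, 0, -2], [0, 0, 0, 1]], r := 25, ψ := [2, 3, 0, 3], π := [0, -1, 2, -1],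
                              P := [],
                              N := [], B := 1 },
                        u := [2], φ := [1, 2, -1, 2], w := [], next := 17 }] }

/-- State 11. -/
def stF4_11 : InvState :=
    { K := [24, 32, 44], Φ := [[0, 0, -1, 2], [-1, 0, 1, 0], [1, 0, 0, 0]],
      ops := [(true, 0), (true, 1), (true, 2), (true, 3), (true, 1), (true, 0), (false, 29), (false, 42), (false, 32), (true, 3), (true, 2), (true, 1), (true, 0), (true, 2), (true, 1), (true, 2)], rep := 3,
      piv := [{ X := { Φ := [[0, 0, -1, 2], [-1, 0, 1, 0], [1, 0, 0, 0]], r := 27, ψ := [3, 0, 4, 2], π := [-1, 2, -2, 0],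
                              P := [],
                              N := [], B := 1 },
                        u := [1], φ := [2, -1, 3, 1], w := [], next := 18 }] }

/-- State 12. -/
def stF4_12 : InvState :=
    { K := [27, 32, 44], Φ := [[-1, 2, -2, 0], [-1, 0, 1, 0], [1, 0, 0, 0]],
      ops := [(false, 43), (false, 34), (false, 39), (true, 0), (true, 1), (true, 2), (true, 1), (true, 3), (true, 2), (true, 1), (true, 3), (true, 2)], rep := 3,
      piv := [{ X := { Φ := [[-1, 2, -2, 0], [-1, 0, 1, 0], [1, 0, 0, 0]], r := 24, ψ := [2, 2, 3, 0], π := [0, 0, -1, 2],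
                              P := [],
                              N := [], B := 1 },
                        u := [3], φ := [1, 1, 2, -1], w := [], next := 18 }] }

/-- State 13. -/
def stF4_13 : InvState :=
    { K := [29, 30, 44], Φ := [[-1, 0, 0, 2], [-1, 1, 0, -1], [1, 0, 0, 0]],
      ops := [(true, 3), (true, 2), (false, 43), (false, 34), (false, 39), (true, 0), (true, 1), (true, 2), (true, 1), (true, 3), (true, 2), (true, 1), (true, 3), (true, 2)], rep := 3,
      piv := [{ X := { Φ := [[-1, 0, 0, 2], [-1, 1, 0, -1], [1, 0, 0, 0]], r := 25, ψ := [2, 3, 0, 3], π := [0, -1, 2, -1],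
                              P := [],
                              N := [], B := 1 },
                        u := [2], φ := [1, 2, -1, 2], w := [], next := 19 }] }

/-- State 14. -/
def stF4_14 : InvState :=
    { K := [28, 29, 44], Φ := [[-1, 0, 2, -2], [-1, 0, 0, 2], [1, 0, 0, 0]],
      ops := [(false, 24), (true, 3), (true, 2), (true, 1), (false, 27), (true, 2), (true, 0), (true, 1), (true, 2), (true, 3), (true, 1), (true, 0), (false, 29), (false, 42), (false, 32), (true, 3), (true, 2), (true, 1), (true, 0), (true, 2), (true, 1), (true, 2)], rep := 3,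
      piv := [{ X := { Φ := [[-1, 0, 2, -2], [-1, 0, 0, 2], [1, 0, 0, 0]], r := 27, ψ := [3, 0, 4, 2], π := [-1, 2, -2, 0],
                              P := [],
                              N := [], B := 1 },
                        u := [1], φ := [2, -1, 3, 1], w := [], next := 20 }] }

/-- State 15. -/
def stF4_15 : InvState :=
    { K := [25, 30, 41, 47], Φ := [[0, -1, 2, -1], [-1, 1, 0, -1], [1, 0, 0, -1], [0, 0, 0, 1]],
      ops := [(false, 27), (true, 1), (true, 0), (false, 33), (false, 27), (true, 0), (false, 29), (false, 42), (false, 32), (true, 3), (true, 2), (true, 1), (true, 0), (true, 2), (true, 1), (true, 2)], rep := 3,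
      piv := [] }

/-- State 16. -/
def stF4_16 : InvState :=
    { K := [27, 28, 41, 47], Φ := [[-1, 2, -2, 0], [-1, 0, 2, -2], [1, 0, 0, -1], [0, 0, 0, 1]],
      ops := [(false, 29), (false, 42), (false, 32), (false, 25), (true, 0), (false, 33), (false, 28), (true, 0), (true, 2), (true, 3), (true, 2), (true, 1), (true, 0), (true, 2), (true, 1), (true, 2)], rep := 3,
      piv := [] }

/-- State 17. -/
def stF4_17 : InvState :=
    { K := [25, 33, 37, 47], Φ := [[0, -1, 2, -1], [2, -1, 0, 0], [0, 1, 0, -2], [0, 0, 0, 1]],
      ops := [(true, 1), (true, 0), (false, 29), (false, 42), (false, 32), (false, 25), (true, 0), (false, 33), (false, 28), (true, 0), (true, 2), (true, 3), (true, 2), (true, 1), (true, 0), (true, 2), (true, 1), (true, 2)], rep := 3,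
      piv := [] }

/-- State 18. -/
def stF4_18 : InvState :=
    { K := [24, 27, 32, 44], Φ := [[0, 0, -1, 2], [-1, 2, -2, 0], [-1, 0, 1, 0], [1, 0, 0, 0]],
      ops := [(false, 28), (false, 26), (false, 30), (false, 43), (false, 37), (false, 36), (true, 0), (true, 2), (true, 1), (true, 0), (true, 2), (true, 1), (true, 2), (true, 3), (true, 2), (true, 1), (true, 3), (true, 2)], rep := 3,
      piv := [] }

/-- State 19. -/
def stF4_19 : InvState :=
    { K := [25, 29, 30, 44], Φ := [[0, -1, 2, -1], [-1, 0, 0, 2], [-1, 1, 0, -1], [1, 0, 0, 0]],
      ops := [(true, 3), (true, 2), (false, 28), (false, 26), (false, 30), (false, 43), (false, 37), (false, 36), (true, 0), (true, 2), (true, 1), (true, 0), (true, 2), (true, 1), (true, 2), (true, 3), (true, 2), (true, 1), (true, 3), (true, 2)], rep := 3,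
      piv := [] }

/-- State 20. -/
def stF4_20 : InvState :=
    { K := [27, 28, 29, 44], Φ := [[-1, 2, -2, 0], [-1, 0, 2, -2], [-1, 0, 0, 2], [1, 0, 0, 0]],
      ops := [(false, 25), (true, 2), (true, 1), (false, 27), (true, 3), (true, 2), (false, 28), (false, 26), (false, 30), (false, 43), (false, 37), (false, 36), (true, 0), (true, 2), (true, 1), (true, 0), (true, 2), (true, 1), (true, 2), (true, 3), (true, 2), (true, 1), (true, 3), (true, 2)], rep := 3,
      piv := [] }

/-- The states for type F4. -/
def redF4 : RedData where
  fuel := 300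
  reps := [[47], [44], [47, 44], [39, 45]]
  st := [stF4_0, stF4_1, stF4_2, stF4_3, stF4_4, stF4_5, stF4_6, stF4_7, stF4_8, stF4_9, stF4_10, stF4_11, stF4_12, stF4_13, stF4_14, stF4_15, stF4_16, stF4_17, stF4_18, stF4_19, stF4_20]

/-- The byte tables of the simple reflections. -/
def reflTabF4 : List ℕ := [0x2f2e2d28201f1e2c2726251d1c1b0e2b2a292423221a19181716150d0c0b060504211413120a09080311100f07020100,
  0x2f2e2b2c2d2a292728242326252122201a191d1c141f1e181711101b131216150f0d0e0a090c0b070806050203040100,
  0x2f2d2e2c2a2b2928262725242223211f201e1d1b1c18161a151917131412110f100e0c0d0b0a08090706040503010200,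
  0x2e2f2d2c2b292a2827252623242221201e1f1c1d1b191a1718151614121310110f0e0d0b0c090a080705060403020001]

/-- The fast accessors. -/
noncomputable def tabF4 : CTab := CTab.fast chevF4 packedF4 reflTabF4

theorem refTabF4_0 : refB chevF4 reflTabF4 0 = true := by decide +kernel

theorem refTabF4_1 : refB chevF4 reflTabF4 1 = true := by decide +kernel

theorem refTabF4_2 : refB chevF4 reflTabF4 2 = true := by decide +kernel

theorem refTabF4_3 : refB chevF4 reflTabF4 3 = true := by decide +kernel

theorem tabF4_eq : tabF4 = CTab.std chevF4 :=
  CTab.fast_eq chkLinkF4 fun i hi => by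
    have h : i < 4 := hi
    interval_cases i <;> first
      | exact refTabF4_0
      | exact refTabF4_1
      | exact refTabF4_2
      | exact refTabF4_3

theorem stF4_0_ok : redF4.stateB chevF4 tabF4 0 stF4_0 = true := by decide +kernel

theorem stF4_1_ok : redF4.stateB chevF4 tabF4 1 stF4_1 = true := by decide +kernel

theorem stF4_2_ok : redF4.stateB chevF4 tabF4 2 stF4_2 = true := by decide +kernel

theorem stF4_3_ok : redF4.stateB chevF4 tabF4 3 stF4_3 = true := by decide +kernel

theorem stF4_4_ok : redF4.stateB chevF4 tabF4 4 stF4_4 = true := by decide +kernel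

theorem stF4_5_ok : redF4.stateB chevF4 tabF4 5 stF4_5 = true := by decide +kernel

theorem stF4_6_ok : redF4.stateB chevF4 tabF4 6 stF4_6 = true := by decide +kernel

theorem stF4_7_ok : redF4.stateB chevF4 tabF4 7 stF4_7 = true := by decide +kernel

theorem stF4_8_ok : redF4.stateB chevF4 tabF4 8 stF4_8 = true := by decide +kernel

theorem stF4_9_ok : redF4.stateB chevF4 tabF4 9 stF4_9 = true := by decide +kernel

theorem stF4_10_ok : redF4.stateB chevF4 tabF4 10 stF4_10 = true := by decide +kernel

theorem stF4_11_ok : redF4.stateB chevF4 tabF4 11 stF4_11 = true := by decide +kernel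

theorem stF4_12_ok : redF4.stateB chevF4 tabF4 12 stF4_12 = true := by decide +kernel

theorem stF4_13_ok : redF4.stateB chevF4 tabF4 13 stF4_13 = true := by decide +kernel

theorem stF4_14_ok : redF4.stateB chevF4 tabF4 14 stF4_14 = true := by decide +kernel

theorem stF4_15_ok : redF4.stateB chevF4 tabF4 15 stF4_15 = true := by decide +kernel

theorem stF4_16_ok : redF4.stateB chevF4 tabF4 16 stF4_16 = true := by decide +kernel

theorem stF4_17_ok : redF4.stateB chevF4 tabF4 17 stF4_17 = true := by decide +kernel

theorem stF4_18_ok : redF4.stateB chevF4 tabF4 18 stF4_18 = true := by decide +kernel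

theorem stF4_19_ok : redF4.stateB chevF4 tabF4 19 stF4_19 = true := by decide +kernel

theorem stF4_20_ok : redF4.stateB chevF4 tabF4 20 stF4_20 = true := by decide +kernel

theorem redF4_ok : redF4.checkB chevF4 (CTab.std chevF4) = true := by
  rw [← tabF4_eq]
  refine redCheck_of (s0 := stF4_0) rfl rfl rfl ?_
  simp only [redF4, List.zipIdx_cons, List.zipIdx_nil, Nat.zero_add, Nat.reduceAdd, List.forall_mem_cons]
  exact ⟨stF4_0_ok, stF4_1_ok, stF4_2_ok, stF4_3_ok, stF4_4_ok, stF4_5_ok, stF4_6_ok, stF4_7_ok, stF4_8_ok, stF4_9_ok, stF4_10_ok, stF4_11_ok, stF4_12_ok, stF4_13_ok, stF4_14_ok, stF4_15_ok, stF4_16_ok, stF4_17_ok, stF4_18_ok, stF4_19_ok, stF4_20_ok, List.forall_mem_nil _⟩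

end Cfsg.Agent.Chev54
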