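import Cfsg.Agent.Chev54.InvRed
import Cfsg.Agent.Lib.ChevCore.GoodAll

/-!
The certificate of the reduction of involutions in type G2.
-/

set_option autoImplicit false
set_option maxRecDepth 100000

namespace Cfsg.Agent.Chev54

open Cfsg.Lie Cfsg.Agent.ChevCore

/-- State 0. -/
def stG2_0 : InvState :=
    { K := [], Φ := [],
      ops := [], rep := 0,
      piv := [{ X := { Φ := [], r := 6, ψ := [3, 0], π := [-1, 2],
                              P := [(8, 7), (11, 10)],
                              N := [(7, 8), (10, 11)], B := 9 },
                        u := [1], φ := [2, -1], w := [1, 0], next := 1 },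
      { X := { Φ := [], r := 7, ψ := [0, 5], π := [2, -3],
                              P := [(9, 6), (10, 8)],
                              N := [(6, 9), (8, 10)], B := 10 },
                        u := [0], φ := [-1, 4], w := [0, 1], next := 2 }] }

/-- State 1. -/
def stG2_1 : InvState :=
    { K := [11], Φ := [[0, 1]],
      ops := [], rep := 0,
      piv := [{ X := { Φ := [[0, 1]], r := 7, ψ := [0, 5], π := [2, -3],
                              P := [],
                              N := [], B := 1 },
                        u := [0], φ := [-1, 4], w := [], next := 3 }] }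

/-- State 2. -/
def stG2_2 : InvState :=
    { K := [9], Φ := [[1, 0]],
      ops := [], rep := 1,
      piv := [{ X := { Φ := [[1, 0]], r := 6, ψ := [3, 0], π := [-1, 2],
                              P := [],
                              N := [], B := 1 },
                        u := [1], φ := [2, -1], w := [], next := 4 }] }

/-- State 3. -/
def stG2_3 : InvState :=
    { K := [7, 11], Φ := [[2, -3], [0, 1]],
      ops := [(false, 8), (false, 9), (true, 1), (true, 0)], rep := 1,
      piv := [] }

/-- State 4. -/
def stG2_4 : InvState :=
    { K := [6, 9], Φ := [[-1, 2], [1, 0]],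
      ops := [(true, 0), (true, 1), (false, 8), (false, 9), (true, 1), (true, 0)], rep := 1,
      piv := [] }

/-- The states for type G2. -/
def redG2 : RedData where
  fuel := 300
  reps := [[11], [9]]
  st := [stG2_0, stG2_1, stG2_2, stG2_3, stG2_4]

/-- The byte tables of the simple reflections. -/
def reflTabG2 : List ℕ := [0xb060809040a010702030500,
  0xa0b09070805060304020001]

/-- The fast accessors. -/
noncomputable def tabG2 : CTab := CTab.fast chevG2 packedG2 reflTabG2

theorem refTabG2_0 : refB chevG2 reflTabG2 0 = true := by decide +kernel

theorem refTabG2_1 : refB chevG2 reflTabG2 1 = true := by decide +kernel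

theorem tabG2_eq : tabG2 = CTab.std chevG2 :=
  CTab.fast_eq chkLinkG2 fun i hi => by
    have h : i < 2 := hi
    interval_cases i <;> first
      | exact refTabG2_0
      | exact refTabG2_1

theorem stG2_0_ok : redG2.stateB chevG2 tabG2 0 stG2_0 = true := by decide +kernel

theorem stG2_1_ok : redG2.stateB chevG2 tabG2 1 stG2_1 = true := by decide +kernel

theorem stG2_2_ok : redG2.stateB chevG2 tabG2 2 stG2_2 = true := by decide +kernel

theorem stG2_3_ok : redG2.stateB chevG2 tabG2 3 stG2_3 = true := by decide +kernel

theorem stG2_4_ok : redG2.stateB chevG2 tabG2 4 stG2_4 = true := by decide +kernel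

theorem redG2_ok : redG2.checkB chevG2 (CTab.std chevG2) = true := by
  rw [← tabG2_eq]
  refine redCheck_of (s0 := stG2_0) rfl rfl rfl ?_
  simp only [redG2, List.zipIdx_cons, List.zipIdx_nil, Nat.zero_add, Nat.reduceAdd, List.forall_mem_cons]
  exact ⟨stG2_0_ok, stG2_1_ok, stG2_2_ok, stG2_3_ok, stG2_4_ok, List.forall_mem_nil _⟩

end Cfsg.Agent.Chev54
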