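import Cfsg.Agent.Chev54.InvRank
import Cfsg.Agent.Lib.ChevCore.GoodAll

/-!
The rank certificates of the representatives of the involutions in type G2.
-/

set_option autoImplicit false
set_option maxRecDepth 100000

namespace Cfsg.Agent.Chev54

open Cfsg.Lie

/-- The certificate for representative 0. -/
def rkG2_0 : RankCert where
  L := [11]
  cols := [0x1800, 64, 256, 512, 0, 0x400, 0, 0, 0, 0, 0, 0, 0, 0x800]
  P := [0, 1, 2, 3, 5, 13]
  C := [1, 2, 4, 8, 0, 16, 0, 0, 0, 0, 0, 0, 0, 32]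
  T := [2, 4, 8, 16, 32, 33]
  R := [6, 8, 9, 10, 11, 12]

theorem rkG2_0_ok : rkG2_0.checkB chevG2 = true := by decide +kernel

/-- The certificate for representative 1. -/
def rkG2_1 : RankCert where
  L := [9]
  cols := [0x488, 0x910, 0x2200, 0x400, 0x800, 0, 0, 0x400, 0x800, 0, 0, 0, 512, 0]
  P := [0, 1, 2, 3, 4, 12]
  C := [1, 2, 4, 8, 16, 0, 0, 8, 16, 0, 0, 0, 32, 0]
  T := [9, 18, 32, 8, 16, 36]
  R := [7, 8, 9, 10, 11, 13]

theorem rkG2_1_ok : rkG2_1.checkB chevG2 = true := by decide +kernel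

end Cfsg.Agent.Chev54
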