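import Cfsg.Agent.ChevGroup.Table.Tab
import Cfsg.Agent.Lib.ChevCore.Link

/-!
Certificates for the centraliser of a product of commuting root involutions: a table of the Weyl group
modulo the fundamental reflections fixing the roots, with the finite conditions used by the proof.
-/

set_option autoImplicit false

namespace Cfsg.Agent.Chev54

open Cfsg.Lie Cfsg.Agent.ChevCore Cfsg.Agent.ChevGroup

/-- `K` the roots of the involution, `S` the roots its conjugates under `B` can involve, `E` the triples
`(r, k, d)` with `[x_r, x_k]` moving the coordinate `d`, `R` the reflections, `P` coset representatives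
and `V` maps fixing `K`, all as byte tables, `nxt` the action on the representatives, `coB` an inverse
of the Cartan integers of `K` off `J`. -/
structure PairData where
  S : List ℕ
  K : List ℕ
  J : List ℕ
  E : List (ℕ × ℕ × ℕ)
  R : List ℕ
  V : List ℕ
  P : List ℕ
  nxt : List (List (ℕ × ℕ))
  coB : List (List ℤ)

variable (D : ChevalleyDatum) (X : PairData)

namespace PairData

/-- The first roots of the triples. -/
def eR : List ℕ := X.E.map Prod.fst

/-- The roots of height at least one. -/
noncomputable def posB (r : ℕ) : Bool := zPos (ht D r)

/-- The roots of the radical of `J`. -/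
noncomputable def radB (r : ℕ) : Bool :=
  posB D r && (List.range D.rank).any fun i => !X.J.contains i && !zIsZero (coef D r i)

/-- All commutator coefficients of the two roots are even. -/
def evB (a b : ℕ) : Bool :=
  decide (b ≠ D.neg a) && (D.commTerms a b).all fun c => decide ((2 : ℤ) ∣ c.2.1)

/-- All entries of the `x`-columns between the two roots are even. -/
def colB (a b : ℕ) : Bool :=
  decide (b ≠ D.neg a) && (a == b || (D.chainEntry a b).all fun e => decide ((2 : ℤ) ∣ e.2))

/-- The shape of the lists. -/
noncomputable def shapeB : Bool :=
  X.S.all (fun s => decide (s < D.nroots) && posB D s) &&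
  X.K.all (fun k => X.S.contains k) && decide X.S.Nodup &&
  X.J.all (fun j => decide (j < D.rank) && !X.eR.contains (D.simple j) &&
    X.K.all fun k => D.reflectRoot j k == k) &&
  X.E.all (fun e => decide (e.1 < D.nroots) && posB D e.1 && X.K.contains e.2.1 &&
    X.S.contains e.2.2 && !X.K.contains e.2.2) &&
  decide X.eR.Nodup && decide (X.E.map fun e => e.2.2).Nodup && decide X.K.Nodup

/-- The commutators of the roots of `E` with `S`, and of the other positive roots with `K`. -/
noncomputable def commB : Bool :=
  (List.range D.nroots).all fun r => !posB D r || X.S.all fun s =>
    if X.eR.contains r then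
      X.E.all fun e => if e.1 == r then
        (if s == e.2.1 then decide (r ≠ D.neg s) && decide (r ≠ s) &&
          decide (((D.commTerms s r).filter fun c => decide (c.1 = e.2.2)).length = 1) &&
          (D.commTerms s r).all (fun c => if c.1 = e.2.2 then
              decide (¬ (2 : ℤ) ∣ c.2.1 ∧ c.2.2.1 = 1 ∧ c.2.2.2 = 1) else decide ((2 : ℤ) ∣ c.2.1)) &&
          evB D e.2.2 r
        else evB D s r) else true
    else !X.K.contains s || evB D s r

/-- Negative fundamental roots of `J` are moved to positive ones. -/
noncomputable def negB : Bool :=
  X.J.all fun j => decide (D.reflectRoot j (D.simple j) = D.neg (D.simple j))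

/-- The maps in `V` fix `K` and preserve `S`, the radical and the roots of `E`. -/
noncomputable def goodB : Bool :=
  X.V.all fun v => (List.range D.nroots).all (fun r => decide (byteAt v r < D.nroots) &&
      (!radB D X r || radB D X (byteAt v r)) && (!X.eR.contains r || X.eR.contains (byteAt v r))) &&
    X.S.all (fun s => X.S.contains (byteAt v s) && X.S.any fun s' => byteAt v s' == s) &&
    X.K.all fun k => byteAt v k == k

/-- The reflections are right. -/
noncomputable def reflB : Bool :=
  (List.range D.rank).all fun i => (List.range D.nroots).all fun r =>
    byteAt (X.R.getD i 0) r == D.reflectRoot i r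

/-- The action of the reflections on the representatives. -/
noncomputable def nextB : Bool :=
  decide (X.nxt.length = X.P.length) && decide (0 < X.P.length) && decide (0 < X.V.length) &&
  (List.range D.nroots).all (fun r => byteAt (X.P.getD 0 0) r == r && byteAt (X.V.getD 0 0) r == r) &&
  (X.P.zip X.nxt).all fun pq => (List.range D.rank).all fun i =>
    let du := pq.2.getD i (0, 0)
    decide (du.1 < X.P.length) && decide (du.2 < X.V.length) &&
      (let pd := X.P.getD du.1 0
      let vu := X.V.getD du.2 0
      (List.range D.nroots).all fun r =>
        byteAt (X.R.getD i 0) (byteAt pq.1 r) == byteAt pd (byteAt vu r))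

/-- Outside the base coset the images of `S` and `K` are incompatible, and images of `S` commute. -/
noncomputable def condB : Bool :=
  X.P.zipIdx.all fun pc =>
    let im := X.S.map (byteAt pc.1)
    im.all (fun a => decide (a < D.nroots) && im.all fun b => colB D a b) &&
      (pc.2 == 0 || !(X.K.all (fun k => im.contains k) && X.K.all fun k => X.S.contains (byteAt pc.1 k)))

/-- The Cartan integers of `K` have an inverse off `J` and vanish on `J`. -/
def cartB : Bool :=
  (List.range D.rank).all fun i' =>
    if X.J.contains i' then X.K.all fun k => decide (D.cartan i' k = 0)
    else (List.range D.rank).all fun i => X.J.contains i ||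
      decide (∑ m : Fin X.K.length, (X.coB.getD i []).getD m.val 0 * D.cartan i' X.K[m] =
        if i = i' then 1 else 0)

/-- Some Cartan integer of each root is odd. -/
def oddB : Bool :=
  (List.range D.nroots).all fun r => (List.range D.rank).any fun i => decide (¬ (2 : ℤ) ∣ D.cartan i r)

/-- The whole certificate. -/
noncomputable def checkB : Bool :=
  shapeB D X && commB D X && negB D X && goodB D X && reflB D X && nextB D X && condB D X && cartB D X &&
    oddB D

end PairData

end Cfsg.Agent.Chev54
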