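import Cfsg.Agent.Chev54.PairCentr

/-!
The centraliser of a product of commuting root involutions is generated by root subgroups.
-/

set_option autoImplicit false

namespace Cfsg.Agent.Chev54

open Cfsg.Lie Cfsg.Agent.ChevCore Cfsg.Agent.ChevGroup

variable {D : ChevalleyDatum} {F : Type*} [Field F] [CharP F 2] {X : PairData}

omit [CharP F 2] in
lemma cw_tWord (hk : X.K.Nodup) (q : ℕ) : cw (tWord X F) q = if q ∈ X.K then 1 else 0 := by
  rw [tWord]
  generalize X.K = K at hk ⊢
  induction K with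
  | nil => simp
  | cons k K ih =>
    obtain ⟨h1, h2⟩ := List.nodup_cons.1 hk
    rw [List.map_cons, cw_cons, ih h2]
    by_cases h : k = q
    · subst h; simp [h1]
    · simp [h, Ne.symm h]

lemma cw_flatMap_step (r d k : ℕ) (a : F) (L : List (ℕ × F)) (q : ℕ) :
    cw (L.flatMap fun p => if p.1 = k then [p, (d, a * p.2)] else [p]) q =
      cw L q + if d = q then a * cw L k else 0 := by
  induction L with
  | nil => simp
  | cons p L ih =>
    rw [List.flatMap_cons, cw_append, ih, cw_cons, cw_cons]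
    by_cases hk : p.1 = k
    · rw [if_pos hk, if_pos hk, cw_cons, cw_cons, cw_nil]
      by_cases hd : d = q
      · simp [hd]; ring
      · simp [hd]
    · rw [if_neg hk, if_neg hk, cw_cons, cw_nil, zero_add, add_zero]
      ring

lemma etaWord_cast (w : List ℕ) (r : ℕ) : ((etaWord D w r : ℤ) : F) = 1 := by
  have h : ((etaWord D w r : ℤ) : F) * (etaWord D w r : F) = 1 := by
    rw [← Int.cast_mul, Good.etaWord_sq, Int.cast_one]
  rcases mul_self_eq_one_iff.1 h with h | h
  · exact h
  · rw [h, CharTwo.neg_eq]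

variable (hU : UGood D) (hX : PairOK D X)
include hU hX

/-- Conjugation of a word on `S` by a Weyl element. -/
lemma nw_conj_word {w : List ℕ} (hw : ∀ i ∈ w, i < D.rank) {L : List (ℕ × F)}
    (hL : ∀ p ∈ L, p.1 < D.nroots) :
    nw D F w * wordG D F L * (nw D F w)⁻¹ = wordG D F (L.map fun p => (actW D w p.1, p.2)) := by
  rw [conj_wordG _ (fun p => [(actW D w p.1, p.2)]) L fun p hp => ?_]
  · congr 1
    induction L with
    | nil => rfl
    | cons p L ih => simp [ih fun p' hp' => hL p' (List.mem_cons_of_mem _ hp')]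
  · rw [hU.toCommGood.toGood.nw_conj_x hw (hL p hp), etaWord_cast, one_mul]
    simp [wordG]

/-- A simple Weyl element of `J` commutes with the involution. -/
lemma nw_comm {w : List ℕ} (hw : ∀ i ∈ w, i ∈ X.J) : Commute (nw D F w) (tElt X D F) := by
  induction w with
  | nil => exact Commute.one_left _
  | cons j w ih =>
    have e : nw D F (j :: w) = ng D F (D.simple j) 1 * nw D F w := by simp [nw]
    rw [e]
    refine Commute.mul_left ?_ (ih fun i hi => hw i (List.mem_cons_of_mem _ hi))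
    obtain ⟨hj, -, hfix⟩ := hX.j_ok j (hw j (List.mem_cons_self ..))
    have h := nw_conj_word (F := F) hU hX (w := [j]) (by simpa using hj) (L := tWord X F) fun p hp => by
      obtain ⟨k, hk, rfl⟩ := List.mem_map.1 hp
      exact (hX.s_pos k (hX.k_sub k hk)).1
    rw [show (tWord X F).map (fun p => (actW D [j] p.1, p.2)) = tWord X F by
      rw [tWord, List.map_map]
      refine List.map_congr_left fun k hk => ?_
      simp [actW, hfix k hk], show nw D F [j] = ng D F (D.simple j) 1 by simp [nw]] at h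
    exact mul_inv_eq_iff_eq_mul.1 h

lemma xg_simple_mem {j : ℕ} (hj : j ∈ X.J) (t : F) :
    xg D F (D.simple j) t ∈ XS D F (mSet D X) ∧ xg D F (D.neg (D.simple j)) t ∈ XS D F (mSet D X) := by
  have hG := hU.toCommGood.toGood
  obtain ⟨hjr, hje, -⟩ := hX.j_ok j hj
  have h := hG.simple_lt hjr
  exact ⟨xg_mem_XS h (show D.simple j ∈ mSet D X from ⟨h, .inl ⟨(hG.ht_simple hjr).ge, hje⟩⟩) t,
    xg_mem_XS (hG.neg_lt h) (show D.neg (D.simple j) ∈ mSet D X from
      ⟨hG.neg_lt h, .inr ⟨j, hj, rfl⟩⟩) t⟩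

lemma nw_mem {w : List ℕ} (hw : ∀ i ∈ w, i ∈ X.J) : nw D F w ∈ XS D F (mSet D X) := by
  refine list_prod_mem fun y hy => ?_
  obtain ⟨j, hj, rfl⟩ := List.mem_map.1 hy
  exact mul_mem (mul_mem (xg_simple_mem hU hX (hw j hj) _).1 (xg_simple_mem hU hX (hw j hj) _).2)
    (xg_simple_mem hU hX (hw j hj) _).1

lemma tElt_mem_group : tElt X D F ∈ D.group F := by
  refine list_prod_mem fun y hy => ?_
  obtain ⟨p, -, rfl⟩ := List.mem_map.1 hy
  exact hU.toCommGood.toGood.xg_mem_group _ _

lemma pos_comm {r : ℕ} (hr : r < D.nroots) (hr1 : 1 ≤ ht D r) (hne : r ∉ X.eR) (u : F) :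
    Commute (xg D F r u) (tElt X D F) := by
  refine Commute.list_prod_right _ _ fun y hy => ?_
  obtain ⟨p, hp, rfl⟩ := List.mem_map.1 hy
  obtain ⟨k, hk, rfl⟩ := List.mem_map.1 hp
  exact (xg_commute hU.toCommGood (hX.s_pos k (hX.k_sub k hk)).1 hr (hX.comm_k r hr hr1 hne k hk) 1 u).symm

lemma mSet_comm {g : GL D.Idx F} (hg : g ∈ XS D F (mSet D X)) : Commute g (tElt X D F) := by
  have hG := hU.toCommGood.toGood
  induction hg using Subgroup.closure_induction with
  | mem y hy =>
    obtain ⟨r, u, hr, ⟨-, hm⟩, rfl⟩ := hy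
    rcases hm with ⟨h1, h2⟩ | ⟨j, hj, rfl⟩
    · exact pos_comm hU hX hr h1 h2 u
    · obtain ⟨hjr, hje, -⟩ := hX.j_ok j hj
      have hp := hG.simple_lt hjr
      have h := hG.nw_conj_x (F := F) (w := [j]) (by simpa using hjr) hp u
      rw [etaWord_cast, one_mul, show actW D [j] (D.simple j) = D.neg (D.simple j) from
        hG.refl_simple hjr] at h
      rw [← h]
      have hn := nw_comm (F := F) hU hX (w := [j]) (by simpa using hj)
      exact (hn.mul_left (pos_comm hU hX hp (hG.ht_simple hjr).ge hje u)).mul_left hn.inv_left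
  | one => exact Commute.one_left _
  | mul a b _ _ ha hb => exact ha.mul_left hb
  | inv a _ ha => exact ha.inv_left

/-- An element of `B` is a torus element, a product over the roots of `E`, and an element of `M`. -/
lemma borel_decomp {b : GL D.Idx F} (hb : b ∈ D.borelSubgroup F) :
    ∃ (c : Fin D.rank → Fˣ) (a : ℕ → F), ∃ m ∈ XS D F (mSet D X),
      b = tau D F c * prodL D F X.eR a * m ∧ prodL D F X.eR a ∈ XS D F (htGe D 1) := by
  have hG := hU.toCommGood.toGood
  obtain ⟨v, hv, h, hh, rfl⟩ := hG.mem_borel hb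
  rw [hG.posUnipotent_eq] at hv
  have hu : h⁻¹ * v * h ∈ XS D F (htGe D 1) := by
    have := (Subgroup.mem_normalizer_iff.1 (hG.H_le_normalizer_XS (htGe D 1) (inv_mem hh)) v).1 hv
    simpa using this
  rw [hG.diagonalSubgroup_eq_range] at hh
  obtain ⟨c, rfl⟩ := hh
  let oth := (posL (D := D)).filter fun r => !X.eR.contains r
  have hmem : ∀ r, r ∈ X.eR ++ oth ↔ r < D.nroots ∧ 1 ≤ ht D r := by
    intro r
    simp only [oth, List.mem_append, List.mem_filter, Bool.not_eq_true', List.contains_eq_mem,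
      decide_eq_false_iff_not, mem_posL' hU]
    refine ⟨fun h => h.elim (fun h => ?_) And.left, fun h => (em (r ∈ X.eR)).imp id fun h' => ⟨h, h'⟩⟩
    obtain ⟨e, he, rfl⟩ := List.mem_map.1 h
    exact ⟨(hX.e_ok e he).1, (hX.e_ok e he).2.1⟩
  have hnd : (X.eR ++ oth).Nodup :=
    List.nodup_append.2 ⟨hX.e_nodup.1, posL_nodup.filter _, fun a ha b hb e => by
      subst e; simp [oth] at hb; exact hb.2 ha⟩
  obtain ⟨a, -, e⟩ := hU.exists_prod hnd hmem hu
  have hsplit : prodL D F (X.eR ++ oth) a = prodL D F X.eR a * prodL D F oth a := by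
    simp [prodL]
  refine ⟨c, a, prodL D F oth a, list_prod_mem fun y hy => ?_, ?_,
    hU.prodL_mem (fun r hr => (hmem r).1 (List.mem_append_left _ hr)) a⟩
  · obtain ⟨r, hr, rfl⟩ := List.mem_map.1 hy
    have h2 : r < D.nroots ∧ 1 ≤ ht D r := (hmem r).1 (List.mem_append_right _ hr)
    simp [oth] at hr
    exact xg_mem_XS h2.1 (show r ∈ mSet D X from ⟨h2.1, .inl ⟨h2.2, hr.2⟩⟩) _
  · rw [mul_assoc, ← hsplit, e]; group

lemma e_conj (a : ℕ → F) (E' : List (ℕ × ℕ × ℕ)) (hE : ∀ e ∈ E', e ∈ X.E) :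
    ∃ L : List (ℕ × F), (∀ p ∈ L, p.1 ∈ X.S) ∧
      prodL D F (E'.map Prod.fst) a * tElt X D F * (prodL D F (E'.map Prod.fst) a)⁻¹ = wordG D F L ∧
      ∀ q, cw L q = (if q ∈ X.K then 1 else 0) +
        ((E'.filter fun e => e.2.2 = q).map fun e => a e.1).sum := by
  have hC := hU.toCommGood
  have hG := hC.toGood
  induction E' with
  | nil =>
    refine ⟨tWord X F, fun p hp => ?_, by simp [prodL, tElt], fun q => by simp [cw_tWord hX.k_nodup]⟩
    obtain ⟨k, hk, rfl⟩ := List.mem_map.1 hp
    exact hX.k_sub k hk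
  | cons e E' ih =>
    obtain ⟨L, hLS, hconj, hcw⟩ := ih fun e' he' => hE e' (List.mem_cons_of_mem _ he')
    obtain ⟨r, k, d⟩ := e
    have he := hE _ (List.mem_cons_self ..)
    obtain ⟨hr, hr1, hk, hd, hdK⟩ := hX.e_ok _ he
    refine ⟨L.flatMap fun p => if p.1 = k then [p, (d, a r * p.2)] else [p], fun p hp => ?_, ?_, fun q => ?_⟩
    · obtain ⟨p', hp', hp⟩ := List.mem_flatMap.1 hp
      by_cases h : p'.1 = k
      · rw [if_pos h] at hp
        simp only [List.mem_cons, List.not_mem_nil, or_false] at hp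
        rcases hp with rfl | rfl
        · exact hLS _ hp'
        · exact hd
      · rw [if_neg h, List.mem_singleton] at hp
        exact hp ▸ hLS _ hp'
    · rw [List.map_cons, prodL_cons]
      rw [show xg D F r (a r) * prodL D F (E'.map Prod.fst) a * tElt X D F *
        (xg D F r (a r) * prodL D F (E'.map Prod.fst) a)⁻¹ = xg D F r (a r) *
          (prodL D F (E'.map Prod.fst) a * tElt X D F * (prodL D F (E'.map Prod.fst) a)⁻¹) *
            (xg D F r (a r))⁻¹ by group, hconj]
      refine conj_wordG _ _ L fun p hp => ?_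
      obtain ⟨hs, hs1⟩ := hX.s_pos _ (hLS p hp)
      obtain ⟨hne, heq⟩ := hX.comm_e _ he p.1 (hLS p hp)
      by_cases h : p.1 = k
      · rw [if_pos h]
        obtain ⟨h1, h2, h3, h4, h5⟩ := heq h
        have hw : wordG D F (D.commWord F p.1 r p.2 (a r)) = xg D F d (a r * p.2) := by
          rw [wordG, ChevalleyDatum.commWord, List.map_map,
            prod_eq_filter _ (fun c => decide (c.1 = d)) _ fun c hc hcd => by
              show xg D F c.1 ((c.2.1 : F) * _ * _) = 1
              rw [cast_even ((h5 c hc).2 (by simpa using hcd)), zero_mul, zero_mul, hG.xg_zero]]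
          obtain ⟨c, hc⟩ := List.length_eq_one_iff.1 h4
          have hc' : c ∈ (D.commTerms p.1 r).filter fun c => decide (c.1 = d) := by
            rw [hc]; exact List.mem_singleton_self c
          rw [List.mem_filter] at hc'
          have hcd : c.1 = d := by simpa using hc'.2
          obtain ⟨g1, g2, g3⟩ := (h5 c hc'.1).1 hcd
          rw [hc, List.map_singleton, List.prod_singleton]
          show xg D F c.1 ((c.2.1 : F) * (-p.2) ^ c.2.2.1 * (a r) ^ c.2.2.2) = _
          rw [cast_odd g1, g2, g3, CharTwo.neg_eq, hcd]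
          congr 1
          ring
        rw [hC.xg_comm hs hr h2 h1, hw]
        have hcd := xg_commute (F := F) hC (hX.s_pos d hd).1 hr h3 (a r * p.2) (a r)
        rw [show wordG D F [p, (d, a r * p.2)] = xg D F p.1 p.2 * xg D F d (a r * p.2) by simp [wordG],
          mul_assoc (xg D F p.1 p.2) (xg D F r (a r)), ← hcd.eq]
        group
      · rw [if_neg h]
        have hcd := xg_commute (F := F) hC hs hr (hne h) p.2 (a r)
        rw [← hcd.eq, mul_inv_cancel_right]
        simp [wordG]
    · rw [cw_flatMap_step r d k (a r) L q, hcw q, hcw k, if_pos hk]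
      have hkd : ((E'.filter fun e => e.2.2 = k).map fun e => a e.1).sum = 0 := by
        rw [List.filter_eq_nil_iff.2 fun e' he' h => (hX.e_ok e' (hE e' (List.mem_cons_of_mem _ he'))).2.2.2.2
          ((of_decide_eq_true h : e'.2.2 = k).symm ▸ hk)]
        rfl
      rw [hkd, add_zero, mul_one]
      by_cases h : d = q
      · subst h; simp; ring
      · simp [h]

/-- The conjugate of the involution by an element of `B`. -/
lemma borel_conj {b : GL D.Idx F} {c : Fin D.rank → Fˣ} {a : ℕ → F} {m : GL D.Idx F}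
    (hm : m ∈ XS D F (mSet D X)) (e : b = tau D F c * prodL D F X.eR a * m) :
    ∃ L : List (ℕ × F), (∀ p ∈ L, p.1 ∈ X.S) ∧ b * tElt X D F * b⁻¹ = wordG D F L ∧
      ∀ q, q ∈ X.S → cw L q = ((∏ i : Fin D.rank, c i ^ D.cartan i.val q : Fˣ) : F) *
        ((if q ∈ X.K then 1 else 0) + ((X.E.filter fun e => e.2.2 = q).map fun e => a e.1).sum) := by
  have hG := hU.toCommGood.toGood
  obtain ⟨L, hLS, hconj, hcw⟩ := e_conj hU hX a X.E fun _ h => h
  let χ : ℕ → F := fun q => ((∏ i : Fin D.rank, c i ^ D.cartan i.val q : Fˣ) : F)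
  refine ⟨L.map fun p => (p.1, χ p.1 * p.2), fun p hp => ?_, ?_, fun q hq => ?_⟩
  · obtain ⟨p', hp', rfl⟩ := List.mem_map.1 hp
    exact hLS p' hp'
  · have e1 : b * tElt X D F * b⁻¹ = tau D F c *
        (prodL D F X.eR a * tElt X D F * (prodL D F X.eR a)⁻¹) * (tau D F c)⁻¹ := by
      have hmc := (mSet_comm hU hX hm).eq
      rw [e]
      calc tau D F c * prodL D F X.eR a * m * tElt X D F * (tau D F c * prodL D F X.eR a * m)⁻¹
          = tau D F c * prodL D F X.eR a * (m * tElt X D F) * m⁻¹ *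
              (tau D F c * prodL D F X.eR a)⁻¹ := by group
        _ = tau D F c * prodL D F X.eR a * (tElt X D F * m) * m⁻¹ *
              (tau D F c * prodL D F X.eR a)⁻¹ := by rw [hmc]
        _ = _ := by group
    rw [e1, show prodL D F X.eR a = prodL D F (X.E.map Prod.fst) a from rfl, hconj,
      conj_wordG _ (fun p => [(p.1, χ p.1 * p.2)]) L fun p hp => by
        rw [hG.tau_conj_x c (hX.s_pos _ (hLS p hp)).1]
        simp [wordG, tauW, χ]]
    congr 1
    clear hconj hcw e1
    induction L with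
    | nil => rfl
    | cons p L ih => simp [ih fun p' hp' => hLS p' (List.mem_cons_of_mem _ hp')]
  · rw [cw_map_scale χ, hcw q]

/-- The elements of `B` centralising the involution lie in `M`. -/
lemma borel_centralizer {b : GL D.Idx F} (hb : b ∈ D.borelSubgroup F)
    (hc : Commute b (tElt X D F)) : b ∈ XS D F (mSet D X) := by
  classical
  have hG := hU.toCommGood.toGood
  obtain ⟨c, a, m, hm, e, -⟩ := borel_decomp hU hX hb
  obtain ⟨L, hLS, hconj, hcw⟩ := borel_conj hU hX hm e
  rw [hc.eq, mul_inv_cancel_right] at hconj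
  have hev : ∀ {L : List (ℕ × F)}, (∀ p ∈ L, p.1 ∈ X.S) →
      ∀ p ∈ L, ∀ p' ∈ L, PairData.colB D p.1 p'.1 = true := by
    intro L hL p hp p' hp'
    obtain ⟨n, hn, -⟩ := hX.word [] (by simp)
    have := (hX.cond 0 (by omega)).1 p.1 (hL p hp) p'.1 (hL p' hp')
    rwa [hX.base _ (hX.s_pos _ (hL p hp)).1, hX.base _ (hX.s_pos _ (hL p' hp')).1] at this
  have htS : ∀ p ∈ tWord X F, p.1 ∈ X.S := fun p hp => by
    obtain ⟨k, hk, rfl⟩ := List.mem_map.1 hp; exact hX.k_sub k hk
  have hkey : ∀ q ∈ X.S, cw L q = if q ∈ X.K then 1 else 0 := by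
    intro q hq
    have hqn := (hX.s_pos q hq).1
    obtain ⟨i, hi, hodd⟩ := hX.odd q hqn
    have h1 := wordG_entry hU.toCommGood (fun p hp => (hX.s_pos _ (hLS p hp)).1) (hev hLS) ⟨q, hqn⟩ ⟨i, hi⟩
    have h2 := wordG_entry hU.toCommGood (fun p hp => (hX.s_pos _ (htS p hp)).1) (hev htS) ⟨q, hqn⟩ ⟨i, hi⟩
    rw [← hconj] at h1
    have h3 := h1.symm.trans h2
    rw [cast_odd hodd, cw_tWord hX.k_nodup, CharTwo.neg_eq, one_mul, one_mul] at h3
    exact h3
  have hK : ∀ k ∈ X.K, (∏ i : Fin D.rank, c i ^ D.cartan i.val k : Fˣ) = 1 := by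
    intro k hk
    have h := hkey k (hX.k_sub k hk)
    rw [hcw k (hX.k_sub k hk), if_pos hk, List.filter_eq_nil_iff.2 fun e' he' h' =>
      (hX.e_ok e' he').2.2.2.2 ((of_decide_eq_true h' : e'.2.2 = k).symm ▸ hk)] at h
    exact Units.ext (by simpa using h)
  have ha : ∀ e' ∈ X.E, a e'.1 = 0 := by
    intro e' he'
    obtain ⟨-, -, -, hd, hdK⟩ := hX.e_ok e' he'
    have h := hkey _ hd
    rw [hcw _ hd, if_neg hdK, zero_add] at h
    have hf : X.E.filter (fun e => decide (e.2.2 = e'.2.2)) = [e'] := by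
      have : ∀ l : List (ℕ × ℕ × ℕ), (l.map fun e => e.2.2).Nodup → e' ∈ l →
          l.filter (fun e => decide (e.2.2 = e'.2.2)) = [e'] := by
        intro l
        induction l with
        | nil => simp
        | cons x l ih =>
          intro hn hm
          rw [List.map_cons, List.nodup_cons] at hn
          by_cases hx : x.2.2 = e'.2.2
          · have : e' ∉ l := fun h => hn.1 (hx ▸ List.mem_map.2 ⟨e', h, rfl⟩)
            obtain rfl : e' = x := (List.mem_cons.1 hm).resolve_right this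
            rw [List.filter_cons_of_pos (by simp), List.filter_eq_nil_iff.2 fun y hy h =>
              hn.1 (List.mem_map.2 ⟨y, hy, of_decide_eq_true h⟩)]
          · rw [List.filter_cons_of_neg (by simpa using hx)]
            exact ih hn.2 ((List.mem_cons.1 hm).resolve_left fun h => hx (h ▸ rfl))
      exact this X.E hX.e_nodup.2 he'
    rw [hf, List.map_singleton, List.sum_singleton] at h
    exact (mul_eq_zero.1 h).resolve_left (Units.ne_zero _)
  have he1 : prodL D F X.eR a = 1 := List.prod_eq_one fun y hy => by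
    obtain ⟨r, hr, rfl⟩ := List.mem_map.1 hy
    obtain ⟨e', he', rfl⟩ := List.mem_map.1 hr
    rw [ha e' he', hG.xg_zero]
  rw [e, he1, mul_one]
  refine mul_mem ?_ hm
  -- the torus part is supported on `J`
  have hoff : ∀ i : Fin D.rank, i.val ∉ X.J → c i = 1 := by
    intro i hi
    have h1 : c i = ∏ i' : Fin D.rank, c i' ^
        (∑ l : Fin X.K.length, (X.coB.getD i.val []).getD l.val 0 * D.cartan i'.val X.K[l]) := by
      rw [Finset.prod_eq_single i]
      · rw [(hX.cart i.val i.isLt).2 hi i.val i.isLt hi, if_pos rfl, zpow_one]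
      · intro i' _ hne
        by_cases hj : i'.val ∈ X.J
        · rw [Finset.sum_eq_zero fun l _ => by
            rw [Fin.getElem_fin, (hX.cart i'.val i'.isLt).1 hj _ (List.getElem_mem l.isLt)]; simp, zpow_zero]
        · rw [(hX.cart i'.val i'.isLt).2 hj i.val i.isLt hi, if_neg (fun h => hne (Fin.ext h.symm)), zpow_zero]
      · simp
    rw [h1]
    calc ∏ i' : Fin D.rank, c i' ^
          (∑ l : Fin X.K.length, (X.coB.getD i.val []).getD l.val 0 * D.cartan i'.val X.K[l])
        = ∏ i' : Fin D.rank, ∏ l : Fin X.K.length,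
            c i' ^ ((X.coB.getD i.val []).getD l.val 0 * D.cartan i'.val X.K[l]) :=
          Finset.prod_congr rfl fun i' _ => ChevCore.zpow_sum' _ _ _
      _ = ∏ l : Fin X.K.length, ∏ i' : Fin D.rank,
            c i' ^ ((X.coB.getD i.val []).getD l.val 0 * D.cartan i'.val X.K[l]) := Finset.prod_comm
      _ = 1 := Finset.prod_eq_one fun l _ => by
            simp_rw [mul_comm ((X.coB.getD i.val []).getD l.val 0), zpow_mul]
            rw [Finset.prod_zpow, Fin.getElem_fin, hK _ (List.getElem_mem l.isLt), one_zpow]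
  rw [hG.tau_eq_prod]
  refine list_prod_mem fun y hy => ?_
  obtain ⟨i, rfl⟩ := List.mem_ofFn.1 hy
  by_cases hj : i.val ∈ X.J
  · have h := xg_simple_mem (F := F) hU hX hj
    exact mul_mem (mul_mem (mul_mem (h _).1 (h _).2) (h _).1) (mul_mem (mul_mem (h _).1 (h _).2) (h _).1)
  · rw [hoff i hj, Units.val_one, hg, ← hG.ng_inv (D.simple i.val) 1, mul_inv_cancel]
    exact one_mem _

/-- The centraliser of the involution. -/
theorem centralizer_pair (hD : D ∈ [chevG2, chevB2, chevD4, chevF4, chevE6, chevE7, chevE8]) :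
    D.group F ⊓ Subgroup.centralizer {tElt X D F} = XS D F (mSet D X) := by
  classical
  have hC := hU.toCommGood
  have hG := hC.toGood
  have hs := chkSupp_of_mem hD
  refine le_antisymm (fun g hg => ?_) (le_inf ?_ fun g hg => ?_)
  rotate_left
  · exact XS_le fun r t _ _ => hG.xg_mem_group r t
  · rw [Subgroup.mem_centralizer_singleton_iff]; exact (mSet_comm hU hX hg).eq
  obtain ⟨hgG, hgc⟩ := Subgroup.mem_inf.1 hg
  rw [Subgroup.mem_centralizer_singleton_iff] at hgc
  obtain ⟨b, hb, w, hw, hred, b', hb', rfl⟩ := exists_bruhat_mem hD hgG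
  obtain ⟨c1, a1, m1, hm1, e1, -⟩ := borel_decomp hU hX hb'
  obtain ⟨L1, hL1, hb1, hcw1⟩ := borel_conj hU hX hm1 e1
  obtain ⟨c2, a2, m2, hm2, e2, -⟩ := borel_decomp hU hX (inv_mem hb)
  obtain ⟨L2, hL2, hb2, hcw2⟩ := borel_conj hU hX hm2 e2
  have hK : ∀ {c : Fin D.rank → Fˣ} {a : ℕ → F} {L : List (ℕ × F)},
      (∀ q, q ∈ X.S → cw L q = ((∏ i : Fin D.rank, c i ^ D.cartan i.val q : Fˣ) : F) *
        ((if q ∈ X.K then 1 else 0) + ((X.E.filter fun e => e.2.2 = q).map fun e => a e.1).sum)) →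
      ∀ k ∈ X.K, cw L k ≠ 0 := by
    intro c a L h k hk
    rw [h k (hX.k_sub k hk), if_pos hk, List.filter_eq_nil_iff.2 fun e' he' h' =>
      (hX.e_ok e' he').2.2.2.2 ((of_decide_eq_true h' : e'.2.2 = k).symm ▸ hk), List.map_nil,
      List.sum_nil, add_zero, mul_one]
    exact Units.ne_zero _
  have hlt : ∀ {L : List (ℕ × F)}, (∀ p ∈ L, p.1 ∈ X.S) → ∀ p ∈ L, p.1 < D.nroots :=
    fun h p hp => (hX.s_pos _ (h p hp)).1
  obtain ⟨n, hn, π, hπ, hact⟩ := hX.word w hw
  have heq : wordG D F (L1.map fun p => (actW D w p.1, p.2)) = wordG D F L2 := by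
    rw [← nw_conj_word hU hX hw (hlt hL1), ← hb1, ← hb2, inv_inv]
    calc nw D F w * (b' * tElt X D F * b'⁻¹) * (nw D F w)⁻¹
        = b⁻¹ * (b * nw D F w * b' * tElt X D F) * (nw D F w * b')⁻¹ := by group
      _ = b⁻¹ * (tElt X D F * (b * nw D F w * b')) * (nw D F w * b')⁻¹ := by rw [hgc]
      _ = b⁻¹ * tElt X D F * b := by group
  have hinj : ∀ r r', r < D.nroots → r' < D.nroots → actW D w r = actW D w r' → r = r' := by
    intro r r' hr hr' e
    have := congrArg (actW D w.reverse) e
    rwa [show w = w.reverse.reverse from (List.reverse_reverse w).symm,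
      List.reverse_reverse w.reverse, hG.actW_reverse (fun i hi => hw i (List.mem_reverse.1 hi)) hr,
      hG.actW_reverse (fun i hi => hw i (List.mem_reverse.1 hi)) hr'] at this
  have hPS : ∀ s ∈ X.S, actW D w s = byteAt (X.P.getD n 0) (π s) := fun s hs => hact s (hX.s_pos s hs).1
  have key : ∀ q < D.nroots, cw (L1.map fun p => (actW D w p.1, p.2)) q = cw L2 q := by
    intro q hq
    obtain ⟨i, hi, hodd⟩ := hX.odd q hq
    have h1 := wordG_entry hC (L := L1.map fun p => (actW D w p.1, p.2))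
      (fun p hp => by
        obtain ⟨p', hp', rfl⟩ := List.mem_map.1 hp
        exact hG.actW_lt hw (hlt hL1 p' hp'))
      (fun p hp p' hp' => by
        obtain ⟨x, hx, rfl⟩ := List.mem_map.1 hp
        obtain ⟨y, hy, rfl⟩ := List.mem_map.1 hp'
        dsimp only
        rw [hPS _ (hL1 x hx), hPS _ (hL1 y hy)]
        exact (hX.cond n hn).1 _ (hπ.2.1 _ (hL1 x hx)).1 _ (hπ.2.1 _ (hL1 y hy)).1) ⟨q, hq⟩ ⟨i, hi⟩
    have h2 := wordG_entry hC (hlt hL2) (fun p hp p' hp' => by
      obtain ⟨m, hm, -⟩ := hX.word [] (by simp)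
      have := (hX.cond 0 (by omega)).1 p.1 (hL2 p hp) p'.1 (hL2 p' hp')
      rwa [hX.base _ (hlt hL2 p hp), hX.base _ (hlt hL2 p' hp')] at this) ⟨q, hq⟩ ⟨i, hi⟩
    rw [heq] at h1
    have h3 := h1.symm.trans h2
    rw [cast_odd hodd] at h3
    simpa using h3
  have hn0 : n = 0 := by
    refine ((hX.cond n hn).2).resolve_right fun hnot => hnot ⟨fun k hk => ?_, fun k hk => ?_⟩
    · have hne := hK hcw2 k hk
      rw [← key k (hX.s_pos k (hX.k_sub k hk)).1] at hne
      obtain ⟨p, hp, hpk⟩ := exists_of_cw_ne hne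
      obtain ⟨p', hp', rfl⟩ := List.mem_map.1 hp
      refine ⟨π p'.1, (hπ.2.1 _ (hL1 p' hp')).1, ?_⟩
      rw [← hPS _ (hL1 p' hp')]; exact hpk
    · have hkn := (hX.s_pos k (hX.k_sub k hk)).1
      have hne := hK hcw1 k hk
      rw [← cw_map_root (actW D w) (fun p hp e => hinj _ _ (hlt hL1 p hp) hkn e),
        key _ (hG.actW_lt hw hkn)] at hne
      obtain ⟨p, hp, hpk⟩ := exists_of_cw_ne hne
      have : byteAt (X.P.getD n 0) k = p.1 := by
        rw [hpk, hPS k (hX.k_sub k hk), hπ.2.2 k hk]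
      exact this ▸ hL2 p hp
  subst hn0
  have hwπ : ∀ r < D.nroots, actW D w r = π r := fun r hr => by
    rw [hact r hr, hX.base _ (hπ.1 r hr).1]
  -- the Weyl element normalises the radical, so the word lies in `J`
  let J : Set ℕ := {j | j ∈ X.J}
  have hrad : ∀ r, r < D.nroots → (r ∈ radJ D J ↔ PairData.radB D X r = true) := by
    intro r _
    simp only [radJ, subJ, PairData.radB, PairData.posB, Bool.and_eq_true, zPos_iff, List.any_eq_true,
      List.mem_range, Set.mem_setOf_eq, not_forall, List.contains_eq_mem, Bool.not_eq_true',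
      decide_eq_false_iff_not, ← Bool.not_eq_true, zIsZero_iff, J, exists_prop]
    exact and_congr (by omega) ⟨fun ⟨i, h1, h2, h3⟩ => ⟨i, h1, by simpa using h2, h3⟩, fun ⟨i, h1, h2, h3⟩ => ⟨i, h1, by simpa using h2, h3⟩⟩
  have hsurj : ∀ r < D.nroots, PairData.radB D X r = true →
      ∃ s < D.nroots, PairData.radB D X s = true ∧ actW D w s = r := by
    intro r hr h
    let T := (Finset.range D.nroots).filter fun s => PairData.radB D X s = true
    have hmaps : Set.MapsTo (actW D w) T T := fun s hs => by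
      simp only [T, Finset.coe_filter, Set.mem_setOf_eq, Finset.mem_range] at hs ⊢
      exact ⟨hG.actW_lt hw hs.1, by rw [hwπ s hs.1]; exact (hπ.1 s hs.1).2.1 hs.2⟩
    have hsj := Finset.surjOn_of_injOn_of_card_le (actW D w) hmaps
      (fun x hx y hy e => by
        simp only [T, Finset.coe_filter, Set.mem_setOf_eq, Finset.mem_range] at hx hy
        exact hinj x y hx.1 hy.1 e) le_rfl
    obtain ⟨s, hs, e⟩ := hsj (show r ∈ (T : Set ℕ) by simp [T, hr, h])
    simp only [T, Finset.coe_filter, Set.mem_setOf_eq, Finset.mem_range] at hs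
    exact ⟨s, hs.1, hs.2, e⟩
  have hnorm : nw D F w ∈ Subgroup.normalizer (D.unipotentRadical F J : Set (GL D.Idx F)) := by
    rw [hG.unipotentRadical_eq hs, Subgroup.mem_normalizer_iff]
    have hfw : ∀ y ∈ XS D F (radJ D J), nw D F w * y * (nw D F w)⁻¹ ∈ XS D F (radJ D J) ∧
        (nw D F w)⁻¹ * y * nw D F w ∈ XS D F (radJ D J) := by
      intro y hy
      induction hy using Subgroup.closure_induction with
      | mem y hy =>
        obtain ⟨r, u, hr, hrJ, rfl⟩ := hy
        constructor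
        · rw [hG.nw_conj_x hw hr, etaWord_cast, one_mul, hwπ r hr]
          exact xg_mem_XS (hπ.1 r hr).1 ((hrad _ (hπ.1 r hr).1).2 ((hπ.1 r hr).2.1 ((hrad r hr).1 hrJ))) _
        · obtain ⟨s, hs', hsr, e⟩ := hsurj r hr ((hrad r hr).1 hrJ)
          have h := hG.nw_conj_x (F := F) hw hs' u
          rw [etaWord_cast, one_mul, e] at h
          rw [← h]
          convert xg_mem_XS (F := F) hs' ((hrad s hs').2 hsr) u using 1
          group
      | one => simp
      | mul x y _ _ hx hy =>
        constructor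
        · convert mul_mem hx.1 hy.1 using 1; group
        · convert mul_mem hx.2 hy.2 using 1; group
      | inv x _ hx =>
        constructor
        · convert inv_mem hx.1 using 1; group
        · convert inv_mem hx.2 using 1; group
    refine fun y => ⟨fun hy => (hfw y hy).1, fun hy => ?_⟩
    have := (hfw _ hy).2
    simpa [mul_assoc] using this
  have hwJ : ∀ i ∈ w, i ∈ X.J := hC.word_in_J hs J w hw hred hnorm
  -- move the Weyl element to the right
  have hTH : ∀ y ∈ D.diagonalSubgroup F, nw D F w * y * (nw D F w)⁻¹ ∈ D.diagonalSubgroup F := by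
    intro y hy
    rw [hG.diagonalSubgroup_eq] at hy ⊢
    induction hy using Subgroup.closure_induction with
    | mem y hy =>
      obtain ⟨r, c, hr, hc0, rfl⟩ := hy
      refine Subgroup.subset_closure ⟨actW D w r, c, hG.actW_lt hw hr, hc0, ?_⟩
      rw [mul_inv_eq_iff_eq_mul]
      refine Units.ext ?_
      rw [Units.val_mul, Units.val_mul, hG.hg_eq_diag hr hc0, hG.hg_eq_diag (hG.actW_lt hw hr) hc0]
      exact hG.nw_conj_diag hw hr c
    | one => simp
    | mul x y _ _ hx hy => convert mul_mem hx hy using 1; group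
    | inv x _ hx => convert inv_mem hx using 1; group
  have hB : nw D F w * (tau D F c1 * prodL D F X.eR a1) * (nw D F w)⁻¹ ∈ D.borelSubgroup F := by
    have h1 : nw D F w * tau D F c1 * (nw D F w)⁻¹ ∈ D.borelSubgroup F :=
      Subgroup.mem_sup_right (hTH _ (by rw [hG.diagonalSubgroup_eq_range]; exact ⟨c1, rfl⟩))
    have h2 : nw D F w * prodL D F X.eR a1 * (nw D F w)⁻¹ ∈ D.borelSubgroup F := by
      have h3 : prodL D F X.eR a1 = wordG D F (X.eR.map fun r => (r, a1 r)) := by
        simp [prodL, wordG, Function.comp_def]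
      have h4 : ∀ p ∈ X.eR.map (fun r => (r, a1 r)), p.1 ∈ X.eR ∧ p.1 < D.nroots := fun p hp => by
        obtain ⟨r, hr, rfl⟩ := List.mem_map.1 hp
        obtain ⟨e', he', rfl⟩ := List.mem_map.1 hr
        exact ⟨hr, (hX.e_ok e' he').1⟩
      rw [h3, nw_conj_word hU hX hw fun p hp => (h4 p hp).2]
      refine list_prod_mem fun y hy => ?_
      obtain ⟨p, hp, rfl⟩ := List.mem_map.1 hy
      obtain ⟨p', hp', rfl⟩ := List.mem_map.1 hp
      obtain ⟨hpE, hpn⟩ := h4 p' hp'
      obtain ⟨e', he', hee⟩ := List.mem_map.1 ((hπ.1 _ hpn).2.2 hpE)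
      obtain ⟨h5, h6, -⟩ := hX.e_ok e' he'
      refine hG.xg_mem_borel ?_ ?_ _
      · exact hG.actW_lt hw hpn
      · show 1 ≤ ht D (actW D w p'.1)
        rw [hwπ _ hpn, ← hee]; exact h6
    convert mul_mem h1 h2 using 1
    group
  have hM : nw D F w * m1 ∈ XS D F (mSet D X) := mul_mem (nw_mem hU hX hwJ) hm1
  have heq2 : b * nw D F w * b' =
      b * (nw D F w * (tau D F c1 * prodL D F X.eR a1) * (nw D F w)⁻¹) * (nw D F w * m1) := by
    rw [e1]; group
  have hcb : Commute (b * nw D F w * b') (tElt X D F) := hgc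
  rw [heq2] at hcb ⊢
  refine mul_mem (borel_centralizer hU hX (mul_mem hb hB) ?_) hM
  have := hcb.mul_left (mSet_comm hU hX hM).inv_left
  rwa [mul_inv_cancel_right] at this

end Cfsg.Agent.Chev54
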