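import Cfsg.Agent.Chev54.PairCheck
import Cfsg.Agent.Lib.ChevCore.Subgroups
import Cfsg.Agent.Lib.ChevCore.TorusGroup

/-!
Products of root elements in characteristic two whose structure constants are even: the entries in the
columns of the Cartan subalgebra give the coordinates.
-/

set_option autoImplicit false

namespace Cfsg.Agent.Chev54

open Cfsg.Lie Cfsg.Agent.ChevCore
open scoped Matrix

variable {D : ChevalleyDatum} {F : Type*} [Field F]

/-- The total parameter at the root `q` of a word. -/
def cw [DecidableEq ℕ] (L : List (ℕ × F)) (q : ℕ) : F := ((L.filter fun p => p.1 = q).map Prod.snd).sum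

@[simp] lemma cw_nil (q : ℕ) : cw ([] : List (ℕ × F)) q = 0 := rfl

lemma cw_cons (p : ℕ × F) (L : List (ℕ × F)) (q : ℕ) :
    cw (p :: L) q = (if p.1 = q then p.2 else 0) + cw L q := by
  by_cases h : p.1 = q <;> simp [cw, h]

lemma cw_append (L L' : List (ℕ × F)) (q : ℕ) : cw (L ++ L') q = cw L q + cw L' q := by
  simp [cw, List.filter_append]

lemma exists_of_cw_ne {L : List (ℕ × F)} {q : ℕ} (h : cw L q ≠ 0) : ∃ p ∈ L, p.1 = q := by
  by_contra hne
  push_neg at hne
  refine h ?_
  rw [cw, List.filter_eq_nil_iff.2 fun p hp => by simpa using hne p hp]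
  rfl

lemma cw_map_root (f : ℕ → ℕ) {L : List (ℕ × F)} {q : ℕ} (h : ∀ p ∈ L, f p.1 = f q → p.1 = q) :
    cw (L.map fun p => (f p.1, p.2)) (f q) = cw L q := by
  induction L with
  | nil => rfl
  | cons p L ih =>
    rw [List.map_cons, cw_cons, cw_cons, ih fun p' hp => h p' (List.mem_cons_of_mem _ hp)]
    congr 1
    by_cases e : p.1 = q
    · simp [e]
    · rw [if_neg (fun e' => e (h p (List.mem_cons_self ..) e')), if_neg e]

lemma cw_map_scale (a : ℕ → F) (L : List (ℕ × F)) (q : ℕ) :
    cw (L.map fun p => (p.1, a p.1 * p.2)) q = a q * cw L q := by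
  induction L with
  | nil => simp
  | cons p L ih =>
    rw [List.map_cons, cw_cons, cw_cons, ih, mul_add]
    congr 1
    by_cases e : p.1 = q
    · simp [e]
    · simp [e]

lemma wordG_cons (p : ℕ × F) (L : List (ℕ × F)) : wordG D F (p :: L) = xg D F p.1 p.2 * wordG D F L := by
  simp [wordG]

lemma wordG_append (L L' : List (ℕ × F)) : wordG D F (L ++ L') = wordG D F L * wordG D F L' := by
  simp [wordG]

/-- Conjugation that acts on root elements acts on words. -/
lemma conj_wordG (g : GL D.Idx F) (f : ℕ × F → List (ℕ × F)) (L : List (ℕ × F))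
    (h : ∀ p ∈ L, g * xg D F p.1 p.2 * g⁻¹ = wordG D F (f p)) :
    g * wordG D F L * g⁻¹ = wordG D F (L.flatMap f) := by
  induction L with
  | nil => simp [wordG]
  | cons p L ih =>
    rw [wordG_cons, List.flatMap_cons, wordG_append, ← h p (List.mem_cons_self ..),
      ← ih fun p' hp => h p' (List.mem_cons_of_mem _ hp)]
    group

variable [CharP F 2]

lemma cast_even {z : ℤ} (h : (2 : ℤ) ∣ z) : ((z : ℤ) : F) = 0 := (CharP.intCast_eq_zero_iff F 2 z).2 h

lemma cast_odd {z : ℤ} (h : ¬ (2 : ℤ) ∣ z) : ((z : ℤ) : F) = 1 := by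
  obtain ⟨k, rfl⟩ : ∃ k, z = 2 * k + 1 := ⟨z / 2, by omega⟩
  simp [CharTwo.two_eq_zero]

variable (hC : CommGood D)
include hC

/-- Two root elements commute when the coefficients of their commutator word are even. -/
lemma xg_commute {a b : ℕ} (ha : a < D.nroots) (hb : b < D.nroots) (h : PairData.evB D a b = true)
    (t u : F) : Commute (xg D F a t) (xg D F b u) := by
  have hG := hC.toGood
  simp only [PairData.evB, Bool.and_eq_true, decide_eq_true_eq, List.all_eq_true] at h
  by_cases h1 : b = a
  · subst h1
    show _ * _ = _ * _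
    rw [← hG.xg_add, ← hG.xg_add, add_comm]
  have hw : wordG D F (D.commWord F a b t u) = 1 := by
    refine List.prod_eq_one fun g hg => ?_
    obtain ⟨p, hp, rfl⟩ := List.mem_map.1 hg
    obtain ⟨c, hc, rfl⟩ := List.mem_map.1 hp
    simp only [cast_even (F := F) (h.2 c hc), zero_mul]
    exact hG.xg_zero _
  have := hC.xg_comm ha hb h1 h.1 t u
  rw [hw, mul_one] at this
  exact this.symm

/-- The columns of the Cartan subalgebra of a product of root elements with even structure constants. -/
theorem wordG_entry {L : List (ℕ × F)} (hL : ∀ p ∈ L, p.1 < D.nroots)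
    (hev : ∀ p ∈ L, ∀ p' ∈ L, PairData.colB D p.1 p'.1 = true) (q : Fin D.nroots) (i : Fin D.rank) :
    (wordG D F L : Matrix D.Idx D.Idx F) (Sum.inr q) (Sum.inl i) =
      -((D.cartan i.val q.val : ℤ) : F) * cw L q.val := by
  classical
  have hG := hC.toGood
  suffices H : ∀ L : List (ℕ × F), (∀ p ∈ L, p.1 < D.nroots) →
      (∀ p ∈ L, ∀ p' ∈ L, PairData.colB D p.1 p'.1 = true) →
      (wordG D F L : Matrix D.Idx D.Idx F) *ᵥ Pi.single (Sum.inl i) 1 =
        Pi.single (Sum.inl i) 1 + fun a => Sum.elim (fun _ => (0 : F))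
          (fun s : Fin D.nroots => -((D.cartan i.val s.val : ℤ) : F) * cw L s.val) a by
    have h := congrFun (H L hL hev) (Sum.inr q)
    rwa [Matrix.mulVec_single_one, Pi.add_apply, Pi.single_eq_of_ne (by simp), zero_add] at h
  intro L
  induction L with
  | nil =>
    intro _ _
    simp only [wordG, List.map_nil, List.prod_nil, Units.val_one, Matrix.one_mulVec]
    funext a
    rcases a with j | s <;> simp
  | cons p L ih =>
    intro hL hev
    obtain ⟨r, t⟩ := p
    have hr : r < D.nroots := hL (r, t) (List.mem_cons_self ..)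
    rw [wordG_cons, Units.val_mul, ← Matrix.mulVec_mulVec,
      ih (fun p hp => hL p (List.mem_cons_of_mem _ hp))
        (fun p hp p' hp' => hev p (List.mem_cons_of_mem _ hp) p' (List.mem_cons_of_mem _ hp')),
      Matrix.mulVec_add, hG.val_xg, hG.x_eq F hr]
    have hk : ∀ k, ∀ p' ∈ L, ∀ a : D.Idx, ∀ hs : p'.1 < D.nroots,
        Mc D F k r a (Sum.inr ⟨p'.1, hs⟩) = 0 := by
      intro k p' hp' a hs
      have h := hev (r, t) (List.mem_cons_self ..) p' (List.mem_cons_of_mem _ hp')
      simp only [PairData.colB, Bool.and_eq_true, Bool.or_eq_true, decide_eq_true_eq, List.all_eq_true,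
        beq_iff_eq] at h
      rw [Mc_entry]
      refine cast_even ?_
      rcases col_cases D k r (Sum.inr ⟨p'.1, hs⟩ : D.Idx) with ⟨j, hj, -⟩ | ⟨v, hv, hc⟩
      · cases hj
      obtain rfl : (⟨p'.1, hs⟩ : Fin D.nroots) = v := Sum.inr.inj hv
      rw [hc]
      by_cases h1 : p'.1 = r
      · simp [h1, ChevCore.vec]
      rw [if_neg h1, if_neg h.1]
      by_cases h0 : k = 0
      · simp [h0, ChevCore.vec]
      rw [if_neg h0]
      refine List.dvd_sum fun z hz => ?_
      obtain ⟨e, he, rfl⟩ := List.mem_map.1 hz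
      have hmem : e ∈ ((D.chainEntry r p'.1)[k - 1]?).toList := List.mem_of_mem_filter he
      rw [Option.mem_toList] at hmem
      exact (h.2.resolve_left (Ne.symm h1)) e (List.mem_of_getElem? hmem)
    have hfix : xR D F r t *ᵥ (fun a => Sum.elim (fun _ => (0 : F))
          (fun s : Fin D.nroots => -((D.cartan i.val s.val : ℤ) : F) * cw L s.val) a) =
        fun a => Sum.elim (fun _ => (0 : F))
          (fun s : Fin D.nroots => -((D.cartan i.val s.val : ℤ) : F) * cw L s.val) a := by
      funext a
      refine Eq.trans ?_ (congrFun (Matrix.one_mulVec _) a)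
      simp only [Matrix.mulVec, dotProduct]
      refine Finset.sum_congr rfl fun b _ => ?_
      rcases b with j | s
      · simp
      · simp only [Sum.elim_inr]
        by_cases h0 : cw L s.val = 0
        · rw [h0, mul_zero, mul_zero, mul_zero]
        obtain ⟨p', hp', hp's⟩ := exists_of_cw_ne h0
        obtain ⟨s, hs⟩ := s
        dsimp only at hp's
        subst hp's
        simp only [xR, Matrix.add_apply, Matrix.smul_apply, hk _ p' hp' a hs, smul_zero, add_zero]
    rw [hfix, Matrix.mulVec_single_one]
    funext a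
    simp only [Pi.add_apply, Matrix.col_apply, xR, Matrix.add_apply, Matrix.smul_apply, smul_eq_mul]
    have hcol : ∀ k, Mc D F k r a (Sum.inl i) =
        if k = 1 then (Sum.elim (fun _ => (0 : F))
          (fun s : Fin D.nroots => if s.val = r then -((D.cartan i.val s.val : ℤ) : F) else 0) a) else 0 := by
      intro k
      rw [Mc_entry]
      rcases col_cases D k r (Sum.inl i : D.Idx) with ⟨j, hj, hc⟩ | ⟨v, hv, -⟩
      · obtain rfl : i = j := Sum.inl.inj hj
        rw [hc]
        by_cases hk1 : k = 1
        · rw [if_pos hk1, if_pos hk1]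
          rcases a with j | s
          · simp [ChevCore.vec, code_inl, show r ≠ D.nroots + j.val by omega]
          · by_cases e : s.val = r
            · simp [ChevCore.vec, code_inr, e]
            · simp [ChevCore.vec, code_inr, e, Ne.symm e]
        · simp [hk1, ChevCore.vec]
      · cases hv
    rw [hcol 1, hcol 2, hcol 3, if_pos rfl, if_neg (by omega), if_neg (by omega)]
    rcases a with j | s
    · simp [Matrix.one_apply, Pi.single_apply]
    · simp only [Sum.elim_inr, cw_cons]
      by_cases e : s.val = r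
      · simp [e, Matrix.one_apply]; ring
      · simp [e, Ne.symm e, Matrix.one_apply]

end Cfsg.Agent.Chev54
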