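import Cfsg.Agent.Chev54.PairWord
import Cfsg.Agent.Chev54.Layer
import Cfsg.Agent.Lib.ChevCore.Parabolic
import Cfsg.Agent.Lib.ChevCore.BorelMore

/-!
The centraliser of a product of commuting root involutions, from a certificate.
-/

set_option autoImplicit false

namespace Cfsg.Agent.Chev54

open Cfsg.Lie Cfsg.Agent.ChevCore Cfsg.Agent.ChevGroup

variable {D : ChevalleyDatum} {F : Type*} [Field F] [CharP F 2] (X : PairData)

lemma prod_eq_filter {α G : Type*} [Monoid G] (f : α → G) (P : α → Bool) (L : List α)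
    (h : ∀ a ∈ L, P a = false → f a = 1) : (L.map f).prod = ((L.filter P).map f).prod := by
  induction L with
  | nil => rfl
  | cons a L ih =>
    rw [List.map_cons, List.prod_cons, ih fun b hb => h b (List.mem_cons_of_mem _ hb)]
    cases hP : P a with
    | true => rw [List.filter_cons_of_pos hP, List.map_cons, List.prod_cons]
    | false => rw [List.filter_cons_of_neg (by simp [hP]), h a (List.mem_cons_self ..) hP, one_mul]

/-- The roots whose root groups generate the centraliser. -/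
def mSet (D : ChevalleyDatum) (X : PairData) : Set ℕ :=
  {r | r < D.nroots ∧ ((1 ≤ ht D r ∧ r ∉ X.eR) ∨ ∃ j ∈ X.J, r = D.neg (D.simple j))}

/-- The word of the involution. -/
def tWord (F : Type*) [Field F] : List (ℕ × F) := X.K.map fun k => (k, 1)

/-- The involution. -/
noncomputable def tElt (D : ChevalleyDatum) (F : Type*) [Field F] : GL D.Idx F := wordG D F (tWord X F)

/-- A map of the roots that fixes `K` and preserves `S`, the radical and `E`. -/
def GoodPi (D : ChevalleyDatum) (X : PairData) (π : ℕ → ℕ) : Prop :=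
  (∀ r < D.nroots, π r < D.nroots ∧ (PairData.radB D X r = true → PairData.radB D X (π r) = true) ∧
      (r ∈ X.eR → π r ∈ X.eR)) ∧
    (∀ s ∈ X.S, π s ∈ X.S ∧ ∃ s' ∈ X.S, π s' = s) ∧ ∀ k ∈ X.K, π k = k

/-- What the certificate says. -/
structure PairOK (D : ChevalleyDatum) (X : PairData) : Prop where
  s_pos : ∀ s ∈ X.S, s < D.nroots ∧ 1 ≤ ht D s
  k_sub : ∀ k ∈ X.K, k ∈ X.S
  k_nodup : X.K.Nodup
  j_ok : ∀ j ∈ X.J, j < D.rank ∧ D.simple j ∉ X.eR ∧ ∀ k ∈ X.K, D.reflectRoot j k = k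
  e_ok : ∀ e ∈ X.E, e.1 < D.nroots ∧ 1 ≤ ht D e.1 ∧ e.2.1 ∈ X.K ∧ e.2.2 ∈ X.S ∧ e.2.2 ∉ X.K
  e_nodup : X.eR.Nodup ∧ (X.E.map fun e => e.2.2).Nodup
  comm_k : ∀ r < D.nroots, 1 ≤ ht D r → r ∉ X.eR → ∀ k ∈ X.K, PairData.evB D k r = true
  comm_e : ∀ e ∈ X.E, ∀ s ∈ X.S, (s ≠ e.2.1 → PairData.evB D s e.1 = true) ∧
    (s = e.2.1 → e.1 ≠ D.neg s ∧ e.1 ≠ s ∧ PairData.evB D e.2.2 e.1 = true ∧
      ((D.commTerms s e.1).filter fun c => c.1 = e.2.2).length = 1 ∧
      ∀ c ∈ D.commTerms s e.1, (c.1 = e.2.2 → ¬ (2 : ℤ) ∣ c.2.1 ∧ c.2.2.1 = 1 ∧ c.2.2.2 = 1) ∧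
        (c.1 ≠ e.2.2 → (2 : ℤ) ∣ c.2.1))
  word : ∀ w : List ℕ, (∀ i ∈ w, i < D.rank) → ∃ c < X.P.length, ∃ π, GoodPi D X π ∧
    ∀ r < D.nroots, actW D w r = byteAt (X.P.getD c 0) (π r)
  cond : ∀ c < X.P.length, (∀ a ∈ X.S, ∀ b ∈ X.S,
      PairData.colB D (byteAt (X.P.getD c 0) a) (byteAt (X.P.getD c 0) b) = true) ∧
    (c = 0 ∨ ¬ ((∀ k ∈ X.K, ∃ s ∈ X.S, byteAt (X.P.getD c 0) s = k) ∧
      ∀ k ∈ X.K, byteAt (X.P.getD c 0) k ∈ X.S))
  base : ∀ r < D.nroots, byteAt (X.P.getD 0 0) r = r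
  cart : ∀ i' < D.rank, (i' ∈ X.J → ∀ k ∈ X.K, D.cartan i' k = 0) ∧
    (i' ∉ X.J → ∀ i < D.rank, i ∉ X.J →
      ∑ m : Fin X.K.length, (X.coB.getD i []).getD m.val 0 * D.cartan i' X.K[m] = if i = i' then 1 else 0)
  odd : ∀ r < D.nroots, ∃ i < D.rank, ¬ (2 : ℤ) ∣ D.cartan i r

theorem pairOK (hG : Good D) (h : PairData.checkB D X = true) : PairOK D X := by
  simp only [PairData.checkB, Bool.and_eq_true] at h
  obtain ⟨⟨⟨⟨⟨⟨⟨⟨hs, hc⟩, -⟩, hg⟩, hr⟩, hn⟩, hcd⟩, hca⟩, ho⟩ := h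
  simp only [PairData.shapeB, PairData.posB, Bool.and_eq_true, List.all_eq_true, decide_eq_true_eq,
    zPos_iff, List.contains_iff_mem, Bool.not_eq_true', beq_iff_eq, ← Bool.not_eq_true] at hs
  obtain ⟨⟨⟨⟨⟨⟨⟨hS, hK⟩, -⟩, hJ⟩, hE⟩, hn1⟩, hn2⟩, hn3⟩ := hs
  simp only [PairData.commB, List.all_eq_true, List.mem_range, Bool.or_eq_true, Bool.not_eq_true',
    PairData.posB, List.contains_iff_mem, ← Bool.not_eq_true] at hc
  have hposb : ∀ r, 1 ≤ ht D r → zPos (ht D r) = true := fun r h => zPos_iff.2 (by omega)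
  simp only [PairData.goodB, List.all_eq_true, List.any_eq_true, List.mem_range, Bool.and_eq_true,
    Bool.or_eq_true, decide_eq_true_eq, List.contains_iff_mem, Bool.not_eq_true', beq_iff_eq,
    ← Bool.not_eq_true] at hg
  simp only [PairData.reflB, List.all_eq_true, List.mem_range, beq_iff_eq] at hr
  have hrefl := hr
  simp only [PairData.nextB, List.all_eq_true, List.mem_range, Bool.and_eq_true, decide_eq_true_eq,
    beq_iff_eq] at hn
  obtain ⟨⟨⟨⟨hlen, hP0⟩, hV0⟩, hid⟩, hnext⟩ := hn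
  simp only [PairData.condB, List.all_eq_true, Bool.and_eq_true, Bool.or_eq_true, beq_iff_eq,
    Bool.not_eq_true', Bool.and_eq_false_iff, decide_eq_true_eq, List.mem_map] at hcd
  have hPget : ∀ c (hc : c < X.P.length), X.P.getD c 0 = X.P[c] := fun c hc =>
    (List.getElem_eq_getD (h := hc) 0).symm
  have hVmem : ∀ u < X.V.length, X.V.getD u 0 ∈ X.V := fun u hu => by
    rw [← List.getElem_eq_getD (h := hu) 0]; exact List.getElem_mem hu
  have hcond : ∀ c (hc : c < X.P.length), (X.P[c], c) ∈ X.P.zipIdx := fun c hc =>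
    List.mem_zipIdx_iff_getElem?.2 (by simp [List.getElem?_eq_getElem hc])
  refine
    { s_pos := fun s hs' => ⟨(hS s hs').1, by have := (hS s hs').2; omega⟩
      k_sub := hK
      k_nodup := hn3
      j_ok := fun j hj => ⟨(hJ j hj).1.1, (hJ j hj).1.2, (hJ j hj).2⟩
      e_ok := fun e he => by
        obtain ⟨⟨⟨⟨h1, h2⟩, h3⟩, h4⟩, h5⟩ := hE e he
        exact ⟨h1, by omega, h3, h4, h5⟩
      e_nodup := ⟨hn1, hn2⟩
      comm_k := fun r hr hr1 hne k hk => ?_
      comm_e := fun e he s hs' => ?_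
      word := ?_
      cond := fun c hc => ?_
      base := fun r hr => (hid r hr).1
      cart := fun i' hi' => ?_
      odd := fun r hr => ?_ }
  · have h := (hc r hr).resolve_left fun h => h (hposb r hr1)
    have h' := h k (hK k hk)
    rw [if_neg hne] at h'
    simpa [hk] using h'
  · obtain ⟨h1, h2, -⟩ : e.1 < D.nroots ∧ (0 : ℤ) < ht D e.1 ∧ True := ⟨(hE e he).1.1.1.1, (hE e he).1.1.1.2, trivial⟩
    have h := ((hc e.1 h1).resolve_left fun h => h (hposb _ (by omega))) s hs'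
    rw [if_pos (show e.1 ∈ X.eR from List.mem_map.2 ⟨e, he, rfl⟩)] at h
    simp only [List.all_eq_true] at h
    have h' := h e he
    simp only [beq_self_eq_true, if_true] at h'
    by_cases hse : s = e.2.1
    · refine ⟨fun h => absurd hse h, fun _ => ?_⟩
      rw [if_pos (by simpa using hse)] at h'
      simp only [Bool.and_eq_true, decide_eq_true_eq, List.all_eq_true] at h'
      obtain ⟨⟨⟨⟨a1, a2⟩, a3⟩, a4⟩, a5⟩ := h'
      refine ⟨a1, a2, a5, a3, fun c hc => ?_⟩
      have := a4 c hc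
      by_cases hcd : c.1 = e.2.2
      · rw [if_pos hcd] at this; exact ⟨fun _ => of_decide_eq_true this, fun h => absurd hcd h⟩
      · rw [if_neg hcd] at this; exact ⟨fun h => absurd h hcd, fun _ => of_decide_eq_true this⟩
    · refine ⟨fun _ => ?_, fun h => absurd h hse⟩
      rwa [if_neg (by simpa using hse)] at h'
  · intro w
    induction w with
    | nil =>
      intro _
      exact ⟨0, hP0, id, ⟨fun r hr => ⟨hr, id, id⟩, fun s hs => ⟨hs, s, hs, rfl⟩, fun k _ => rfl⟩,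
        fun r hr => (hid r hr).1.symm⟩
    | cons i w ih =>
      intro hw
      obtain ⟨c, hc, π, hπ, hact⟩ := ih fun j hj => hw j (List.mem_cons_of_mem _ hj)
      have hi : i < D.rank := hw i (List.mem_cons_self ..)
      have hcn : c < X.nxt.length := hlen ▸ hc
      have hmem : (X.P[c], X.nxt[c]) ∈ X.P.zip X.nxt :=
        List.mem_iff_getElem.2 ⟨c, by simp [hc, hlen], by simp⟩
      obtain ⟨⟨hd, hu⟩, heq⟩ := hnext _ hmem i hi
      set du := (X.nxt[c]).getD i (0, 0)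
      obtain ⟨⟨hv1, hv2⟩, hv3⟩ := hg _ (hVmem du.2 hu)
      refine ⟨du.1, hd, fun r => byteAt (X.V.getD du.2 0) (π r), ⟨?_, ?_, ?_⟩, fun r hr => ?_⟩
      · intro r hr
        obtain ⟨h1, h2, h3⟩ := hπ.1 r hr
        obtain ⟨⟨g1, g2⟩, g3⟩ := hv1 (π r) h1
        exact ⟨g1, fun h => g2.resolve_left fun h' => h' (h2 h), fun h => g3.resolve_left fun h' => h' (h3 h)⟩
      · intro s hs
        refine ⟨(hv2 _ (hπ.2.1 s hs).1).1, ?_⟩
        obtain ⟨s1, hs1, e1⟩ := (hv2 s hs).2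
        obtain ⟨s2, hs2, e2⟩ := (hπ.2.1 s1 hs1).2
        exact ⟨s2, hs2, by show byteAt _ (π s2) = s; rw [e2, e1]⟩
      · intro k hk
        show byteAt _ (π k) = k
        rw [hπ.2.2 k hk, hv3 k hk]
      · obtain ⟨h1, -, -⟩ := hπ.1 r hr
        have h2 : byteAt (X.P.getD c 0) (π r) < D.nroots := by
          rw [← hact r hr]
          exact hG.actW_lt (fun j hj => hw j (List.mem_cons_of_mem _ hj)) hr
        rw [actW_cons, hact r hr, ← heq (π r) h1, hPget c hc, hrefl i hi _ (by rwa [← hPget c hc])]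
  · obtain ⟨h1, h2⟩ := hcd _ (hcond c hc)
    rw [hPget c hc]
    refine ⟨fun a ha b hb => (h1 _ ⟨a, ha, rfl⟩).2 _ ⟨b, hb, rfl⟩, h2.imp id fun h hh => ?_⟩
    rcases h with h | h
    · rw [List.all_eq_false] at h
      obtain ⟨k, hk, hk'⟩ := h
      obtain ⟨s, hs, e⟩ := hh.1 k hk
      simp only [List.contains_iff_mem, List.mem_map] at hk'
      exact hk' ⟨s, hs, e⟩
    · rw [List.all_eq_false] at h
      obtain ⟨k, hk, hk'⟩ := h
      simp only [List.contains_iff_mem] at hk'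
      exact hk' (hh.2 k hk)
  · simp only [PairData.cartB, List.all_eq_true, List.mem_range] at hca
    have h := hca i' hi'
    refine ⟨fun hj k hk => ?_, fun hj i hi hij => ?_⟩
    · rw [if_pos (by simpa using hj)] at h
      simp only [List.all_eq_true, decide_eq_true_eq] at h
      exact h k hk
    · rw [if_neg (by simpa using hj)] at h
      simp only [List.all_eq_true, List.mem_range, Bool.or_eq_true, decide_eq_true_eq] at h
      exact (h i hi).resolve_left (by simpa using hij)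
  · simp only [PairData.oddB, List.all_eq_true, List.any_eq_true, List.mem_range, decide_eq_true_eq] at ho
    exact ho r hr

end Cfsg.Agent.Chev54
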