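import Cfsg.Agent.Chev54.PairMain
import Cfsg.Agent.Lib.ChevCore.SepAll

/-!
Turning the certified centraliser theorem into statements about the frozen subgroups.
-/

set_option autoImplicit false

namespace Cfsg.Agent.Chev54

open Cfsg.Lie Cfsg.Agent.ChevCore Cfsg.Agent.ChevGroup

variable {D : ChevalleyDatum} {F : Type*} [Field F] {X : PairData}

/-- A Boolean form of `mSet`. -/
noncomputable def mB (D : ChevalleyDatum) (X : PairData) (r : ℕ) : Bool :=
  (PairData.posB D r && !X.eR.contains r) || X.J.any fun j => decide (r = D.neg (D.simple j))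

lemma mem_mSet_iff {r : ℕ} : r ∈ mSet D X ↔ r < D.nroots ∧ mB D X r = true := by
  simp only [mSet, Set.mem_setOf_eq, mB, PairData.posB, Bool.or_eq_true, Bool.and_eq_true,
    Bool.not_eq_true', List.contains_eq_mem, decide_eq_false_iff_not, List.any_eq_true,
    decide_eq_true_eq, zPos_iff]
  exact and_congr_right fun _ => or_congr (and_congr (by omega) Iff.rfl) Iff.rfl

lemma xg_mem_rootSubgroup (hG : Good D) (r : ℕ) (t : F) : xg D F r t ∈ D.rootSubgroup F r :=
  Subgroup.subset_closure ⟨t, hG.val_xg r t⟩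

lemma rootSubgroup_le_XS (hG : Good D) {r : ℕ} {S : Set ℕ} (hr : r < D.nroots) (h : r ∈ S) :
    D.rootSubgroup F r ≤ XS D F S := by
  refine (Subgroup.closure_le _).2 ?_
  rintro g ⟨t, ht⟩
  obtain rfl : g = xg D F r t := Units.ext (ht.trans (hG.val_xg r t).symm)
  exact xg_mem_XS hr h t

/-- The centraliser of the involution as any subgroup squeezed between the root groups of `mSet`. -/
theorem centralizer_pair_eq [CharP F 2] (hU : UGood D) (hX : PairData.checkB D X = true)
    (hD : D ∈ [chevG2, chevB2, chevD4, chevF4, chevE6, chevE7, chevE8]) (g : GL D.Idx F)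
    (hg : g = tElt X D F) (P : Subgroup (GL D.Idx F))
    (h1 : ∀ r < D.nroots, mB D X r = true → ∀ t : F, xg D F r t ∈ P)
    (h2 : P ≤ XS D F (mSet D X)) : D.group F ⊓ Subgroup.centralizer {g} = P := by
  subst hg
  rw [centralizer_pair hU (pairOK X hU.toCommGood.toGood hX) hD]
  exact le_antisymm (XS_le fun r t _ hr => h1 r (mem_mSet_iff.1 hr).1 (mem_mSet_iff.1 hr).2 t) h2

end Cfsg.Agent.Chev54
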