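import Cfsg.Agent.Chev54.Central
import Cfsg.Agent.Chev54.EvenCert
import Cfsg.Prelude.Def_ChevB2

/-!
The recipes for the seven data, and the vanishing of the commutators with the highest root.
-/

set_option autoImplicit false

namespace Cfsg.Agent.Chev54

open Cfsg.Lie ChevGroup

/-- The positive roots have empty commutator words with the last root. -/
def topCommB (D : ChevalleyDatum) : Bool :=
  (List.range D.nroots).all fun s => !decide (D.nroots ≤ 2 * s) ||
    (decide (s ≠ D.neg (D.nroots - 1)) && (D.commTerms (D.nroots - 1) s).isEmpty)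

/-- The recipe of type G2. -/
def recipeG2 : Recipe 2 where
  start := [0, 1]
  ops := [(7, [([1], -1)]), (5, [])]
  short := 7
  simples := [
    (false, []),
    (true, [0, 1])]

theorem recipeB_G2 : recipeB TypeG2.model (11 : Fin 12) recipeG2 = true := by decide +kernel

theorem topCommB_G2 : topCommB chevG2 = true := by decide +kernel

/-- The recipe of type B2. -/
def recipeB2 : Recipe 2 where
  start := [0]
  ops := [(5, [([], 1)])]
  short := 6
  simples := [
    (false, [1]),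
    (true, [0])]

theorem recipeB_B2 : recipeB TypeB2.model (7 : Fin 8) recipeB2 = true := by decide +kernel

theorem topCommB_B2 : topCommB chevB2 = true := by decide +kernel

/-- The recipe of type D4. -/
def recipeD4 : Recipe 4 where
  start := []
  ops := []
  short := 0
  simples := [
    (true, [1, 3, 2, 1]),
    (true, [3, 2, 0, 1]),
    (true, [1, 3, 0, 1]),
    (true, [1, 2, 0, 1])]

theorem recipeB_D4 : recipeB TypeD4.model (23 : Fin 24) recipeD4 = true := by decide +kernel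

theorem topCommB_D4 : topCommB chevD4 = true := by decide +kernel

/-- The recipe of type F4. -/
def recipeF4 : Recipe 4 where
  start := [3, 2, 1, 2, 3]
  ops := [(3, [([3, 2, 1, 2, 0, 1, 2, 3, 2, 1, 2, 0, 1, 2, 3], 1)])]
  short := 18
  simples := [
    (false, [0, 1, 2, 3, 0]),
    (false, [1, 2, 3]),
    (true, [3, 1, 2, 0, 1, 2, 3]),
    (true, [2, 1, 2, 0, 1, 2, 3])]

theorem recipeB_F4 : recipeB TypeF4.model (47 : Fin 48) recipeF4 = true := by decide +kernel

theorem topCommB_F4 : topCommB chevF4 = true := by decide +kernel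

/-- The recipe of type E6. -/
def recipeE6 : Recipe 6 where
  start := []
  ops := []
  short := 0
  simples := [
    (true, [2, 3, 4, 5, 1, 3, 4, 2, 3, 1]),
    (true, [3, 4, 5, 2, 3, 4, 0, 2, 3, 1]),
    (true, [3, 4, 5, 1, 3, 4, 0, 2, 3, 1]),
    (true, [4, 5, 2, 1, 3, 4, 0, 2, 3, 1]),
    (true, [5, 3, 2, 1, 3, 4, 0, 2, 3, 1]),
    (true, [4, 3, 2, 1, 3, 4, 0, 2, 3, 1])]

theorem recipeB_E6 : recipeB TypeE6.model (71 : Fin 72) recipeE6 = true := by decide +kernel

theorem topCommB_E6 : topCommB chevE6 = true := by decide +kernel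

/-- The recipe of type E7. -/
def recipeE7 : Recipe 7 where
  start := []
  ops := []
  short := 0
  simples := [
    (true, [2, 3, 4, 5, 6, 1, 3, 4, 5, 2, 3, 4, 1, 3, 2, 0]),
    (true, [3, 4, 5, 6, 2, 3, 4, 5, 0, 2, 3, 4, 1, 3, 2, 0]),
    (true, [3, 4, 5, 6, 1, 3, 4, 5, 0, 2, 3, 4, 1, 3, 2, 0]),
    (true, [4, 5, 6, 2, 1, 3, 4, 5, 0, 2, 3, 4, 1, 3, 2, 0]),
    (true, [5, 6, 3, 2, 1, 3, 4, 5, 0, 2, 3, 4, 1, 3, 2, 0]),
    (true, [6, 4, 3, 2, 1, 3, 4, 5, 0, 2, 3, 4, 1, 3, 2, 0]),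
    (true, [5, 4, 3, 2, 1, 3, 4, 5, 0, 2, 3, 4, 1, 3, 2, 0])]

theorem recipeB_E7 : recipeB TypeE7.model (125 : Fin 126) recipeE7 = true := by decide +kernel

theorem topCommB_E7 : topCommB chevE7 = true := by decide +kernel

/-- The recipe of type E8. -/
def recipeE8 : Recipe 8 where
  start := []
  ops := []
  short := 0
  simples := [
    (true, [2, 3, 4, 5, 6, 7, 1, 3, 4, 5, 6, 2, 3, 4, 5, 1, 3, 4, 2, 3, 0, 2, 1, 3, 4, 5, 6, 7]),
    (true, [3, 4, 5, 6, 7, 2, 3, 4, 5, 6, 0, 2, 3, 4, 5, 1, 3, 4, 2, 3, 0, 2, 1, 3, 4, 5, 6, 7]),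
    (true, [3, 4, 5, 6, 7, 1, 3, 4, 5, 6, 0, 2, 3, 4, 5, 1, 3, 4, 2, 3, 0, 2, 1, 3, 4, 5, 6, 7]),
    (true, [4, 5, 6, 7, 2, 1, 3, 4, 5, 6, 0, 2, 3, 4, 5, 1, 3, 4, 2, 3, 0, 2, 1, 3, 4, 5, 6, 7]),
    (true, [5, 6, 7, 3, 2, 1, 3, 4, 5, 6, 0, 2, 3, 4, 5, 1, 3, 4, 2, 3, 0, 2, 1, 3, 4, 5, 6, 7]),
    (true, [6, 7, 4, 3, 2, 1, 3, 4, 5, 6, 0, 2, 3, 4, 5, 1, 3, 4, 2, 3, 0, 2, 1, 3, 4, 5, 6, 7]),
    (true, [7, 5, 4, 3, 2, 1, 3, 4, 5, 6, 0, 2, 3, 4, 5, 1, 3, 4, 2, 3, 0, 2, 1, 3, 4, 5, 6, 7]),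
    (true, [6, 5, 4, 3, 2, 1, 3, 4, 5, 6, 0, 2, 3, 4, 5, 1, 3, 4, 2, 3, 0, 2, 1, 3, 4, 5, 6, 7])]

theorem recipeB_E8 : recipeB TypeE8.model (239 : Fin 240) recipeE8 = true := by decide +kernel

theorem topCommB_E8 : topCommB chevE8 = true := by decide +kernel

/-- An element of one of the seven groups commuting with all `x_s(1)` is trivial. -/
theorem eq_one_of_commute {D : ChevalleyDatum}
    (hD : D ∈ [chevG2, chevB2, chevD4, chevF4, chevE6, chevE7, chevE8]) {k : Type*} [Field k]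
    (c : GL D.Idx k) (hc : c ∈ D.group k)
    (hcx : ∀ s, s < D.nroots → ∀ g : GL D.Idx k, (g : Matrix D.Idx D.Idx k) = D.x k s 1 → c * g = g * c) :
    c = 1 := by
  have aux : ∀ (T : Model D) (hC : ChevCore.CommGood D) {wit : List (List (Fin T.tab.l) × Fin T.tab.l)},
      T.witB wit = true → ∀ (top : Fin T.tab.n), top.val = D.nroots - 1 → topCommB D = true →
      ∀ {C : Recipe T.tab.l}, recipeB T top C = true → c = 1 := by
    intro T hC wit hwit top hval htB C hB
    have h := eq_one_of_commute_ones (k := k) T hC hwit top (fun s hs t u => ?_) hB ⟨c, hc⟩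
      (fun s => Subtype.ext (hcx s.val (T.lt s) _ rfl))
    · exact congrArg Subtype.val h
    · simp only [topCommB, List.all_eq_true, List.mem_range, Bool.or_eq_true, Bool.and_eq_true,
        Bool.not_eq_true', decide_eq_false_iff_not, decide_eq_true_eq, List.isEmpty_iff] at htB
      obtain ⟨h2, h0⟩ := (htB s hs.1).resolve_left (fun h => h ((T.pos_iff hs.1).1 hs))
      rw [hval]
      exact x_comm_of_terms hC k (by have := T.n_eq; have := T.tab.n_pos; omega) hs.1 h2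
        (by rw [h0]; simp) t u
  simp only [List.mem_cons, List.not_mem_nil, or_false] at hD
  rcases hD with rfl | rfl | rfl | rfl | rfl | rfl | rfl
  · exact aux TypeG2.model ChevCore.commGoodG2 TypeG2.wit_ok (11 : Fin 12) rfl topCommB_G2 recipeB_G2
  · exact aux TypeB2.model ChevCore.commGoodB2 TypeB2.wit_ok (7 : Fin 8) rfl topCommB_B2 recipeB_B2
  · exact aux TypeD4.model ChevCore.commGoodD4 TypeD4.wit_ok (23 : Fin 24) rfl topCommB_D4 recipeB_D4
  · exact aux TypeF4.model ChevCore.commGoodF4 TypeF4.wit_ok (47 : Fin 48) rfl topCommB_F4 recipeB_F4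
  · exact aux TypeE6.model ChevCore.commGoodE6 TypeE6.wit_ok (71 : Fin 72) rfl topCommB_E6 recipeB_E6
  · exact aux TypeE7.model ChevCore.commGoodE7 TypeE7.wit_ok (125 : Fin 126) rfl topCommB_E7 recipeB_E7
  · exact aux TypeE8.model ChevCore.commGoodE8 TypeE8.wit_ok (239 : Fin 240) rfl topCommB_E8 recipeB_E8

end Cfsg.Agent.Chev54
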