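import Cfsg.Agent.Chev54.SeparCheck
import Cfsg.Agent.Lib.ChevCore.SepAll

/-!
The certificates of the separation of roots for the seven data.
-/

set_option autoImplicit false
set_option maxRecDepth 100000

namespace Cfsg.Agent.Chev54

open Cfsg.Lie Cfsg.Agent.ChevCore

theorem sepG2 : sepAccB chevG2 (fast chevG2 packedG2) 3 = true := by decide +kernel

theorem spanG2 : spanB chevG2 (fast chevG2 packedG2) = true := by decide +kernel

theorem genG2 : genB chevG2 [(8, (6, 7), (6, 7)), (9, (6, 7), (6, 7)), (10, (6, 7), (6, 7)), (11, (6, 10), (6, 7))] = true := by decide +kernel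

theorem descG2 : descB chevG2 = true := by decide +kernel

theorem sepB2 : sepAccB chevB2 (fast chevB2 packedB2) 2 = true := by decide +kernel

theorem spanB2 : spanB chevB2 (fast chevB2 packedB2) = true := by decide +kernel

theorem genB2 : genB chevB2 [(6, (4, 5), (4, 5)), (7, (4, 5), (4, 5))] = true := by decide +kernel

theorem descB2 : descB chevB2 = true := by decide +kernel

theorem sepD4 : sepAccB chevD4 (fast chevD4 packedD4) 2 = true := by decide +kernel

theorem spanD4 : spanB chevD4 (fast chevD4 packedD4) = true := by decide +kernel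

theorem genD4 : genB chevD4 [(15, (12, 14), (12, 14)), (16, (13, 14), (13, 14)), (17, (12, 16), (12, 16)), (19, (14, 18), (14, 18)), (20, (12, 19), (12, 19)), (21, (13, 19), (13, 19)), (22, (12, 21), (12, 21)), (23, (14, 22), (14, 22))] = true := by decide +kernel

theorem descD4 : descB chevD4 = true := by decide +kernel

theorem sepF4 : sepAccB chevF4 (fast chevF4 packedF4) 2 = true := by decide +kernel

theorem spanF4 : spanB chevF4 (fast chevF4 packedF4) = true := by decide +kernel

theorem genF4 : genB chevF4 [(26, (24, 25), (24, 25)), (28, (25, 27), (25, 27)), (29, (24, 28), (24, 28)), (30, (25, 27), (25, 27)), (31, (24, 30), (24, 30)), (32, (24, 28), (24, 28)), (34, (27, 33), (27, 33)), (35, (25, 34), (25, 34)), (36, (24, 35), (24, 35)), (37, (27, 35), (27, 35)), (38, (24, 37), (24, 37)), (39, (25, 38), (25, 38)), (40, (27, 39), (27, 39)), (41, (25, 34), (25, 34)), (42, (24, 41), (24, 41)), (43, (24, 35), (24, 35)), (44, (27, 43), (27, 43)), (45, (24, 37), (24, 37)), (46, (25, 45), (25, 45)), (47, (24, 46), (24, 46))] = true := by decide +kernel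

theorem descF4 : descB chevF4 = true := by decide +kernel

theorem sepE6 : sepAccB chevE6 (fast chevE6 packedE6) 1 = true := by decide +kernel

theorem spanE6 : spanB chevE6 (fast chevE6 packedE6) = true := by decide +kernel

theorem genE6 : genB chevE6 [(38, (36, 37), (36, 37)), (40, (37, 39), (37, 39)), (41, (36, 40), (36, 40)), (43, (39, 42), (39, 42)), (44, (37, 43), (37, 43)), (45, (36, 44), (36, 44)), (47, (39, 46), (39, 46)), (48, (37, 47), (37, 47)), (49, (36, 48), (36, 48)), (50, (42, 47), (42, 47)), (51, (37, 50), (37, 50)), (52, (36, 51), (36, 51)), (53, (39, 51), (39, 51)), (54, (36, 53), (36, 53)), (55, (37, 54), (37, 54)), (57, (42, 56), (42, 56)), (58, (39, 57), (39, 57)), (59, (37, 58), (37, 58)), (60, (36, 59), (36, 59)), (61, (46, 58), (46, 58)), (62, (37, 61), (37, 61)), (63, (36, 62), (36, 62)), (64, (39, 62), (39, 62)), (65, (36, 64), (36, 64)), (66, (37, 65), (37, 65)), (67, (42, 64), (42, 64)), (68, (36, 67), (36, 67)), (69, (37, 68), (37, 68)), (70, (39, 69), (39, 69)), (71, (46, 70), (46, 70))] = true := by decide +kernel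

theorem descE6 : descB chevE6 = true := by decide +kernel

theorem sepE7 : sepAccB chevE7 (fast chevE7 packedE7) 1 = true := by decide +kernel

theorem spanE7 : spanB chevE7 (fast chevE7 packedE7) = true := by decide +kernel

theorem genE7 : genB chevE7 [(65, (63, 64), (63, 64)), (67, (64, 66), (64, 66)), (68, (63, 67), (63, 67)), (70, (66, 69), (66, 69)), (71, (64, 70), (64, 70)), (72, (63, 71), (63, 71)), (74, (69, 73), (69, 73)), (75, (66, 74), (66, 74)), (76, (64, 75), (64, 75)), (77, (63, 76), (63, 76)), (79, (69, 78), (69, 78)), (80, (66, 79), (66, 79)), (81, (64, 80), (64, 80)), (82, (63, 81), (63, 81)), (83, (73, 79), (73, 79)), (84, (66, 83), (66, 83)), (85, (64, 84), (64, 84)), (86, (63, 85), (63, 85)), (87, (69, 84), (69, 84)), (88, (64, 87), (64, 87)), (89, (63, 88), (63, 88)), (90, (66, 88), (66, 88)), (91, (63, 90), (63, 90)), (92, (64, 91), (64, 91)), (94, (73, 93), (73, 93)), (95, (69, 94), (69, 94)), (96, (66, 95), (66, 95)), (97, (64, 96), (64, 96)), (98, (63, 97), (63, 97)), (99, (78, 95), (78, 95)), (100, (66, 99), (66, 99)), (101, (64, 100), (64, 100)), (102, (63, 101),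 (63, 101)), (103, (69, 100), (69, 100)), (104, (64, 103), (64, 103)), (105, (63, 104), (63, 104)), (106, (66, 104), (66, 104)), (107, (63, 106), (63, 106)), (108, (64, 107), (64, 107)), (109, (73, 103), (73, 103)), (110, (64, 109), (64, 109)), (111, (63, 110), (63, 110)), (112, (66, 110), (66, 110)), (113, (63, 112), (63, 112)), (114, (64, 113), (64, 113)), (115, (69, 112), (69, 112)), (116, (63, 115), (63, 115)), (117, (64, 116), (64, 116)), (118, (66, 117), (66, 117)), (119, (78, 115), (78, 115)), (120, (63, 119), (63, 119)), (121, (64, 120), (64, 120)), (122, (66, 121), (66, 121)), (123, (69, 122), (69, 122)), (124, (73, 123), (73, 123)), (125, (93, 124), (93, 124))] = true := by decide +kernel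

theorem descE7 : descB chevE7 = true := by decide +kernel

theorem sepE8 : sepAccB chevE8 (fast chevE8 packedE8) 1 = true := by decide +kernel

theorem spanE8 : spanB chevE8 (fast chevE8 packedE8) = true := by decide +kernel

theorem genE8 : genB chevE8 [(122, (120, 121), (120, 121)), (124, (121, 123), (121, 123)), (125, (120, 124), (120, 124)), (127, (123, 126), (123, 126)), (128, (121, 127), (121, 127)), (129, (120, 128), (120, 128)), (131, (126, 130), (126, 130)), (132, (123, 131), (123, 131)), (133, (121, 132), (121, 132)), (134, (120, 133), (120, 133)), (136, (130, 135), (130, 135)), (137, (126, 136), (126, 136)), (138, (123, 137), (123, 137)), (139, (121, 138), (121, 138)), (140, (120, 139), (120, 139)), (142, (130, 141), (130, 141)), (143, (126, 142), (126, 142)), (144, (123, 143), (123, 143)), (145, (121, 144), (121, 144)), (146, (120, 145), (120, 145)), (147, (135, 142), (135, 142)), (148, (126, 147), (126, 147)), (149, (123, 148), (123, 148)), (150, (121, 149), (121, 149)), (151, (120, 150), (120, 150)), (152, (130, 148), (130, 148)), (153, (123, 152), (123, 152)), (154, (121,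 153), (121, 153)), (155, (120, 154), (120, 154)), (156, (126, 153), (126, 153)), (157, (121, 156), (121, 156)), (158, (120, 157), (120, 157)), (159, (123, 157), (123, 157)), (160, (120, 159), (120, 159)), (161, (121, 160), (121, 160)), (163, (135, 162), (135, 162)), (164, (130, 163), (130, 163)), (165, (126, 164), (126, 164)), (166, (123, 165), (123, 165)), (167, (121, 166), (121, 166)), (168, (120, 167), (120, 167)), (169, (141, 164), (141, 164)), (170, (126, 169), (126, 169)), (171, (123, 170), (123, 170)), (172, (121, 171), (121, 171)), (173, (120, 172), (120, 172)), (174, (130, 170), (130, 170)), (175, (123, 174), (123, 174)), (176, (121, 175), (121, 175)), (177, (120, 176), (120, 176)), (178, (126, 175), (126, 175)), (179, (121, 178), (121, 178)), (180, (120, 179), (120, 179)), (181, (123, 179), (123, 179)), (182, (120, 181), (120, 181)), (183, (121, 182), (121, 182)), (184, (135, 174), (135, 174)), (185, (123, 184), (123, 184)), (186, (121, 185), (121, 185)), (187, (120, 186), (120, 186)), (188, (126, 185), (126, 185)), (189, (121, 188), (121, 188)), (190, (120, 189), (120, 189)),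 (191, (123, 189), (123, 189)), (192, (120, 191), (120, 191)), (193, (121, 192), (121, 192)), (194, (130, 188), (130, 188)), (195, (121, 194), (121, 194)), (196, (120, 195), (120, 195)), (197, (123, 195), (123, 195)), (198, (120, 197), (120, 197)), (199, (121, 198), (121, 198)), (200, (126, 197), (126, 197)), (201, (120, 200), (120, 200)), (202, (121, 201), (121, 201)), (203, (123, 202), (123, 202)), (204, (141, 194), (141, 194)), (205, (121, 204), (121, 204)), (206, (120, 205), (120, 205)), (207, (123, 205), (123, 205)), (208, (120, 207), (120, 207)), (209, (121, 208), (121, 208)), (210, (126, 207), (126, 207)), (211, (120, 210), (120, 210)), (212, (121, 211), (121, 211)), (213, (123, 212), (123, 212)), (214, (130, 210), (130, 210)), (215, (120, 214), (120, 214)), (216, (121, 215), (121, 215)), (217, (123, 216), (123, 216)), (218, (126, 217), (126, 217)), (219, (135, 214), (135, 214)), (220, (120, 219), (120, 219)), (221, (121, 220), (121, 220)), (222, (123, 221), (123, 221)), (223, (126, 222), (126, 222)), (224, (130, 223), (130, 223)), (225, (141, 224), (141, 224)), (226, (162, 219), (162,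 219)), (227, (120, 226), (120, 226)), (228, (121, 227), (121, 227)), (229, (123, 228), (123, 228)), (230, (126, 229), (126, 229)), (231, (130, 230), (130, 230)), (232, (135, 231), (135, 231)), (233, (141, 231), (141, 231)), (234, (135, 233), (135, 233)), (235, (130, 234), (130, 234)), (236, (126, 235), (126, 235)), (237, (123, 236), (123, 236)), (238, (121, 237), (121, 237)), (239, (120, 238), (120, 238))] = true := by decide +kernel

theorem descE8 : descB chevE8 = true := by decide +kernel

end Cfsg.Agent.Chev54
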