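import Cfsg.Agent.Chev54.Separ
import Cfsg.Agent.Lib.ChevCore.Link
import Cfsg.Agent.Lib.ChevCore.Pairing

/-!
The Boolean conditions on the tables under which the torus separates the roots.
-/

set_option autoImplicit false

namespace Cfsg.Agent.Chev54

open Cfsg.Lie Cfsg.Agent.ChevCore

variable (D : ChevalleyDatum)

/-- The pairing computed from an accessor. -/
noncomputable def pairA (A : Acc) (p r : ℕ) : ℤ :=
  ksum (ktab D.rank fun i => kget (A.co p) i 0 * A.cart i r)

lemma ktab_eq {α : Type} (n : ℕ) (f : ℕ → α) : ktab n f = (List.range n).map f := by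
  suffices h : ∀ i, Nat.rec (motive := fun _ => ℕ → List α) (fun _ => [])
      (fun _ acc i => f i :: acc (Nat.add i 1)) n i = (List.range' i n).map f by
    rw [List.range_eq_range']; exact h 0
  induction n with
  | zero => intro i; rfl
  | succ n ih =>
    intro i
    show f i :: _ = _
    rw [ih (Nat.add i 1), List.range'_succ, List.map_cons]


lemma ksum_eq (L : List ℤ) : ksum L = L.sum := by
  induction L with
  | nil => rfl
  | cons a L ih => rw [List.sum_cons, ← ih]; rfl

lemma kget_eq {α : Type} (L : List α) (i : ℕ) (d : α) : kget L i d = L.getD i d := by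
  induction L generalizing i with
  | nil => rfl
  | cons a L ih =>
    cases i with
    | zero => rfl
    | succ i => rw [List.getD_cons_succ, ← ih]; rfl

lemma pairA_std (p r : ℕ) : pairA D (std D) p r = D.pairing p r := by
  simp only [pairA, ksum_eq, ktab_eq, kget_eq, ChevalleyDatum.pairing, std]
  congr 1
  refine List.map_congr_left fun i _ => ?_
  congr 1
  simp [Array.getD_eq_getD_getElem?, List.getD_eq_getElem?_getD, Array.getElem?_toList]

/-- Each positive root `r` is separated from each other one `s` by a root orthogonal to `s`. -/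
noncomputable def sepAccB (A : Acc) (k : ℕ) : Bool :=
  kallUpTo D.nroots fun r => !zPos (ht D r) || kallUpTo D.nroots fun s =>
    !zPos (ht D s) || Nat.beq r s || kanyUpTo D.nroots fun p =>
      zIsZero (pairA D A p s) && (Nat.ble 1 (pairA D A p r).natAbs && Nat.ble (pairA D A p r).natAbs k)

/-- Some pairing with each positive root has absolute value at most two. -/
noncomputable def spanB (A : Acc) : Bool :=
  kallUpTo D.nroots fun r => !zPos (ht D r) || kanyUpTo D.nroots fun p =>
    Nat.ble 1 (pairA D A p r).natAbs && Nat.ble (pairA D A p r).natAbs 2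

/-- A witness: the root is in the commutator of the pair with a coefficient prime to `p`. -/
def witOK (p : ℕ) (r a b : ℕ) : Bool :=
  decide (a < D.nroots ∧ b < D.nroots ∧ b ≠ a) &&
    (((D.commTerms a b).filter fun e => e.1 = r).length == 1 &&
    ((D.commTerms a b).all fun e => if e.1 = r then decide (¬ (p : ℤ) ∣ e.2.1 ∧ e.2.1.natAbs ≤ 3) else true))

/-- Every positive root is fundamental or has a witness for each characteristic. -/
noncomputable def genB (W : List (ℕ × (ℕ × ℕ) × (ℕ × ℕ))) : Bool :=
  kallUpTo D.nroots fun r => !zPos (ht D r) || ((List.range D.rank).any fun i => D.simple i == r) ||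
    kany W fun w => Nat.beq w.1 r && witOK D 2 r w.2.1.1 w.2.1.2 && witOK D 3 r w.2.2.1 w.2.2.2 &&
      (zPos (ht D w.2.1.1) && zPos (ht D w.2.1.2) && zPos (ht D w.2.2.1) && zPos (ht D w.2.2.2)) &&
      ((D.commTerms w.2.1.1 w.2.1.2).all fun e => e.1 == r || !zEq (ht D e.1) (ht D r)) &&
      ((D.commTerms w.2.2.1 w.2.2.2).all fun e => e.1 == r || !zEq (ht D e.1) (ht D r))

/-- Every positive root that is not fundamental is lowered by a fundamental reflection in its support. -/
noncomputable def descB : Bool :=
  kallUpTo D.nroots fun r => !zPos (ht D r) || ((List.range D.rank).any fun i => D.simple i == r) ||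
    kanyUpTo D.rank fun i => !zIsZero (coef D r i) &&
      (zPos (ht D (D.reflectRoot i r)) && zPos (ht D r - ht D (D.reflectRoot i r)))

end Cfsg.Agent.Chev54
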