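import Cfsg.Agent.Chev54.SeparCert

/-!
What the certificates give for a subgroup of `U` normalised by `U` and the torus.
-/

set_option autoImplicit false

namespace Cfsg.Agent.Chev54

open Cfsg.Lie Cfsg.Agent.ChevCore

/-- The certificates of one datum; `kmax` is the largest pairing needed to separate two roots. -/
structure SepPack (D : ChevalleyDatum) where
  hU : UGood D
  kmax : ℕ
  W : List (ℕ × (ℕ × ℕ) × (ℕ × ℕ))
  sep : sepAccB D (std D) kmax = true
  span : spanB D (std D) = true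
  gen : genB D W = true
  desc : descB D = true
  small : kmax ≤ 1 ∨ D ∈ [chevG2, chevB2, chevD4, chevF4]
  three : kmax ≤ 2 ∨ (kmax = 3 ∧ D = chevG2)

theorem sepPack_of_mem {D : ChevalleyDatum}
    (hD : D ∈ [chevG2, chevB2, chevD4, chevF4, chevE6, chevE7, chevE8]) : Nonempty (SepPack D) := by
  have h := hD
  simp only [List.mem_cons, List.not_mem_nil, or_false] at h
  rcases h with rfl | rfl | rfl | rfl | rfl | rfl | rfl
  · exact ⟨⟨uGoodG2, 3, _, (fast_eq_std chkLinkG2).1 ▸ sepG2, (fast_eq_std chkLinkG2).1 ▸ spanG2, genG2, descG2,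
      .inr (List.mem_cons_self ..), .inr ⟨rfl, rfl⟩⟩⟩
  · exact ⟨⟨uGoodB2, 2, _, (fast_eq_std chkLinkB2).1 ▸ sepB2, (fast_eq_std chkLinkB2).1 ▸ spanB2, genB2, descB2,
      .inr (by simp), .inl le_rfl⟩⟩
  · exact ⟨⟨uGoodD4, 2, _, (fast_eq_std chkLinkD4).1 ▸ sepD4, (fast_eq_std chkLinkD4).1 ▸ spanD4, genD4, descD4,
      .inr (by simp), .inl le_rfl⟩⟩
  · exact ⟨⟨uGoodF4, 2, _, (fast_eq_std chkLinkF4).1 ▸ sepF4, (fast_eq_std chkLinkF4).1 ▸ spanF4, genF4, descF4,
      .inr (by simp), .inl le_rfl⟩⟩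
  · exact ⟨⟨uGoodE6, 1, _, (fast_eq_std chkLinkE6).1 ▸ sepE6, (fast_eq_std chkLinkE6).1 ▸ spanE6, genE6, descE6,
      .inl le_rfl, .inl (by norm_num)⟩⟩
  · exact ⟨⟨uGoodE7, 1, _, (fast_eq_std chkLinkE7).1 ▸ sepE7, (fast_eq_std chkLinkE7).1 ▸ spanE7, genE7, descE7,
      .inl le_rfl, .inl (by norm_num)⟩⟩
  · exact ⟨⟨uGoodE8, 1, _, (fast_eq_std chkLinkE8).1 ▸ sepE8, (fast_eq_std chkLinkE8).1 ▸ spanE8, genE8, descE8,
      .inl le_rfl, .inl (by norm_num)⟩⟩

namespace SepPack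

variable {D : ChevalleyDatum} (P : SepPack D) {F : Type*} [Field F] [Fintype F]
include P

/-- The separating pairing of `r` against `s`. -/
lemma exists_pair {r s : ℕ} (hr : r < D.nroots) (hr1 : 1 ≤ ht D r) (hs : s < D.nroots)
    (hs1 : 1 ≤ ht D s) (hne : s ≠ r) :
    ∃ p < D.nroots, D.pairing p s = 0 ∧ 1 ≤ (D.pairing p r).natAbs ∧ (D.pairing p r).natAbs ≤ P.kmax := by
  have h := P.sep
  simp only [sepAccB, kallUpTo_iff, kanyUpTo_iff, Bool.or_eq_true, Bool.not_eq_true', Bool.and_eq_true,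
    Nat.ble_eq, zIsZero_iff, pairA_std] at h
  rcases h r hr with h | h
  · rw [Bool.eq_false_iff] at h; exact absurd (zPos_iff.2 (by omega)) h
  rcases h s hs with (h | h) | ⟨p, hp, h0, h1, h2⟩
  · rw [Bool.eq_false_iff] at h; exact absurd (zPos_iff.2 (by omega)) h
  · exact absurd (Nat.eq_of_beq_eq_true h).symm hne
  · exact ⟨p, hp, h0, h1, h2⟩

lemma exists_span {r : ℕ} (hr : r < D.nroots) (hr1 : 1 ≤ ht D r) :
    ∃ p < D.nroots, (D.pairing p r).natAbs = 1 ∨ (D.pairing p r).natAbs = 2 := by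
  have h := P.span
  simp only [spanB, kallUpTo_iff, kanyUpTo_iff, Bool.or_eq_true, Bool.not_eq_true', Bool.and_eq_true,
    Nat.ble_eq, pairA_std] at h
  rcases h r hr with h | ⟨p, hp, h1, h2⟩
  · rw [Bool.eq_false_iff] at h; exact absurd (zPos_iff.2 (by omega)) h
  · exact ⟨p, hp, by omega⟩

lemma sep_of_pair {r s p : ℕ} (hp : p < D.nroots) (h0 : D.pairing p s = 0)
    (hn : ¬ (Fintype.card F - 1) ∣ (D.pairing p r).natAbs) : Sep F D r s := by
  have hG := P.hU.toCommGood.toGood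
  obtain ⟨c, hc⟩ := IsCyclic.exists_generator (α := Fˣ)
  classical
  refine ⟨hg D F p (c : F), fun x => (c : F) ^ D.pairing p x, hG.hg_mem_H hp c.ne_zero,
    scalesAll_hg P.hU hp c.ne_zero, by simp only [h0, zpow_zero], fun h => hn ?_⟩
  have h' : c ^ D.pairing p r = 1 :=
    Units.ext (by rw [Units.val_zpow_eq_zpow_val, Units.val_one]; exact h)
  have ho : orderOf c = Fintype.card F - 1 := by
    rw [orderOf_eq_card_of_forall_mem_zpowers hc, Nat.card_eq_fintype_card, Fintype.card_units]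
  have := orderOf_dvd_iff_zpow_eq_one.2 h'
  rw [ho] at this
  exact Int.natCast_dvd.1 this

/-- Witnesses for the positive roots that are not fundamental. -/
lemma exists_wit (p : ℕ) [CharP F p] [hp : Fact p.Prime] {r : ℕ} (hr : r < D.nroots)
    (hr1 : 1 ≤ ht D r) (hns : ∀ i < D.rank, D.simple i ≠ r) :
    ∃ a b, a < D.nroots ∧ b < D.nroots ∧ b ≠ a ∧ 1 ≤ ht D a ∧ 1 ≤ ht D b ∧
      r ∈ (D.commTerms a b).map Prod.fst ∧
      ((D.commTerms a b).filter fun e => e.1 = r).length = 1 ∧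
      (∀ e ∈ D.commTerms a b, e.1 = r → ((e.2.1 : ℤ) : F) ≠ 0) ∧
      ∀ e ∈ D.commTerms a b, e.1 = r ∨ ht D e.1 ≠ ht D r := by
  have h := P.gen
  simp only [genB, kallUpTo_iff, Bool.or_eq_true, Bool.not_eq_true', kany_iff, List.any_eq_true,
    List.mem_range, beq_iff_eq, Bool.and_eq_true] at h
  rcases h r hr with (h | ⟨i, hi, h⟩) | ⟨w, -, ⟨⟨⟨⟨hw, h2⟩, h3⟩, ⟨⟨⟨ha, hb⟩, ha'⟩, hb'⟩⟩, hd2⟩, hd3⟩
  · rw [Bool.eq_false_iff] at h; exact absurd (zPos_iff.2 (by omega)) h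
  · exact absurd h (hns i hi)
  clear hw
  have key : ∀ (q a b : ℕ), witOK D q r a b = true → zPos (ht D a) = true → zPos (ht D b) = true →
      ((D.commTerms a b).all fun e => e.1 == r || !zEq (ht D e.1) (ht D r)) = true →
      (∀ n : ℕ, 1 ≤ n → n ≤ 3 → p ∣ n → q ∣ n) →
      ∃ a b, a < D.nroots ∧ b < D.nroots ∧ b ≠ a ∧ 1 ≤ ht D a ∧ 1 ≤ ht D b ∧
      r ∈ (D.commTerms a b).map Prod.fst ∧
      ((D.commTerms a b).filter fun e => e.1 = r).length = 1 ∧
      (∀ e ∈ D.commTerms a b, e.1 = r → ((e.2.1 : ℤ) : F) ≠ 0) ∧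
      ∀ e ∈ D.commTerms a b, e.1 = r ∨ ht D e.1 ≠ ht D r := by
    intro q a b hq ha hb hd hqp
    simp only [witOK, Bool.and_eq_true, decide_eq_true_eq, List.all_eq_true, beq_iff_eq] at hq
    obtain ⟨⟨h1, h2, h3⟩, h4, h5⟩ := hq
    have ha1 := zPos_iff.1 ha
    have hb1 := zPos_iff.1 hb
    refine ⟨a, b, h1, h2, h3, by omega, by omega, ?_, h4, fun e he he' h0 => ?_, fun e he => ?_⟩
    · obtain ⟨x, hx⟩ := List.length_eq_one_iff.1 h4
      have hx' : x ∈ (D.commTerms a b).filter fun e => e.1 = r := by rw [hx]; exact List.mem_singleton_self x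
      rw [List.mem_filter] at hx'
      exact List.mem_map.2 ⟨x, hx'.1, by simpa using hx'.2⟩
    · have h6 := h5 e he
      rw [if_pos he'] at h6
      simp only [decide_eq_true_eq] at h6
      refine h6.1 (Int.natCast_dvd.2 ?_)
      by_cases hz : e.2.1.natAbs = 0
      · rw [hz]; exact dvd_zero _
      exact hqp _ (by omega) h6.2 (Int.natCast_dvd.1 ((CharP.intCast_eq_zero_iff F p _).1 h0))
    · simp only [List.all_eq_true, Bool.or_eq_true, Bool.not_eq_true', beq_iff_eq] at hd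
      exact (hd e he).imp id fun h => fun h' => by rw [Bool.eq_false_iff] at h; exact h (zEq_iff.2 h')
  by_cases hp2 : p = 2
  · exact key 2 _ _ h2 ha hb hd2 (fun n _ _ h => hp2 ▸ h)
  · refine key 3 _ _ h3 ha' hb' hd3 fun n h1 h2 h => ?_
    have := Nat.le_of_dvd (by omega) h
    have := hp.out.two_le
    interval_cases n <;> interval_cases p <;> simp_all

/-- A positive root that is not fundamental is lowered inside its support. -/
lemma exists_desc {r : ℕ} (hr : r < D.nroots) (hr1 : 1 ≤ ht D r) (hns : ∀ i < D.rank, D.simple i ≠ r) :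
    ∃ i < D.rank, coef D r i ≠ 0 ∧ 1 ≤ ht D (D.reflectRoot i r) ∧ ht D (D.reflectRoot i r) < ht D r := by
  have h := P.desc
  simp only [descB, kallUpTo_iff, kanyUpTo_iff, Bool.or_eq_true, Bool.not_eq_true', List.any_eq_true,
    List.mem_range, beq_iff_eq, Bool.and_eq_true, zPos_iff] at h
  rcases h r hr with (h | ⟨i, hi, h⟩) | ⟨i, hi, h1, h2, h3⟩
  · rw [Bool.eq_false_iff] at h; exact absurd (zPos_iff.2 (by omega)) h
  · exact absurd h (hns i hi)
  · refine ⟨i, hi, fun e => ?_, by omega, by omega⟩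
    rw [e] at h1
    exact absurd (zIsZero_iff.2 rfl) (by rw [h1]; simp)

end SepPack

end Cfsg.Agent.Chev54
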