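import Cfsg.Agent.Chev54.SubParam
import Cfsg.Agent.Chev54.Layer

/-!
The leading coordinate of a commutator with a root element, and the fixed points in `U`.
-/

set_option autoImplicit false

namespace Cfsg.Agent.Chev54.Sub

open Cfsg.Lie Cfsg.Agent.ChevCore Cfsg.Agent.Chev54

variable {D : ChevalleyDatum} {k : Type*} [Field k]

/-- The map on the general linear group given by a ring endomorphism on entries. -/
abbrev mapE (D : ChevalleyDatum) (φ : k →+* k) : GL D.Idx k →* GL D.Idx k :=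
  Matrix.GeneralLinearGroup.map φ

lemma mapE_xg (φ : k →+* k) (hC : CommGood D) {r : ℕ} (hr : r < D.nroots) (t : k) :
    mapE D φ (xg D k r t) = xg D k r (φ t) := by
  refine Units.ext ?_
  show (xg D k r t : Matrix D.Idx D.Idx k).map φ = _
  rw [hC.toGood.val_xg, hC.toGood.val_xg, map_xg φ hC hr]

lemma mapE_prodL (φ : k →+* k) (hC : CommGood D) (L : List ℕ) (hL : ∀ r ∈ L, r < D.nroots)
    (t : ℕ → k) : mapE D φ (prodL D k L t) = prodL D k L fun r => φ (t r) := by
  induction L with
  | nil => simp [prodL]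
  | cons r L ih =>
    rw [prodL_cons, prodL_cons, map_mul, ih fun s hs => hL s (List.mem_cons_of_mem _ hs),
      mapE_xg φ hC (hL r (List.mem_cons_self ..))]

lemma prodL_mem_of {K : Subgroup (GL D.Idx k)} (L : List ℕ) {t : ℕ → k}
    (h : ∀ r ∈ L, xg D k r (t r) ∈ K) : prodL D k L t ∈ K :=
  list_prod_mem fun y hy => by
    obtain ⟨r, hr, rfl⟩ := List.mem_map.1 hy
    exact h r hr

section

variable (hU : UGood D)
include hU

/-- The product of a coordinate word: the coordinate at `w` in the layer `n`. -/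
lemma vec_word {n : ℤ} (hn : 1 ≤ n) {w : ℕ} (t u : k) :
    ∀ L : List (ℕ × ℤ × ℕ × ℕ), (∀ c ∈ L, c.1 < D.nroots ∧ n ≤ ht D c.1) →
    ∃ d, Vec n (wordG D k (L.map fun c => (c.1, (c.2.1 : k) * (-t) ^ c.2.2.1 * u ^ c.2.2.2))) d ∧
      (ht D w = n → d w =
        ((L.filter fun c => c.1 = w).map fun c => (c.2.1 : k) * (-t) ^ c.2.2.1 * u ^ c.2.2.2).sum) := by
  intro L
  induction L with
  | nil => intro _; exact ⟨fun _ => 0, by simpa [wordG] using vec_of_next hU (one_mem _), by simp⟩
  | cons c L ih =>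
    intro hc
    obtain ⟨d, hd, he⟩ := ih fun x hx => hc x (List.mem_cons_of_mem _ hx)
    obtain ⟨h1, h2⟩ := hc c (List.mem_cons_self ..)
    set v := (c.2.1 : k) * (-t) ^ c.2.2.1 * u ^ c.2.2.2
    have e : wordG D k ((c :: L).map fun c => (c.1, (c.2.1 : k) * (-t) ^ c.2.2.1 * u ^ c.2.2.2)) =
        xg D k c.1 v * wordG D k (L.map fun c => (c.1, (c.2.1 : k) * (-t) ^ c.2.2.1 * u ^ c.2.2.2)) := by
      simp [wordG, v]
    rw [e]
    rcases eq_or_lt_of_le h2 with h | h
    · refine ⟨Pi.single c.1 v + d, Vec.mul hU hn (h ▸ vec_xg hU h1 (by omega) v) hd, fun hw => ?_⟩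
      rw [Pi.add_apply, he hw]
      by_cases hcw : c.1 = w
      · subst hcw; simp [v]
      · simp [hcw, Ne.symm hcw]
    · refine ⟨(fun _ => 0) + d, Vec.mul hU hn (vec_of_next hU (xg_mem_XS h1 (show n + 1 ≤ ht D c.1 by omega) v)) hd,
        fun hw => ?_⟩
      have hcw : c.1 ≠ w := fun e => by rw [e] at h; omega
      simp [he hw, hcw]

/-- The leading coordinate of the commutator with `x_s(1)`. -/
theorem lead_comm {r s w : ℕ} {γ : ℤ} {rest : List (ℕ × ℤ × ℕ × ℕ)} (hr : r < D.nroots)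
    (hs : s < D.nroots) (hr1 : 1 ≤ ht D r) (hs1 : 1 ≤ ht D s) (hrs : s ≠ r)
    (hL : D.commTerms r s = (w, γ, 1, 1) :: rest) (hrest : ∀ c ∈ rest, c.1 ≠ w)
    {y : GL D.Idx k} (hy : y ∈ XS D k (htGe D (ht D r))) :
    ∃ d e, Vec (ht D r) y d ∧
      Vec (ht D r + ht D s) (y * xg D k s 1 * y⁻¹ * (xg D k s 1)⁻¹) e ∧ e w = (γ : k) * d r := by
  have hG := hU.toCommGood.toGood
  set m := ht D r
  set h := ht D s
  set x := xg D k s (1 : k)
  have hx : x ∈ XS D k (htGe D 1) := xg_mem_XS hs hs1 _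
  have hle : XS D k (htGe D m) ≤ XS D k (htGe D 1) :=
    XS_mono fun q (hq : m ≤ ht D q) => show 1 ≤ ht D q by omega
  induction hy using Subgroup.closure_induction'' with
  | one =>
    exact ⟨fun _ => 0, fun _ => 0, vec_of_next hU (one_mem _),
      by simpa using vec_of_next hU (one_mem _), by simp⟩
  | mul a b ha hb iha ihb =>
    obtain ⟨d, e, hd, he, hew⟩ := iha
    obtain ⟨d', e', hd', he', hew'⟩ := ihb
    refine ⟨d + d', e' + e, hd.mul hU (by omega) hd', ?_, by simp [hew, hew', mul_add, add_comm]⟩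
    refine (show a * (b * x * b⁻¹ * x⁻¹) * a⁻¹ * (a * x * a⁻¹ * x⁻¹) =
      a * b * x * (a * b)⁻¹ * x⁻¹ by group) ▸ Vec.mul hU (by omega) (he'.conj hU (by omega) ?_) he
    exact hle ha
  | mem y hy =>
    obtain ⟨q, t, hq, hqm, rfl⟩ := hy
    exact gen q hq hqm t
  | inv_mem y hy =>
    obtain ⟨q, t, hq, hqm, rfl⟩ := hy
    rw [hG.xg_inv]
    exact gen q hq hqm (-t)
where
  gen (q : ℕ) (hq : q < D.nroots) (hqm : ht D r ≤ ht D q) (t : k) :
      ∃ d e, Vec (ht D r) (xg D k q t) d ∧
        Vec (ht D r + ht D s) (xg D k q t * xg D k s 1 * (xg D k q t)⁻¹ * (xg D k s 1)⁻¹) e ∧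
        e w = (γ : k) * d r := by
    have hG := hU.toCommGood.toGood
    obtain ⟨d, hd, hdr⟩ : ∃ d, Vec (ht D r) (xg D k q t) d ∧ d r = if q = r then t else 0 := by
      rcases eq_or_lt_of_le hqm with e | e
      · refine ⟨Pi.single q t, e ▸ vec_xg hU hq (by omega) t, ?_⟩
        by_cases hqr : q = r
        · subst hqr; simp
        · simp [hqr, Ne.symm hqr]
      · refine ⟨fun _ => 0, vec_of_next hU (xg_mem_XS hq (show ht D r + 1 ≤ ht D q by omega) t), ?_⟩
        rw [if_neg fun h => by rw [h] at e; omega]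
    by_cases hqs : q = s
    · subst hqs
      refine ⟨d, fun _ => 0, hd, ?_, by rw [hdr, if_neg hrs, mul_zero]⟩
      have e0 : xg D k q t * xg D k q 1 * (xg D k q t)⁻¹ * (xg D k q 1)⁻¹ = 1 := by
        rw [← hG.xg_add, add_comm, hG.xg_add]; group
      rw [e0]
      exact vec_of_next hU (one_mem _)
    · have hneg : s ≠ D.neg q := fun h => by
        rw [h, hG.ht_neg hq] at hs1; omega
      have hc := hU.toCommGood.xg_comm hq hs (Ne.symm hqs) hneg t (1 : k)
      rw [ChevalleyDatum.commWord] at hc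
      have hht : ∀ c ∈ D.commTerms q s, c.1 < D.nroots ∧ ht D r + ht D s ≤ ht D c.1 := by
        intro c hc'
        obtain ⟨h1, h2, h3, -⟩ := hG.commTerms_coef hq hs hc'
        refine ⟨h1, ?_⟩
        rw [hG.commTerms_ht hq hs hc']
        have : (1 : ℤ) ≤ c.2.2.1 := by exact_mod_cast h2
        have : (1 : ℤ) ≤ c.2.2.2 := by exact_mod_cast h3
        nlinarith
      obtain ⟨f, hf, hfw⟩ := vec_word hU (show 1 ≤ ht D r + ht D s by omega) (w := w) t 1 _ hht
      have hxs : xg D k s 1 * xg D k q t ∈ XS D k (htGe D 1) :=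
        mul_mem (xg_mem_XS hs hs1 _) (xg_mem_XS hq (show 1 ≤ ht D q by omega) t)
      have hwv := (hf.inv hU (by omega)).conj hU (by omega) hxs
      refine ⟨d, -f, hd, ?_, ?_⟩
      · have e : xg D k q t * xg D k s 1 = xg D k s 1 * xg D k q t *
            (wordG D k ((D.commTerms q s).map fun c =>
              (c.1, (c.2.1 : k) * (-t) ^ c.2.2.1 * (1 : k) ^ c.2.2.2)))⁻¹ := by
          rw [hc]; group
        rw [_root_.mul_inv_rev, ← mul_assoc] at hwv
        rwa [e]
      · obtain ⟨hw1, -, -, hwc⟩ := hG.commTerms_coef hr hs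
          (show (w, γ, 1, 1) ∈ D.commTerms r s by rw [hL]; exact List.mem_cons_self ..)
        have hwht : ht D w = ht D r + ht D s := by
          have := hG.commTerms_ht hr hs
            (show (w, γ, 1, 1) ∈ D.commTerms r s by rw [hL]; exact List.mem_cons_self ..)
          simpa using this
        rw [Pi.neg_apply, hfw hwht, hdr]
        by_cases hqr : q = r
        · subst hqr
          rw [if_pos rfl, hL, List.filter_cons_of_pos (by simp),
            List.filter_eq_nil_iff.2 fun c hc' => by simpa using hrest c hc']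
          simp
        · rw [if_neg hqr, mul_zero, List.filter_eq_nil_iff.2 ?_]
          · simp
          intro c hc' hcw
          simp only [decide_eq_true_eq] at hcw
          obtain ⟨h1, h2, h3, h4⟩ := hG.commTerms_coef hq hs hc'
          have hh := hG.commTerms_ht hq hs hc'
          rw [hcw, hwht] at hh
          have a2 : (1 : ℤ) ≤ c.2.2.1 := by exact_mod_cast h2
          have a3 : (1 : ℤ) ≤ c.2.2.2 := by exact_mod_cast h3
          have e1 : (c.2.2.1 : ℤ) = 1 := by nlinarith
          have e2 : (c.2.2.2 : ℤ) = 1 := by nlinarith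
          refine hqr (hU.root_ext hq hr fun j hj => ?_)
          have ha := h4 j hj
          have hb := hwc j hj
          rw [hcw, e1, e2] at ha
          simp only [Nat.cast_one, one_mul] at ha hb
          omega

end

/-- A finite subgroup with its field of parameters. -/
structure Ctx (H : Subgroup (GL D.Idx k)) (L : Subfield k) (φ : k →+* k) : Prop extends Hyp H where
  par : ∀ r, r < D.nroots → ∀ t, xg D k r t ∈ H ↔ t ∈ L
  fix : ∀ t, φ t = t ↔ t ∈ L

variable {H : Subgroup (GL D.Idx k)} {L : Subfield k} {φ : k →+* k} (hH : Ctx H L φ)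
include hH

/-- A fixed element of `U` lies in `H`. -/
theorem Ctx.mem_of_fixed {u : GL D.Idx k} (hu : u ∈ XS D k (htGe D 1))
    (hf : mapE D φ u = u) : u ∈ H := by
  have hU := hH.toHyp.ug
  obtain ⟨t, ht0, e⟩ := hU.exists_prod posL_nodup (mem_posL' hU) hu
  rw [← e] at hf ⊢
  rw [mapE_prodL φ hH.toHyp.comm _ fun r hr => ((mem_posL' hU r).1 hr).1] at hf
  have := hU.prodL_injective posL_nodup (mem_posL' hU) (fun r hr => by simp [ht0 r hr]) ht0 hf
  exact prodL_mem_of _ fun r hr =>
    (hH.par r ((mem_posL' hU r).1 hr).1 _).2 ((hH.fix _).1 (congrFun this r))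

/-- A root element with parameter in the field is fixed. -/
theorem Ctx.xg_fixed {r : ℕ} (hr : r < D.nroots) {t : k} (ht : t ∈ L) :
    mapE D φ (xg D k r t) = xg D k r t := by
  rw [mapE_xg φ hH.toHyp.comm hr, (hH.fix t).2 ht]

end Cfsg.Agent.Chev54.Sub
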