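import Cfsg.Agent.Lib.ChevCore.CommAll
import Cfsg.Agent.Lib.ChevCore.SepAll
import Cfsg.Agent.Lib.ChevCore.Parabolic
import Mathlib.FieldTheory.Finite.Basic

/-!
Finite subgroups of a Chevalley group containing the root elements `x_r(1)`: the parameters of the
root elements in such a subgroup form one finite subfield, the same for all roots.
-/

set_option autoImplicit false

namespace Cfsg.Agent.Chev54.Sub

open Cfsg.Lie Cfsg.Agent.ChevCore

variable {D : ChevalleyDatum} {k : Type*} [Field k]

/-- The standing hypotheses on a subgroup. -/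
structure Hyp (H : Subgroup (GL D.Idx k)) : Prop where
  mem : D ∈ [chevG2, chevB2, chevD4, chevF4, chevE6, chevE7, chevE8]
  le : H ≤ D.group k
  fin : Finite ↥H
  one : ∀ r, r < D.nroots → xg D k r 1 ∈ H

variable {H : Subgroup (GL D.Idx k)} (hH : Hyp H)
include hH

lemma Hyp.comm : CommGood D := commGood_of_mem hH.mem

lemma Hyp.good : Good D := hH.comm.toGood

lemma Hyp.ug : UGood D := uGood_of_mem hH.mem

/-- The parameters of the root elements of `r` lying in `H`. -/
def Hyp.par (r : ℕ) : AddSubgroup k where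
  carrier := {t | xg D k r t ∈ H}
  add_mem' {a b} (ha : xg D k r a ∈ H) (hb : xg D k r b ∈ H) := by
    show xg D k r (a + b) ∈ H
    rw [hH.good.xg_add]; exact mul_mem ha hb
  zero_mem' := by show xg D k r 0 ∈ H; rw [hH.good.xg_zero]; exact one_mem _
  neg_mem' {a} (ha : xg D k r a ∈ H) := by
    show xg D k r (-a) ∈ H
    rw [← hH.good.xg_inv]; exact inv_mem ha

lemma Hyp.mem_par {r : ℕ} {t : k} : t ∈ hH.par r ↔ xg D k r t ∈ H := Iff.rfl

lemma Hyp.one_par {r : ℕ} (hr : r < D.nroots) : (1 : k) ∈ hH.par r := hH.one r hr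

lemma Hyp.par_finite {r : ℕ} (hr : r < D.nroots) : ((hH.par r : AddSubgroup k) : Set k).Finite := by
  haveI := hH.fin
  exact Set.Finite.of_finite_image ((Set.toFinite (H : Set (GL D.Idx k))).subset
    (by rintro _ ⟨t, ht, rfl⟩; exact ht)) (hH.good.xg_injective hr).injOn

lemma Hyp.nw_mem {w : List ℕ} (hw : ∀ i ∈ w, i < D.rank) : nw D k w ∈ H := by
  refine list_prod_mem fun y hy => ?_
  obtain ⟨i, hi, rfl⟩ := List.mem_map.1 hy
  have hp := hH.good.simple_lt (hw i hi)
  have h1 := hH.one _ (hH.good.neg_lt hp)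
  rw [ng, inv_one, ← hH.good.xg_inv]
  exact mul_mem (mul_mem (hH.one _ hp) (inv_mem h1)) (hH.one _ hp)

lemma Hyp.par_le_act {w : List ℕ} (hw : ∀ i ∈ w, i < D.rank) {r : ℕ} (hr : r < D.nroots) :
    hH.par r ≤ hH.par (actW D w r) := by
  intro t ht
  have h := mul_mem (mul_mem (hH.nw_mem hw) ht) (inv_mem (hH.nw_mem hw))
  rw [hH.good.nw_conj_x hw hr] at h
  rcases mul_self_eq_one_iff.1 (show ((etaWord D w r : ℤ) : k) * (etaWord D w r : k) = 1 by
    rw [← Int.cast_mul, Good.etaWord_sq, Int.cast_one]) with e | e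
  · rwa [e, one_mul] at h
  · rw [e, neg_one_mul] at h
    exact neg_mem_iff.1 h

lemma Hyp.par_act {w : List ℕ} (hw : ∀ i ∈ w, i < D.rank) {r : ℕ} (hr : r < D.nroots) :
    hH.par (actW D w r) = hH.par r := by
  refine le_antisymm ?_ (hH.par_le_act hw hr)
  have hwr : ∀ i ∈ w.reverse, i < D.rank := fun i hi => hw i (List.mem_reverse.1 hi)
  have := hH.par_le_act hwr (hH.good.actW_lt hw hr)
  have e := hH.good.actW_reverse (w := w.reverse) hwr hr
  rw [List.reverse_reverse] at e
  rwa [e] at this

/-- A value of `reflectRoot` gives equal parameters. -/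
lemma Hyp.par_eq_of_act {w : List ℕ} (hw : w.all (· < D.rank) = true) {r s : ℕ} (hr : r < D.nroots)
    (e : actW D w r = s) : hH.par s = hH.par r := by
  rw [← e, hH.par_act (fun i hi => by simpa using List.all_eq_true.1 hw i hi) hr]

/-- The commutator word of two root elements of `H` lies in `H`. -/
lemma Hyp.word_mem {r s : ℕ} (hr : r < D.nroots) (hs : s < D.nroots) (h1 : s ≠ r)
    (h2 : s ≠ D.neg r) {t u : k} (ht : t ∈ hH.par r) (hu : u ∈ hH.par s)
    {L : List (ℕ × ℤ × ℕ × ℕ)} (hL : D.commTerms r s = L) :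
    wordG D k (L.map fun c => (c.1, (c.2.1 : k) * (-t) ^ c.2.2.1 * u ^ c.2.2.2)) ∈ H := by
  subst hL
  have e := hH.comm.xg_comm hr hs h1 h2 t u
  have h := mul_mem (inv_mem (mul_mem (hH.mem_par.1 ht) (hH.mem_par.1 hu)))
    (mul_mem (hH.mem_par.1 hu) (hH.mem_par.1 ht))
  rw [e, inv_mul_cancel_left] at h
  exact h

omit hH in
lemma frob_inj (p : ℕ) [Fact p.Prime] [CharP k p] {a b : k} (h : a ^ p = b ^ p) : a = b :=
  frobenius_inj k p h

omit hH in
/-- A finite subset of a field containing one and closed under the ring operations is closed under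
inversion. -/
lemma inv_mem_of_finite {S : AddSubgroup k} (hfin : (S : Set k).Finite) (h1 : (1 : k) ∈ S)
    (hmul : ∀ a ∈ S, ∀ b ∈ S, a * b ∈ S) {a : k} (ha : a ∈ S) : a⁻¹ ∈ S := by
  rcases eq_or_ne a 0 with rfl | h0
  · rw [inv_zero]; exact zero_mem S
  have hb := (hfin.injOn_iff_bijOn_of_mapsTo (f := (a * ·)) fun b hb => hmul a ha b hb).1
    (mul_right_injective₀ h0).injOn
  obtain ⟨b, hb, e⟩ := hb.surjOn h1
  rw [← eq_inv_of_mul_eq_one_right e]
  exact hb

/-- Two long roots whose commutator is one root element: their parameters multiply. -/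
lemma Hyp.mul_of_pair {r s u : ℕ} {e : ℤ} (he : e = 1 ∨ e = -1) (hr : r < D.nroots)
    (hs : s < D.nroots) (h1 : s ≠ r) (h2 : s ≠ D.neg r) (hL : D.commTerms r s = [(u, e, 1, 1)])
    {a b : k} (ha : a ∈ hH.par r) (hb : b ∈ hH.par s) : a * b ∈ hH.par u := by
  have h := hH.word_mem hr hs h1 h2 ha hb hL
  simp only [List.map_cons, List.map_nil, pow_one, wordG, List.prod_cons, List.prod_nil,
    mul_one] at h
  rcases he with rfl | rfl <;> push_cast at h
  · rw [one_mul, neg_mul] at h
    exact neg_mem_iff.1 h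
  · rw [neg_one_mul, neg_neg] at h
    exact h

omit hH in
/-- A finite ring of parameters over which every element is quadratic in a special way is closed
under multiplication. -/
lemma mul_closed_of_sq {A : AddSubgroup k} [CharP k 2] (hfin : (A : Set k).Finite)
    (h1 : (1 : k) ∈ A) (hsq : ∀ a ∈ A, a * a ∈ A)
    (hP : ∀ a ∈ A, ∀ b ∈ A, a * (b + b * b) ∈ A) {a b : k} (ha : a ∈ A) (hb : b ∈ A) :
    a * b ∈ A := by
  classical
  let R : Set k := {c | ∀ x ∈ A, c * x ∈ A}
  have hRA : R ⊆ A := fun c hc => by simpa using hc 1 h1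
  let R' : AddSubgroup k :=
    { carrier := R
      add_mem' := fun {x y} hx hy z hz => by rw [add_mul]; exact add_mem (hx z hz) (hy z hz)
      zero_mem' := fun z _ => by simp
      neg_mem' := fun {x} hx z hz => by rw [neg_mul]; exact neg_mem (hx z hz) }
  have hRf : (R : Set k).Finite := hfin.subset hRA
  have hRm : ∀ x ∈ R, ∀ y ∈ R, x * y ∈ R := fun x hx y hy z hz => by
    rw [mul_assoc]; exact hx _ (hy z hz)
  have hR1 : (1 : k) ∈ R := fun z hz => by rwa [one_mul]
  let K : Subfield k :=
    { carrier := R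
      mul_mem' := fun {x y} hx hy => hRm x hx y hy
      one_mem' := hR1
      add_mem' := fun {x y} hx hy => R'.add_mem hx hy
      zero_mem' := R'.zero_mem
      neg_mem' := fun {x} hx => R'.neg_mem hx
      inv_mem' := fun x hx => inv_mem_of_finite (S := R') hRf hR1 hRm hx }
  haveI : Fintype K := hRf.fintype
  set n := Fintype.card K with hn
  have hfix : ∀ x ∈ R, x ^ n = x := fun x hx => by
    have := congrArg (Subtype.val (p := (· ∈ K))) (FiniteField.pow_card (⟨x, hx⟩ : K))
    simpa [hn] using this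
  have hroot : ∀ x : k, x ^ n = x → x ∈ R := by
    intro x hx
    by_contra hnot
    have h2 : 1 < n := Fintype.one_lt_card
    have hne : (Polynomial.X ^ n - Polynomial.X : Polynomial k) ≠ 0 :=
      FiniteField.X_pow_card_sub_X_ne_zero k h2
    have hsub : insert x hRf.toFinset ⊆ (Polynomial.X ^ n - Polynomial.X : Polynomial k).roots.toFinset := by
      intro y hy
      rw [Multiset.mem_toFinset, Polynomial.mem_roots hne]
      rcases Finset.mem_insert.1 hy with rfl | hy
      · simp [hx]
      · simp [hfix y (hRf.mem_toFinset.1 hy)]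
    have hc := (Finset.card_le_card hsub).trans (Multiset.toFinset_card_le _)
    have hd := Polynomial.card_roots' (Polynomial.X ^ n - Polynomial.X : Polynomial k)
    rw [FiniteField.X_pow_card_sub_X_natDegree_eq k h2] at hd
    rw [Finset.card_insert_of_notMem (by simpa using hnot)] at hc
    have hcard : hRf.toFinset.card = n := by
      rw [hn, ← Nat.card_eq_fintype_card, ← Nat.card_eq_card_finite_toFinset hRf]
      rfl
    omega
  obtain ⟨f, -, hf⟩ := FiniteField.card K 2
  have hadd : ∀ x y : k, (x + y) ^ n = x ^ n + y ^ n := fun x y => by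
    rw [hn, hf]; exact add_pow_char_pow x y 2 _
  have heps : ∀ x ∈ A, x ^ n = x ∨ x ^ n = x + 1 := by
    intro x hx
    have hd : (x + x * x) ∈ R := fun y hy => by rw [mul_comm]; exact hP y hy x hx
    have e := hfix _ hd
    rw [hadd, mul_pow] at e
    have e2 : (x ^ n + x) * (x ^ n + x + 1) = 0 := by
      have h20 : (2 : k) = 0 := CharTwo.two_eq_zero
      linear_combination e + (x * x ^ n + x + x * x) * h20
    rcases mul_eq_zero.1 e2 with h | h
    · exact Or.inl (CharTwo.add_eq_zero.1 h)
    · exact Or.inr (CharTwo.add_eq_zero.1 (by rwa [← add_assoc]))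
  by_cases haR : a ∈ R
  · exact haR b hb
  by_cases hbR : b ∈ R
  · rw [mul_comm]; exact hbR a ha
  have ea := (heps a ha).resolve_left fun h => haR (hroot a h)
  have eb := (heps b hb).resolve_left fun h => hbR (hroot b h)
  have hc : a + b ∈ R := hroot _ (by
    rw [hadd, ea, eb, show a + 1 + (b + 1) = a + b + (1 + 1) by ring,
      CharTwo.add_self_eq_zero, add_zero])
  have h20 : (2 : k) = 0 := CharTwo.two_eq_zero
  have e : a * b = b * b + (a + b) * b := by linear_combination (-(b * b)) * h20
  rw [e]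
  exact add_mem (hsq b hb) (hc b hb)

end Cfsg.Agent.Chev54.Sub
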