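import Cfsg.Agent.Chev54.SubTits
import Cfsg.Agent.Chev34.Odd
import Cfsg.Agent.PLocalB.SL2Dickson

/-!
The fixed elements control the fusion of `p`-elements in a finite subgroup containing the root elements
over a subfield, so that subgroup consists of fixed elements. The arguments from involutions and from
long root `SL₂`s follow `Chev34.Locals` and `Chev34.Odd`, with the fixed root elements only.
-/

set_option autoImplicit false
set_option linter.unusedSimpArgs false

namespace Cfsg.Agent.Chev54.Sub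

open Cfsg.Lie Cfsg.Agent.ChevCore Cfsg.Agent.Chev54
open Cfsg.Agent.Chev34 (mem_of_conj_mem oddB commute_xg xg_pow borel_conj_top exists_split)
open scoped MatrixGroups

variable {D : ChevalleyDatum} {F : Type*} [Field F]

/-- A finite subgroup of `SL(2)` containing unipotent elements on both sides contains `-1`. -/
theorem neg_one_mem_finite [IsAlgClosed F] (p : ℕ) [Fact p.Prime] [CharP F p] (hp : p ≠ 2)
    (Γ : Subgroup SL(2, F)) [Finite ↥Γ] {c : F} (hc : c ≠ 0) (h1 : slU 1 ∈ Γ) (h2 : slL c ∈ Γ) :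
    (-1 : SL(2, F)) ∈ Γ := by
  obtain ⟨t, ht⟩ := PLocalB.containsPrimeSL_of_upper (p := p) hp Γ (show PLocalB.upper (1 : F) ∈ Γ from h1)
    ⟨slL c, h2, by simpa [coe_slL] using hc⟩
  have h := ht (-1)
  have e : PLocalB.primeEmb p F (-1) = -1 := by
    ext i j
    fin_cases i <;> fin_cases j <;> simp [PLocalB.primeEmb]
  rwa [e, show t⁻¹ * (-1) * t = -1 by simp] at h

/-- The preimage of a finite subgroup in a root `SL(2)` is finite. -/
theorem finite_comap (hG : Good D) {r : ℕ} (hr : r < D.nroots) (hr1 : 1 ≤ ht D r)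
    {H : Subgroup (GL D.Idx F)} (hfin : Finite ↥H) {ψ : SL(2, F) →* GL D.Idx F}
    (hψU : ∀ t, ψ (slU t) = xg D F r t) (hψL : ∀ t, ψ (slL t) = xg D F (D.neg r) t)
    {u : GL D.Idx F} : Finite ↥(H.comap ((MulAut.conj u).toMonoidHom.comp ψ)) := by
  set f' := (MulAut.conj u).toMonoidHom.comp ψ
  have hpn : ∀ c, ψ (pn slU slL c) = ng D F r c := fun c => by simp only [pn, map_mul, hψU, hψL, ng]
  have hph : ∀ c, ψ (ph slU slL c) = hg D F r c := fun c => by simp only [ph, map_mul, hpn, hg]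
  have hker : ∀ g : SL(2, F), ψ g = 1 → g ∈ ({1, ph slU slL (-1)} : Set SL(2, F)) := by
    intro g hg1
    rcases (pairRel_sl (F := F)).bruhat_of_mem (sl_generated g) with ⟨a, b, ha, rfl⟩ | ⟨a, b, e, ha, rfl⟩
    · rw [map_mul, hph, hψU] at hg1
      have h1 := hG.hg_conj_x hr hr ha (1 : F)
      rw [show hg D F r a = (xg D F r b)⁻¹ from eq_inv_of_mul_eq_one_left hg1, inv_inv, hG.xg_inv,
        ← hG.xg_add, ← hG.xg_add, hG.pairing_self hr, zpow_two, mul_one] at h1
      have h2 := hG.xg_injective hr h1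
      rw [show -b + 1 + b = 1 by ring] at h2
      rcases mul_self_eq_one_iff.1 h2.symm with rfl | rfl
      · have hb : xg D F r b = xg D F r 0 := by
          rw [hG.xg_zero, ← hg1, show hg D F r (1 : F) = ψ (ph slU slL 1) from (hph 1).symm,
            (pairRel_sl (F := F)).h_one, map_one, one_mul]
        rw [hG.xg_injective hr hb, (pairRel_sl (F := F)).h_one, (pairRel_sl (F := F)).x_zero, one_mul]
        exact Or.inl rfl
      · have hb : xg D F r b ∈ D.posUnipotent F ⊓ D.diagonalSubgroup F := by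
          refine Subgroup.mem_inf.2 ⟨?_, ?_⟩
          · rw [hG.posUnipotent_eq]; exact xg_mem_XS hr hr1 b
          · rw [show xg D F r b = (hg D F r (-1))⁻¹ from eq_inv_of_mul_eq_one_right hg1]
            exact inv_mem (hG.hg_mem_H hr (neg_ne_zero.2 one_ne_zero))
        rw [hG.pos_inf_H, Subgroup.mem_bot, ← hG.xg_zero r] at hb
        rw [hG.xg_injective hr hb, (pairRel_sl (F := F)).x_zero, mul_one]
        exact Or.inr rfl
    · exfalso
      simp only [map_mul, hph, hpn, hψU] at hg1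
      -- the conjugate of `x_r(1)` would be opposite
      set X := hg D F r a * ng D F r 1
      have hX : X = xg D F r (-(a ^ D.pairing r r * b) + -e) := by
        have h2 : X = (hg D F r a * xg D F r b * (hg D F r a)⁻¹)⁻¹ *
            (hg D F r a * xg D F r b * ng D F r 1 * xg D F r e) * (xg D F r e)⁻¹ := by
          simp only [X]; group
        rw [hg1, mul_one, hG.hg_conj_x hr hr ha, hG.xg_inv, hG.xg_inv, ← hG.xg_add] at h2
        exact h2
      have h3 : X * xg D F r 1 * X⁻¹ = xg D F (D.neg r) (a ^ D.pairing r (D.neg r) * -1) := by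
        calc X * xg D F r 1 * X⁻¹ = hg D F r a * (ng D F r 1 * xg D F r 1 * (ng D F r 1)⁻¹) *
              (hg D F r a)⁻¹ := by simp only [X]; group
          _ = _ := by rw [hG.ng_conj_self hr, hG.hg_conj_x hr (hG.neg_lt hr) ha]
      rw [hX, hG.xg_inv, ← hG.xg_add, ← hG.xg_add, add_right_comm, add_neg_cancel, zero_add] at h3
      have h4 : xg D F r (1 : F) ∈ D.borelSubgroup F ⊓ D.negUnipotent F := by
        refine Subgroup.mem_inf.2 ⟨hG.xg_mem_borel hr hr1 1, ?_⟩
        rw [h3, hG.negUnipotent_eq]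
        exact xg_mem_XS (hG.neg_lt hr) (show ht D (D.neg r) ≤ -1 by rw [hG.ht_neg hr]; omega) _
      rw [hG.borel_inf_neg, Subgroup.mem_bot] at h4
      exact one_ne_zero (hG.xg_injective hr (h4.trans (hG.xg_zero r).symm))
  have hfin' : ((H.comap f' : Subgroup SL(2, F)) : Set SL(2, F)).Finite := by
    have hf : (H : Set (GL D.Idx F)).Finite := Set.finite_coe_iff.1 hfin
    show (f' ⁻¹' (H : Set (GL D.Idx F))).Finite
    refine hf.preimage' fun y _ => ?_
    rcases Set.eq_empty_or_nonempty (f' ⁻¹' {y}) with h | ⟨g0, hg0⟩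
    · rw [h]; exact Set.finite_empty
    refine ((Set.toFinite ({1, ph slU slL (-1)} : Set SL(2, F))).image (g0 * ·)).subset fun g hg => ?_
    refine ⟨g0⁻¹ * g, hker _ ?_, mul_inv_cancel_left g0 g⟩
    have e : f' (g0⁻¹ * g) = 1 := by
      rw [map_mul, map_inv, show f' g0 = y from hg0, show f' g = y from hg, inv_mul_cancel]
    exact (MulAut.conj u).injective (by rw [map_one]; exact e)
  exact hfin'.to_subtype

section

variable {H : Subgroup (GL D.Idx F)} {L : Subfield F} {φ : F →+* F} (hH : Ctx H L φ)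
  {Z : List ℕ} (hZ : ZGood H L Z) (p : ℕ) [Fact p.Prime] [CharP F p]
include hH hZ

omit hH hZ [CharP F p] in
lemma zpowers_pgroup {v : GL D.Idx F} (hvp : ∃ k : ℕ, v ^ p ^ k = 1) :
    IsPGroup p (Subgroup.zpowers v) := by
  rintro ⟨z, hz⟩
  obtain ⟨i, rfl⟩ := Subgroup.mem_zpowers_iff.1 hz
  obtain ⟨k, hk⟩ := hvp
  refine ⟨k, Subtype.ext ?_⟩
  simp only [SubmonoidClass.coe_pow, OneMemClass.coe_one]
  rw [← zpow_natCast, ← zpow_mul, mul_comm, zpow_mul, zpow_natCast, hk, one_zpow]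

/-- The centralizer in `H` of a fixed `p`-element is fixed. -/
theorem centralizer_fixed {v : GL D.Idx F} (hv : v ∈ H ⊓ Fx D φ) (hvp : ∃ k : ℕ, v ^ p ^ k = 1)
    (hv1 : v ≠ 1) {n : GL D.Idx F} (hn : n ∈ H) (hnv : n * v = v * n) : mapE D φ n = n := by
  refine local_fixed hH hZ p (Q := Subgroup.zpowers v) (Subgroup.zpowers_le.2 hv)
    (zpowers_pgroup p hvp) (Subgroup.zpowers_ne_bot.2 hv1) hn ?_
  refine Subgroup.centralizer_le_normalizer _ (Subgroup.mem_centralizer_iff.2 fun z hz => ?_)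
  obtain ⟨i, rfl⟩ := Subgroup.mem_zpowers_iff.1 hz
  exact (Commute.zpow_right (show Commute n v from hnv) i).symm.eq

/-- A fixed `p`-element moved to a fixed element by an element of `H`. -/
theorem of_conj_mem {v : GL D.Idx F} (hv : v ∈ H ⊓ Fx D φ) (hvp : ∃ k : ℕ, v ^ p ^ k = 1)
    (hv1 : v ≠ 1) {n : GL D.Idx F} (hn : n ∈ H) (hnv : mapE D φ (n * v * n⁻¹) = n * v * n⁻¹) :
    mapE D φ n = n := by
  haveI := hH.toHyp.fin
  have h := mem_of_conj_mem p ((H ⊓ Fx D φ).subgroupOf H) (fun Q hQ hQp hQ1 z hz => ?_)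
    (x := ⟨v, hv.1⟩) (g := ⟨n, hn⟩) hv (hvp.imp fun k hk => Subtype.ext hk)
    (fun e => hv1 (congrArg Subtype.val e))
    (Subgroup.mem_inf.2 ⟨mul_mem (mul_mem hn hv.1) (inv_mem hn), hnv⟩)
  · exact h.2
  refine ⟨z.2, local_fixed hH hZ p (Q := Q.map H.subtype) ?_ (hQp.map _) (fun e => hQ1 ?_) z.2 ?_⟩
  · rintro _ ⟨y, hy, rfl⟩
    exact hQ hy
  · rwa [Subgroup.map_eq_bot_iff_of_injective _ H.subtype_injective] at e
  · rw [Subgroup.mem_normalizer_iff]
    intro w
    have key := Subgroup.mem_normalizer_iff.1 hz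
    constructor
    · rintro ⟨y, hy, rfl⟩
      exact ⟨z * y * z⁻¹, (key y).1 hy, rfl⟩
    · rintro ⟨y, hy, e⟩
      refine ⟨z⁻¹ * y * z, (key _).2 (by simpa [mul_assoc] using hy), ?_⟩
      show (z : GL D.Idx F)⁻¹ * (y : GL D.Idx F) * z = w
      rw [show (y : GL D.Idx F) = z * w * (z : GL D.Idx F)⁻¹ from e]
      group

/-- In characteristic two `H` is fixed as soon as it has two fixed classes of involutions. -/
theorem fixed_two (hp : p = 2) {x t : GL D.Idx F} (hx : x ∈ H ⊓ Fx D φ) (ht : t ∈ H ⊓ Fx D φ)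
    (hx2 : orderOf x = 2) (ht2 : orderOf t = 2) (hxt : ¬ ∃ g ∈ D.group F, g * x * g⁻¹ = t) :
    ∀ n ∈ H, mapE D φ n = n := by
  subst hp
  haveI := hH.toHyp.fin
  intro n hn
  by_contra hnR
  have pw : ∀ {v : GL D.Idx F}, orderOf v = 2 → ∃ k : ℕ, v ^ 2 ^ k = 1 := fun hv =>
    ⟨1, by rw [pow_one, ← hv]; exact pow_orderOf_eq_one _⟩
  have ne : ∀ {v : GL D.Idx F}, orderOf v = 2 → v ≠ 1 := fun hv e => by
    rw [e, orderOf_one] at hv; omega
  set y := n * x * n⁻¹
  have hyH : y ∈ H := mul_mem (mul_mem hn hx.1) (inv_mem hn)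
  have hyR : ¬ mapE D φ y = y := fun h => hnR (of_conj_mem hH hZ 2 hx (pw hx2) (ne hx2) hn h)
  have ht' : orderOf (⟨t, ht.1⟩ : H) = 2 := by rw [← Subgroup.orderOf_coe]; exact ht2
  have hy' : orderOf (⟨y, hyH⟩ : H) = 2 := by
    rw [← Subgroup.orderOf_coe]
    show orderOf (n * x * n⁻¹) = 2
    rw [← MulAut.conj_apply, MulEquiv.orderOf_eq, hx2]
  by_cases hc : IsConj (⟨t, ht.1⟩ : H) ⟨y, hyH⟩
  · obtain ⟨c, hc⟩ := isConj_iff.1 hc
    have e : (c : GL D.Idx F) * t * (c : GL D.Idx F)⁻¹ = n * x * n⁻¹ := congrArg Subtype.val hc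
    refine hxt ⟨(c : GL D.Idx F)⁻¹ * n, mul_mem (inv_mem (hH.toHyp.le c.2)) (hH.toHyp.le hn), ?_⟩
    calc _ = (c : GL D.Idx F)⁻¹ * (n * x * n⁻¹) * c := by group
      _ = t := by rw [← e]; group
  · obtain ⟨v, hv2, hvt, hvy, -⟩ := Involution.exists_commuting_involution ht' hy' hc
    have hvR : mapE D φ (v : GL D.Idx F) = v :=
      centralizer_fixed hH hZ 2 ht (pw ht2) (ne ht2) v.2 (congrArg Subtype.val hvt.eq)
    have hv2' : orderOf (v : GL D.Idx F) = 2 := by rw [Subgroup.orderOf_coe]; exact hv2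
    exact hyR (centralizer_fixed hH hZ 2 ⟨v.2, hvR⟩ (pw hv2') (ne hv2') hyH
      (congrArg Subtype.val hvy.eq).symm)

set_option maxHeartbeats 800000 in
/-- In odd characteristic `H` is fixed. -/
theorem fixed_odd [IsAlgClosed F] (hp : p ≠ 2) {hi s : ℕ} {P : List ℕ}
    (hB : oddB D hi s P = true) : ∀ n ∈ H, mapE D φ n = n := by
  classical
  have hD := hH.toHyp.mem
  have hU := hH.toHyp.ug
  have hC := hH.toHyp.comm
  have hG := hH.toHyp.good
  simp only [oddB, Bool.and_eq_true, decide_eq_true_eq, List.all_eq_true, List.mem_range,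
    List.contains_iff_mem, Bool.or_eq_true, List.isEmpty_iff] at hB
  obtain ⟨⟨⟨⟨⟨⟨⟨⟨hhi, hs⟩, hhiP⟩, hhi1⟩, hs1⟩, hs0⟩, hclosed⟩, hroots⟩, hP⟩ := hB
  have htop : ∀ r, r < D.nroots → ht D r ≤ ht D hi := fun r hr => (hroots r hr).1
  have hnl := hG.neg_lt hhi
  intro n hn
  by_contra hnR
  set σ := mapE D φ
  have hxR : ∀ r, r < D.nroots → xg D F r (1 : F) ∈ H ⊓ Fx D φ := fun r hr =>
    ⟨hH.toHyp.one r hr, hH.xg_fixed hr (one_mem L)⟩
  have hpk : ∀ (r : ℕ) (t : F), xg D F r t ^ p ^ 1 = 1 := fun r t => by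
    rw [pow_one, xg_pow hG, CharP.cast_eq_zero, zero_mul, hG.xg_zero]
  have hne : ∀ r, r < D.nroots → ∀ t : F, t ≠ 0 → xg D F r t ≠ 1 := fun r hr t ht h =>
    ht (hG.xg_injective hr (by rw [h, hG.xg_zero]))
  set x := xg D F hi (1 : F) with hxdef
  set y := n * x * n⁻¹
  have hyH : y ∈ H := mul_mem (mul_mem hn ((hxR hi hhi).1)) (inv_mem hn)
  have hyR : ¬ σ y = y := fun h => hnR
    (of_conj_mem hH hZ p (hxR hi hhi) ⟨1, hpk _ _⟩ (hne hi hhi 1 one_ne_zero) hn h)
  have cent : ∀ v ∈ H ⊓ Fx D φ, (∃ k : ℕ, v ^ p ^ k = 1) → v ≠ 1 → Commute y v → False :=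
    fun v hv hvp hv1 hc => hyR (centralizer_fixed hH hZ p hv hvp hv1 hyH hc.eq)
  obtain ⟨b, hb, w, hw, -, b', hb', en⟩ := exists_bruhat_mem hD (hH.toHyp.le hn)
  set β := actW D w hi with hβdef
  have hβP : β ∈ P := by
    have : ∀ w : List ℕ, (∀ i ∈ w, i < D.rank) → actW D w hi ∈ P := by
      intro w
      induction w with
      | nil => exact fun _ => hhiP
      | cons i w ih =>
        exact fun hw => hclosed i (hw i (List.mem_cons_self ..)) _
          (ih fun j hj => hw j (List.mem_cons_of_mem _ hj))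
    exact this w hw
  have hβ : β < D.nroots := (hP β hβP).1
  obtain ⟨a', ha', hb'x⟩ := borel_conj_top hU hhi hhi1 htop hb' (1 : F)
  obtain ⟨a, ha, hbx⟩ := borel_conj_top hU hhi hhi1 htop (inv_mem hb) (1 : F)
  set c : F := (etaWord D w hi : F) * (a' * 1) with hcdef
  have hc : c ≠ 0 := by
    refine mul_ne_zero (fun h0 => ?_) (mul_ne_zero ha' one_ne_zero)
    have h' : ((etaWord D w hi : ℤ) : F) * (etaWord D w hi : F) = 1 := by
      rw [← Int.cast_mul, Good.etaWord_sq, Int.cast_one]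
    rw [h0, zero_mul] at h'
    exact zero_ne_one h'
  have hy : y = b * xg D F β c * b⁻¹ := by
    rw [hcdef, ← hG.nw_conj_x hw hhi, ← hb'x]
    simp only [y, x, en]
    group
  have hx : x = b * xg D F hi (a * 1) * b⁻¹ := by rw [← hbx]; simp only [x]; group
  have hcomm : Commute (xg D F β c) (xg D F hi (a * 1)) → False := fun h =>
    cent x (hxR hi hhi) ⟨1, hpk _ _⟩ (hne hi hhi 1 one_ne_zero) (by
      rw [hy, hx]
      exact h.map (MulAut.conj b).toMonoidHom)
  by_cases hbh : β = hi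
  · exact hcomm (by show _ * _ = _ * _; rw [hbh, ← hG.xg_add, ← hG.xg_add, add_comm])
  by_cases hbe : β = D.neg hi
  swap
  · have hterm := ((hP β hβP).2).resolve_left (by rintro (h | h) <;> [exact hbh h; exact hbe h])
    have hnot := hbe
    have hbn : β ≠ D.neg hi := hnot
    match hT : D.commTerms hi β, hterm with
    | [], _ => exact hcomm (commute_xg hC hhi hβ hbh hbn hT _ _).symm
    | [e], hterm =>
      simp only [Bool.and_eq_true, decide_eq_true_eq, List.isEmpty_iff] at hterm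
      obtain ⟨⟨⟨⟨⟨⟨he1, hT1⟩, hT2⟩, hn1⟩, hn2⟩, hn3⟩, hn4⟩ := hterm
      have hem : e ∈ commW (std D) hi β := by rw [commW_std, hT]; simp
      have hel : e.1 < D.nroots := (hG.commTerms_coef hhi hβ hem).1
      have he : ((e.2.1 : ℤ) : F) ≠ 0 := by
        rcases Int.natAbs_eq_iff.1 he1 with h | h <;> rw [h] <;> simp
      have hcom := hC.xg_comm hhi hβ hbh hbn (a * 1) c
      obtain ⟨v, hv0, hw1⟩ : ∃ v : F, v ≠ 0 ∧
          wordG D F (D.commWord F hi β (a * 1) c) = xg D F e.1 v := by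
        refine ⟨(e.2.1 : F) * (-(a * 1)) ^ e.2.2.1 * c ^ e.2.2.2, mul_ne_zero (mul_ne_zero he
          (pow_ne_zero _ (neg_ne_zero.2 (mul_ne_zero ha one_ne_zero)))) (pow_ne_zero _ hc), ?_⟩
        simp [wordG, ChevalleyDatum.commWord, hT]
      rw [hw1] at hcom
      set k := b * xg D F e.1 v * b⁻¹
      have hk : k = y⁻¹ * x⁻¹ * y * x := by
        rw [hy, hx, show (b * xg D F β c * b⁻¹)⁻¹ * (b * xg D F hi (a * 1) * b⁻¹)⁻¹ *
          (b * xg D F β c * b⁻¹) * (b * xg D F hi (a * 1) * b⁻¹) =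
          b * ((xg D F β c)⁻¹ * (xg D F hi (a * 1))⁻¹ * (xg D F β c * xg D F hi (a * 1))) * b⁻¹
          by group, hcom]
        simp only [k]
        group
      have hkH : k ∈ H := hk ▸ mul_mem (mul_mem (mul_mem (inv_mem hyH) (inv_mem ((hxR hi hhi).1)))
        hyH) ((hxR hi hhi).1)
      have hkx : Commute k x := by
        rw [hx]
        exact (commute_xg hC hhi hel hn1 hn2 hT1 _ _).symm.map (MulAut.conj b).toMonoidHom
      have hky : Commute y k := by
        rw [hy]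
        exact (commute_xg hC hβ hel hn3 hn4 hT2 _ _).map (MulAut.conj b).toMonoidHom
      have hkR : σ k = k := centralizer_fixed hH hZ p (hxR hi hhi) ⟨1, hpk _ _⟩
        (hne hi hhi 1 one_ne_zero) hkH hkx.eq
      refine cent k ⟨hkH, hkR⟩ ⟨1, by simp only [k, conj_pow, hpk, mul_one, mul_inv_cancel]⟩
        (fun h => hne e.1 hel v hv0 (conj_eq_one_iff.1 h)) hky
    | _ :: _ :: _, hterm => simp at hterm
  -- opposite roots
  obtain ⟨u, hu, h, hh, rfl⟩ := hG.mem_borel hb
  rw [hG.posUnipotent_eq] at hu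
  obtain ⟨a₁, -, ha₁⟩ := hG.conj_xg_of_mem_H hh hhi
  obtain ⟨a₂, ha₂0, ha₂⟩ := hG.conj_xg_of_mem_H hh hnl
  set d := a₂ * c
  have hd : d ≠ 0 := mul_ne_zero ha₂0 hc
  have hy' : y = u * xg D F (D.neg hi) d * u⁻¹ := by
    rw [hy, hbe, show d = a₂ * c from rfl, ← ha₂]; group
  have hux : u * x * u⁻¹ = x := by
    have h1 := hU.conj_congr (F := F) hhi1 (inv_mem hu) hhi le_rfl 1
    have hbot : XS D F (htGe D (ht D hi + 1)) = ⊥ := le_antisymm (XS_le fun s c hs hp => by
      have := htop s hs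
      have hp' : ht D hi + 1 ≤ ht D s := hp
      omega) bot_le
    rw [inv_inv, hbot, Subgroup.mem_bot, mul_inv_eq_one] at h1
    exact h1
  obtain ⟨ψ, hψU, hψL, hψr⟩ := exists_sl_hom (hG.pairRel_root (F := F) hhi)
  let f' : SL(2, F) →* GL D.Idx F := (MulAut.conj u).toMonoidHom.comp ψ
  have hf1 : f' (slU 1) = x := by
    simp only [f', MonoidHom.comp_apply, MulEquiv.coe_toMonoidHom, MulAut.conj_apply, hψU]
    exact hux
  have hf2 : f' (slL d) = y := by
    simp only [f', MonoidHom.comp_apply, MulEquiv.coe_toMonoidHom, MulAut.conj_apply, hψL]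
    exact hy'.symm
  haveI : Finite ↥(H.comap f') := finite_comap hG hhi hhi1 hH.toHyp.fin hψU hψL (u := u)
  have hneg : (-1 : SL(2, F)) ∈ H.comap f' := neg_one_mem_finite p hp _ hd
    (by rw [Subgroup.mem_comap, hf1]; exact (hxR hi hhi).1)
    (by rw [Subgroup.mem_comap, hf2]; exact hyH)
  set z₀ := hg D F hi (-1 : F) with hz₀
  have hψ1 : ψ (-1) = z₀ := by
    have hm : (-1 : SL(2, F)) = ph slU slL (-1) := by
      apply Subtype.ext
      rw [ph_sl (neg_ne_zero.2 one_ne_zero)]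
      ext i j; fin_cases i <;> fin_cases j <;> simp [inv_neg]
    rw [hm]
    simp only [ph, pn, map_mul, hψU, hψL, hz₀, hg, ng]
  have hz : u * z₀ * u⁻¹ ∈ H := by
    rw [Subgroup.mem_comap] at hneg
    simpa only [f', MonoidHom.comp_apply, MulEquiv.coe_toMonoidHom, MulAut.conj_apply, hψ1] using hneg
  have hzR : σ (u * z₀ * u⁻¹) = u * z₀ * u⁻¹ := by
    refine centralizer_fixed hH hZ p (hxR hi hhi) ⟨1, hpk _ _⟩ (hne hi hhi 1 one_ne_zero) hz ?_
    have hc1 : Commute (-1 : SL(2, F)) (slU 1) := by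
      show _ * _ = _ * _; rw [neg_mul, one_mul, mul_neg, mul_one]
    have h2 := hc1.map f'
    rw [hf1] at h2
    have h3 : f' (-1) = u * z₀ * u⁻¹ := by
      simp only [f', MonoidHom.comp_apply, MulEquiv.coe_toMonoidHom, MulAut.conj_apply, hψ1]
    rw [h3] at h2
    exact h2.eq
  -- the part of `u` moved by the involution
  obtain ⟨t, ht0, htu, hnd, hmem⟩ := exists_split hC hU (fun r => D.pairing hi r ≠ 0 ∧ r ≠ hi) hu
  set L1 := (posL (D := D)).filter (fun r => decide (D.pairing hi r ≠ 0 ∧ r ≠ hi))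
  set L2 := (posL (D := D)).filter (fun r => decide ¬(D.pairing hi r ≠ 0 ∧ r ≠ hi))
  have hL1 : ∀ r ∈ L1, r < D.nroots ∧ 1 ≤ ht D r ∧ (D.pairing hi r).natAbs = 1 := by
    intro r hr
    obtain ⟨h1, h2⟩ := List.mem_filter.1 hr
    obtain ⟨h3, h4⟩ := (mem_posL' hU r).1 h1
    have h5 : D.pairing hi r ≠ 0 ∧ r ≠ hi := of_decide_eq_true h2
    rcases (hroots r h3).2 with ((h6 | h6) | h6) | h6
    · omega
    · exact absurd h6 h5.2
    · exact ⟨h3, h4, h6⟩
    · exact absurd h6.1.1 h5.1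
  have hL2 : ∀ r ∈ L2, r < D.nroots ∧ 1 ≤ ht D r ∧ (r = hi ∨ (D.pairing hi r = 0 ∧
      D.commTerms r hi = [] ∧ D.commTerms r (D.neg hi) = [])) := by
    intro r hr
    obtain ⟨h1, h2⟩ := List.mem_filter.1 hr
    obtain ⟨h3, h4⟩ := (mem_posL' hU r).1 h1
    have h5 : ¬(D.pairing hi r ≠ 0 ∧ r ≠ hi) := of_decide_eq_true h2
    refine ⟨h3, h4, ?_⟩
    rcases (hroots r h3).2 with ((h6 | h6) | h6) | h6
    · omega
    · exact Or.inl h6
    · by_cases h7 : r = hi
      · exact Or.inl h7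
      · exact absurd (⟨fun h8 => by simp [h8] at h6, h7⟩) h5
    · exact Or.inr ⟨h6.1.1, h6.1.2, h6.2⟩
  set p1 := prodL D F L1 t with hp1
  set p2 := prodL D F L2 t with hp2
  have hz₀x : ∀ r, r < D.nroots → ∀ v : F,
      z₀ * xg D F r v * z₀⁻¹ = xg D F r ((-1 : F) ^ D.pairing hi r * v) := fun r hr v =>
    hG.hg_conj_x hhi hr (neg_ne_zero.2 one_ne_zero) v
  have hp2z : Commute p2 z₀ := by
    refine (Subgroup.mem_centralizer_iff.1 (show p2 ∈ Subgroup.centralizer {z₀} from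
      list_prod_mem fun g hg' => ?_) z₀ rfl).symm
    obtain ⟨r, hr, rfl⟩ := List.mem_map.1 hg'
    refine Subgroup.mem_centralizer_iff.2 fun z hz' => ?_
    rw [Set.mem_singleton_iff] at hz'
    subst hz'
    have h1 := hz₀x r (hL2 r hr).1 (t r)
    have h2 : (-1 : F) ^ D.pairing hi r = 1 := by
      rcases (hL2 r hr).2.2 with h | h
      · rw [h, hG.pairing_self hhi]; norm_num
      · rw [h.1, zpow_zero]
    rw [h2, one_mul, mul_inv_eq_iff_eq_mul] at h1
    exact h1
  have hz1 : u * z₀ * u⁻¹ = p1 * z₀ * p1⁻¹ := by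
    rw [← htu, show p1 * p2 * z₀ * (p1 * p2)⁻¹ = p1 * (p2 * z₀ * p2⁻¹) * p1⁻¹ by group, hp2z.eq,
      mul_inv_cancel_right]
  have hσz₀ : σ z₀ = z₀ := by simp only [σ, hz₀, hg, map_mul, mapE_ng φ hC hhi, map_neg, map_one]
  set e := p1⁻¹ * σ p1 with hedef
  have hez : z₀ * e * z₀⁻¹ = e := by
    rw [hz1, map_mul, map_mul, map_inv, hσz₀] at hzR
    calc z₀ * e * z₀⁻¹ = p1⁻¹ * (p1 * z₀ * p1⁻¹) * σ p1 * z₀⁻¹ := by simp only [e]; group
      _ = p1⁻¹ * (σ p1 * z₀ * (σ p1)⁻¹) * σ p1 * z₀⁻¹ := by rw [hzR]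
      _ = e := by simp only [e]; group
  have hp1U : p1 ∈ XS D F (htGe D 1) := hU.prodL_mem (fun r hr => ⟨(hL1 r hr).1, (hL1 r hr).2.1⟩) t
  have heU : e ∈ XS D F (htGe D 1) := mul_mem (inv_mem hp1U) (mapE_XS φ hC hp1U)
  obtain ⟨te, hte0, hte⟩ := hU.exists_prod hnd hmem heU
  have hscale : ∀ L : List ℕ, (∀ r ∈ L, r < D.nroots) →
      z₀ * prodL D F L te * z₀⁻¹ = prodL D F L (fun r => (-1 : F) ^ D.pairing hi r * te r) := by
    intro L
    induction L with
    | nil => simp [prodL]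
    | cons r L ih =>
      intro hL
      rw [prodL_cons, prodL_cons, ← ih fun s hs => hL s (List.mem_cons_of_mem _ hs),
        ← hz₀x r (hL r (List.mem_cons_self ..))]
      group
  have hte1 : ∀ r ∈ L1, te r = 0 := by
    intro r hr
    have h1 := hU.prodL_injective hnd hmem (t := fun r => (-1 : F) ^ D.pairing hi r * te r)
      (t' := te) (fun r hr => by simp [hte0 r hr]) hte0
      (by rw [← hscale _ (fun r hr => ((hmem r).1 hr).1), hte, hez])
    have h2 := congrFun h1 r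
    obtain ⟨-, -, h3⟩ := hL1 r hr
    have h4 : (-1 : F) ^ D.pairing hi r = -1 := by
      rcases Int.natAbs_eq_iff.1 h3 with h | h <;> rw [h] <;> simp
    rw [h4] at h2
    have h2F : (2 : F) ≠ 0 := Ring.two_ne_zero (by rw [ringChar.eq F p]; exact hp)
    exact (mul_eq_zero.1 (show (2 : F) * te r = 0 by linear_combination -h2)).resolve_left h2F
  have he2 : e = prodL D F L2 te := by
    rw [← hte, prodL, List.map_append, List.prod_append]
    rw [show (L1.map fun r => xg D F r (te r)).prod = 1 from List.prod_eq_one fun g hg' => by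
      obtain ⟨r, hr, rfl⟩ := List.mem_map.1 hg'
      rw [hte1 r hr, hG.xg_zero], one_mul]
    rfl
  -- so that part of `u` is rational
  have hp1R : σ p1 = p1 := by
    have h1 : σ p1 = prodL D F L1 (fun r => φ (t r)) := by
      exact mapE_prodL φ hC L1 (fun r hr => (hL1 r hr).1) t
    let tl : ℕ → F := fun r => if r ∈ L1 then φ (t r) else 0
    let tr : ℕ → F := fun r => if r ∈ L1 then t r else if r ∈ L2 then te r else 0
    have hdisj : ∀ r ∈ L2, r ∉ L1 := fun r h2 h1' =>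
      (List.nodup_append.1 hnd).2.2 r h1' r h2 rfl
    have e1 : prodL D F (L1 ++ L2) tl = σ p1 := by
      rw [h1, prodL, List.map_append, List.prod_append, prodL]
      rw [show (L2.map fun r => xg D F r (tl r)).prod = 1 from List.prod_eq_one fun g hg' => by
        obtain ⟨r, hr, rfl⟩ := List.mem_map.1 hg'
        simp only [tl, if_neg (hdisj r hr), hG.xg_zero], mul_one]
      exact congrArg List.prod (List.map_congr_left fun r hr => by simp only [tl, if_pos hr])
    have e2 : prodL D F (L1 ++ L2) tr = p1 * e := by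
      rw [he2, hp1, prodL, List.map_append, List.prod_append, prodL, prodL]
      congr 1
      · exact congrArg List.prod (List.map_congr_left fun r hr => by simp only [tr, if_pos hr])
      · exact congrArg List.prod (List.map_congr_left fun r hr => by
          simp only [tr, if_neg (hdisj r hr), if_pos hr])
    have h0 : ∀ r, ¬ (r < D.nroots ∧ 1 ≤ ht D r) → r ∉ L1 ∧ r ∉ L2 := fun r hr =>
      ⟨fun h => hr ((hmem r).1 (List.mem_append_left _ h)),
        fun h => hr ((hmem r).1 (List.mem_append_right _ h))⟩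
    have h2 := hU.prodL_injective hnd hmem (t := tl) (t' := tr)
      (fun r hr => by simp only [tl, if_neg (h0 r hr).1])
      (fun r hr => by simp only [tr, if_neg (h0 r hr).1, if_neg (h0 r hr).2])
      (by rw [e1, e2, hedef, mul_inv_cancel_left])
    rw [h1, hp1, prodL, prodL]
    refine congrArg List.prod (List.map_congr_left fun r hr => ?_)
    have := congrFun h2 r
    simp only [tl, tr, if_pos hr] at this
    rw [this]
  -- a rational element centralizing the pair
  have hsn : s ≠ hi := fun h => by rw [h, hG.pairing_self hhi] at hs0; omega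
  obtain ⟨hsT1, hsT2⟩ : D.commTerms s hi = [] ∧ D.commTerms s (D.neg hi) = [] := by
    rcases (hroots s hs).2 with ((h6 | h6) | h6) | h6
    · omega
    · exact absurd h6 hsn
    · simp [hs0] at h6
    · exact ⟨h6.1.2, h6.2⟩
  let A := Subgroup.closure (Set.range (fun v : F => xg D F hi v) ∪
    Set.range (fun v : F => xg D F (D.neg hi) v))
  have hcentA : ∀ r, r < D.nroots → 1 ≤ ht D r → r ≠ hi → D.commTerms r hi = [] →
      D.commTerms r (D.neg hi) = [] → ∀ v : F, ∀ g ∈ A, Commute (xg D F r v) g := by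
    intro r hr hr1 hrh hT1 hT2 v g hg'
    induction hg' using Subgroup.closure_induction with
    | mem g hg'' =>
      rcases hg'' with ⟨v', rfl⟩ | ⟨v', rfl⟩
      · exact commute_xg hC hr hhi (Ne.symm hrh)
          (fun e => by rw [e, hG.ht_neg hr] at hhi1; omega) hT1 _ _
      · refine commute_xg hC hr hnl (fun e => ?_) (fun e => hrh ?_) hT2 _ _
        · rw [← e, hG.ht_neg hhi] at hr1; omega
        · exact (hG.neg_inj hhi hr e).symm
    | one => exact Commute.one_right _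
    | mul g g' _ _ h1 h2 => exact h1.mul_right h2
    | inv g _ h1 => exact h1.inv_right
  have hp2A : p2 * xg D F (D.neg hi) d * p2⁻¹ ∈ A := by
    suffices hp : p2 ∈ Subgroup.normalizer (A : Set (GL D.Idx F)) from
      (Subgroup.mem_normalizer_iff.1 hp _).1 (Subgroup.subset_closure (Or.inr ⟨d, rfl⟩))
    refine list_prod_mem fun g hg' => ?_
    obtain ⟨r, hr, rfl⟩ := List.mem_map.1 hg'
    obtain ⟨h1, h2, h3⟩ := hL2 r hr
    rcases h3 with h3 | ⟨h3, h4, h5⟩
    · subst h3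
      exact Subgroup.le_normalizer (Subgroup.subset_closure (Or.inl ⟨_, rfl⟩))
    · refine Subgroup.centralizer_le_normalizer _ (Subgroup.mem_centralizer_iff.2 fun g hg'' => ?_)
      exact (hcentA r h1 h2 (fun e => by rw [e, hG.pairing_self hhi] at h3; omega) h4 h5 _ g hg'').symm.eq
  refine cent (p1 * xg D F s 1 * p1⁻¹) (Subgroup.mem_inf.2 ⟨?_, ?_⟩) ⟨1, by simp only [conj_pow, hpk, mul_one, mul_inv_cancel]⟩
    (fun h => hne s hs 1 one_ne_zero (conj_eq_one_iff.1 h)) ?_
  · have : p1 ∈ H := hH.mem_of_fixed hp1U hp1R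
    exact mul_mem (mul_mem this (hH.toHyp.one s hs)) (inv_mem this)
  · show σ _ = _
    rw [map_mul, map_mul, map_inv, hp1R]
    simp only [σ, mapE_xg φ hC hs, map_one]
    rfl
  · rw [hy', ← htu, show p1 * p2 * xg D F (D.neg hi) d * (p1 * p2)⁻¹ =
      p1 * (p2 * xg D F (D.neg hi) d * p2⁻¹) * p1⁻¹ by group]
    exact ((hcentA s hs hs1 hsn hsT1 hsT2 1 _ hp2A).symm).map (MulAut.conj p1).toMonoidHom

end

end Cfsg.Agent.Chev54.Sub
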