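import Cfsg.Agent.Chev54.SubZ
import Cfsg.Agent.Chev54.SubLocal
import Cfsg.Agent.Chev54.InvClasses
import Cfsg.Agent.Chev54.InvRankD4
import Cfsg.Agent.Chev54.InvRankE6
import Cfsg.Agent.Chev54.InvRankE7
import Cfsg.Agent.Chev54.InvRankE8
import Mathlib.FieldTheory.Finite.GaloisField

/-!
A finite subgroup containing the root elements `x_r(1)` consists of matrices over the subfield of the
parameters of its root elements.
-/

set_option autoImplicit false
set_option maxRecDepth 100000
set_option linter.unusedSimpArgs false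

namespace Cfsg.Agent.Chev54.Sub

open Cfsg.Lie Cfsg.Agent.ChevCore Cfsg.Agent.Chev54
open Cfsg.Agent.Chev34 (oddB)

variable {D : ChevalleyDatum} {k : Type*} [Field k]

section

variable {H : Subgroup (GL D.Idx k)} {L : Subfield k} {φ : k →+* k} (hH : Ctx H L φ)
  {Z : List ℕ} (hZ : ZGood H L Z)
include hH

lemma w1_mem_M (Rs : List ℕ) (h : ∀ r ∈ Rs, r < D.nroots) : w1 D k Rs ∈ H ⊓ Fx D φ := by
  refine list_prod_mem fun y hy => ?_
  obtain ⟨q, hq, rfl⟩ := List.mem_map.1 hy
  obtain ⟨r, hr, rfl⟩ := List.mem_map.1 hq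
  exact Subgroup.mem_inf.2 ⟨hH.toHyp.one r (h r hr), hH.xg_fixed (h r hr) (one_mem L)⟩

include hZ

/-- Two root elements separated by an invariant set of roots. -/
theorem fixed_sep [CharP k 2] {P : List ℕ} {a b : ℕ} (h : sepB D P a b = true) :
    ∀ n ∈ H, mapE D φ n = n := by
  haveI : Fact (Nat.Prime 2) := ⟨Nat.prime_two⟩
  have hnc := not_cj_root (F := k) hH.toHyp.ug hH.toHyp.mem h
  simp only [sepB, Bool.and_eq_true, decide_eq_true_eq] at h
  have hG := hH.toHyp.good
  have ho : ∀ r, r < D.nroots → orderOf (xg D k r (1 : k)) = 2 := fun r hr =>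
    orderOf_eq_prime (by rw [pow_two, ← hG.xg_add, one_add_one_eq_two, CharTwo.two_eq_zero, hG.xg_zero])
      fun e => one_ne_zero (hG.xg_injective hr (e.trans (hG.xg_zero r).symm))
  have la : a < D.nroots := h.1.1.1.1.1.1.1
  have lb : b < D.nroots := h.1.1.1.1.1.1.2
  exact fixed_two hH hZ 2 rfl (Subgroup.mem_inf.2 ⟨hH.toHyp.one a la, hH.xg_fixed la (one_mem L)⟩)
    (Subgroup.mem_inf.2 ⟨hH.toHyp.one b lb, hH.xg_fixed lb (one_mem L)⟩) (ho a la) (ho b lb) hnc

/-- Two products of root elements of different ranks. -/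
theorem fixed_ranks [CharP k 2] {X : List RankCert} (hX : repsB D (X.map RankCert.L) X = true)
    (hlen : 2 ≤ X.length)
    (hne : (X.map fun c => c.P.length).getD 0 0 ≠ (X.map fun c => c.P.length).getD 1 0) :
    ∀ n ∈ H, mapE D φ n = n := by
  haveI : Fact (Nat.Prime 2) := ⟨Nat.prime_two⟩
  have hU := hH.toHyp.ug
  have hj : ∀ j, j < 2 → j < (X.map RankCert.L).length := fun j hj => by rw [List.length_map]; omega
  obtain ⟨-, o0, r0⟩ := rep_facts (F := k) hU hX (hj 0 (by norm_num))
  obtain ⟨-, o1, r1⟩ := rep_facts (F := k) hU hX (hj 1 (by norm_num))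
  have hmem : ∀ j, j < 2 → w1 D k ((X.map RankCert.L).getD j []) ∈ H ⊓ Fx D φ := fun j hj2 => by
    refine w1_mem_M hH _ fun r hr => ?_
    simp only [repsB, Bool.and_eq_true, decide_eq_true_eq, List.all_eq_true] at hX
    have := List.getD_eq_getElem _ [] (hj j hj2) ▸ hr
    exact (hX.2 _ (List.getElem_mem (hj j hj2)) r this).1
  refine fixed_two hH hZ 2 rfl (hmem 0 (by norm_num)) (hmem 1 (by norm_num)) o0 o1 fun hc => hne ?_
  have := Cj.rank_eq (show Cj D k _ _ from hc)
  rw [r0, r1] at this
  exact this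

end

/-- Everything is fixed. -/
theorem all_fixed [IsAlgClosed k] (p : ℕ) [Fact p.Prime] [CharP k p] {H : Subgroup (GL D.Idx k)}
    {L : Subfield k} {φ : k →+* k} (hH : Ctx H L φ) : ∀ n ∈ H, mapE D φ n = n := by
  obtain ⟨Z, hZ⟩ := exists_zgood hH p
  have hD := hH.toHyp.mem
  simp only [List.mem_cons, List.not_mem_nil, or_false] at hD
  rcases eq_or_ne p 2 with rfl | hp
  · rcases hD with rfl | rfl | rfl | rfl | rfl | rfl | rfl
    · exact fixed_sep hH hZ (P := [0, 1, 5, 6, 10, 11]) (a := 11) (b := 9) (by decide +kernel)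
    · exact fixed_sep hH hZ (P := [0, 3, 4, 7]) (a := 7) (b := 6) (by decide +kernel)
    · refine fixed_ranks hH hZ (X := [rkD4_0, rkD4_1]) ?_ (by simp) (by decide +kernel)
      simp only [repsB, List.all_cons, List.all_nil, rkD4_0_ok, rkD4_1_ok, Bool.true_and]
      decide +kernel
    · exact fixed_sep hH hZ
        (P := [0, 1, 2, 4, 5, 6, 15, 16, 17, 21, 22, 23, 24, 25, 26, 30, 31, 32, 41, 42, 43, 45, 46, 47])
        (a := 47) (b := 44) (by decide +kernel)
    · refine fixed_ranks hH hZ (X := [rkE6_0, rkE6_1]) ?_ (by simp) (by decide +kernel)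
      simp only [repsB, List.all_cons, List.all_nil, rkE6_0_ok, rkE6_1_ok, Bool.true_and]
      decide +kernel
    · refine fixed_ranks hH hZ (X := [rkE7_0, rkE7_1]) ?_ (by simp) (by decide +kernel)
      simp only [repsB, List.all_cons, List.all_nil, rkE7_0_ok, rkE7_1_ok, Bool.true_and]
      decide +kernel
    · refine fixed_ranks hH hZ (X := [rkE8_0, rkE8_1]) ?_ (by simp) (by decide +kernel)
      simp only [repsB, List.all_cons, List.all_nil, rkE8_0_ok, rkE8_1_ok, Bool.true_and]
      decide +kernel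
  · rcases hD with rfl | rfl | rfl | rfl | rfl | rfl | rfl
    · exact fixed_odd hH hZ p hp (hi := 11) (s := 7) (P := [0, 1, 5, 6, 10, 11]) (by decide +kernel)
    · exact fixed_odd hH hZ p hp (hi := 7) (s := 4) (P := [0, 3, 4, 7]) (by decide +kernel)
    · exact fixed_odd hH hZ p hp (hi := 23) (s := 12) (P := List.range 24) (by decide +kernel)
    · exact fixed_odd hH hZ p hp (hi := 47) (s := 25)
        (P := [0, 1, 2, 4, 5, 6, 15, 16, 17, 21, 22, 23, 24, 25, 26, 30, 31, 32, 41, 42, 43, 45, 46, 47])
        (by decide +kernel)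
    · exact fixed_odd hH hZ p hp (hi := 71) (s := 36) (P := List.range 72) (by decide +kernel)
    · exact fixed_odd hH hZ p hp (hi := 125) (s := 63) (P := List.range 126) (by decide +kernel)
    · exact fixed_odd hH hZ p hp (hi := 239) (s := 121) (P := List.range 240) (by decide +kernel)

/-- A finite subgroup containing all `x_r(1)` lies between the groups over one finite field. -/
theorem exists_field_bounds [IsAlgClosed k] (p : ℕ) [Fact p.Prime] [CharP k p]
    {H : Subgroup (GL D.Idx k)} (hH : Hyp H) :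
    ∃ (L : Subfield k) (_ : Fintype L) (m : ℕ), Fintype.card L = p ^ m ∧
      (∀ r, r < D.nroots → ∀ t, xg D k r t ∈ H ↔ t ∈ L) ∧ (∀ t : k, t ^ p ^ m = t ↔ t ∈ L) ∧
      ∀ g ∈ H, ∀ i j, ((g : Matrix D.Idx D.Idx k) i j) ^ p ^ m = (g : Matrix D.Idx D.Idx k) i j := by
  classical
  obtain ⟨L, hfin, hpar⟩ := exists_field p hH
  haveI : Fintype L := hfin.fintype
  haveI : CharP L p := charP_of_injective_ringHom L.subtype.injective p |> fun _ =>
    (RingHom.charP_iff L.subtype L.subtype.injective p).2 inferInstance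
  obtain ⟨f, -, hcard⟩ := FiniteField.card L p
  set n := p ^ (f : ℕ) with hn
  have hfix : ∀ t : k, t ^ n = t ↔ t ∈ L := by
    intro t
    refine ⟨fun ht => ?_, fun ht => ?_⟩
    · by_contra hnot
      have h2 : 1 < n := hcard ▸ Fintype.one_lt_card
      have hne : (Polynomial.X ^ n - Polynomial.X : Polynomial k) ≠ 0 :=
        FiniteField.X_pow_card_sub_X_ne_zero k h2
      have hsub : insert t hfin.toFinset ⊆
          (Polynomial.X ^ n - Polynomial.X : Polynomial k).roots.toFinset := by
        intro y hy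
        rw [Multiset.mem_toFinset, Polynomial.mem_roots hne]
        rcases Finset.mem_insert.1 hy with rfl | hy
        · simp [ht]
        · have hy' : y ∈ L := hfin.mem_toFinset.1 hy
          have := congrArg (Subtype.val (p := (· ∈ L))) (FiniteField.pow_card (⟨y, hy'⟩ : L))
          rw [hcard] at this
          simpa using sub_eq_zero.2 this
      have hc := (Finset.card_le_card hsub).trans (Multiset.toFinset_card_le _)
      have hd := Polynomial.card_roots' (Polynomial.X ^ n - Polynomial.X : Polynomial k)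
      rw [FiniteField.X_pow_card_sub_X_natDegree_eq k h2] at hd
      rw [Finset.card_insert_of_notMem (by simpa using hnot)] at hc
      have hcard' : hfin.toFinset.card = n := by
        rw [← hcard, ← Nat.card_eq_fintype_card, ← Nat.card_eq_card_finite_toFinset hfin]
        rfl
      omega
    · have := congrArg (Subtype.val (p := (· ∈ L))) (FiniteField.pow_card (⟨t, ht⟩ : L))
      rw [hcard] at this
      simpa using this
  have hctx : Ctx H L (iterateFrobenius k p f) :=
    { toHyp := hH, par := hpar, fix := fun t => by rw [iterateFrobenius_def]; exact hfix t }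
  refine ⟨L, inferInstance, f, hcard, hpar, hfix, fun g hg i j => ?_⟩
  have h := congrArg (fun y : GL D.Idx k => (y : Matrix D.Idx D.Idx k) i j) (all_fixed p hctx g hg)
  exact (iterateFrobenius_def p (f : ℕ) ((g : Matrix D.Idx D.Idx k) i j)).symm.trans h

end Cfsg.Agent.Chev54.Sub
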