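import Cfsg.Agent.Chev54.SubUni
import Cfsg.Agent.ChevBT.Main

/-!
Weyl elements moving leading coordinates in `U`, the Borel subgroup as the set of elements carrying
the simple root elements into `U`, and the action of a field endomorphism on the standard subgroups.
-/

set_option autoImplicit false
set_option linter.unusedSimpArgs false

namespace Cfsg.Agent.Chev54.Sub

open Cfsg.Lie Cfsg.Agent.ChevCore Cfsg.Agent.Chev54 Cfsg.Agent.ChevBT

variable {D : ChevalleyDatum} {k : Type*} [Field k]

section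

variable (hU : UGood D)
include hU

lemma prodL_vec {m : ℤ} (hm : 1 ≤ m) (L : List ℕ) (hnd : L.Nodup)
    (hL : ∀ r ∈ L, r < D.nroots ∧ 1 ≤ ht D r) (t : ℕ → k)
    (hlow : ∀ r ∈ L, ht D r < m → t r = 0) :
    Vec m (prodL D k L t) (fun r => if r ∈ L ∧ ht D r = m then t r else 0) := by
  have hG := hU.toCommGood.toGood
  induction L with
  | nil => simpa [prodL] using vec_of_next hU (one_mem (XS D k (htGe D (m + 1))))
  | cons a L ih =>
    obtain ⟨haL, hnd'⟩ := List.nodup_cons.1 hnd
    obtain ⟨ha, ha1⟩ := hL a (List.mem_cons_self ..)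
    have h2 := ih hnd' (fun r hr => hL r (List.mem_cons_of_mem _ hr))
      fun r hr => hlow r (List.mem_cons_of_mem _ hr)
    have h1 : Vec m (xg D k a (t a)) (fun r => if r = a ∧ ht D r = m then t r else 0) := by
      rcases lt_trichotomy (ht D a) m with h | h | h
      · rw [hlow a (List.mem_cons_self ..) h, hG.xg_zero]
        have e : (fun r => if r = a ∧ ht D r = m then t r else 0) = fun _ => (0 : k) := funext fun r =>
          if_neg (by rintro ⟨rfl, e⟩; omega)
        rw [e]; exact vec_of_next hU (one_mem _)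
      · have e : (fun r => if r = a ∧ ht D r = m then t r else 0) = Pi.single a (t a) := funext fun r => by
          by_cases hr : r = a
          · subst hr; simp [h]
          · simp [hr]
        rw [e, ← h]; exact vec_xg hU ha ha1 _
      · have e : (fun r => if r = a ∧ ht D r = m then t r else 0) = fun _ => (0 : k) := funext fun r =>
          if_neg (by rintro ⟨rfl, e⟩; omega)
        rw [e]; exact vec_of_next hU (xg_mem_XS ha (show m + 1 ≤ ht D a by omega) _)
    rw [prodL_cons]
    have := h1.mul hU hm h2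
    convert this using 1
    funext r
    simp only [Pi.add_apply, List.mem_cons]
    by_cases hr : r = a
    · subst hr; simp [haL]
    · simp [hr]

lemma prodL_low {h : ℤ} (L : List ℕ) (hnd : L.Nodup)
    (hL : ∀ r ∈ L, r < D.nroots ∧ 1 ≤ ht D r) (t : ℕ → k)
    (hmem : prodL D k L t ∈ XS D k (htGe D h)) : ∀ r ∈ L, ht D r < h → t r = 0 := by
  suffices key : ∀ n : ℕ, ∀ r ∈ L, ht D r = n → ht D r < h → t r = 0 from fun r hr hlt =>
    key (ht D r).toNat r hr (Int.toNat_of_nonneg (by have := (hL r hr).2; omega)).symm hlt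
  intro n
  induction n using Nat.strong_induction_on with
  | _ n ih =>
    intro r hr hn hlt
    have hr1 := (hL r hr).2
    have hv := prodL_vec hU hr1 L hnd hL t fun s hs hs' =>
      ih (ht D s).toNat (by have := (hL s hs).2; omega) s hs
        (Int.toNat_of_nonneg (by have := (hL s hs).2; omega)).symm (by omega)
    have h0 := vec_of_next hU (m := ht D r)
      (XS_mono (fun s (hs : h ≤ ht D s) => show ht D r + 1 ≤ ht D s by omega) hmem)
    have := congrFun (hv.unique hU hr1 h0) r
    simpa [hr] using this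

lemma borel_normalizer :
    D.borelSubgroup k ≤ Subgroup.normalizer (XS D k (htGe D 1) : Set (GL D.Idx k)) := by
  intro x hx
  obtain ⟨v, hv, h, hh, rfl⟩ := hU.toCommGood.toGood.mem_borel hx
  rw [hU.toCommGood.toGood.posUnipotent_eq] at hv
  exact mul_mem (Subgroup.le_normalizer hv) (hU.toCommGood.toGood.H_le_normalizer_XS _ hh)

lemma borel_conj_U {b y : GL D.Idx k} (hb : b ∈ D.borelSubgroup k)
    (hy : y ∈ XS D k (htGe D 1)) : b * y * b⁻¹ ∈ XS D k (htGe D 1) :=
  (Subgroup.mem_normalizer_iff.1 (borel_normalizer hU hb) _).1 hy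

/-- A Weyl element carrying an element of `U` into `U` carries its leading coordinate. -/
theorem lead_move {w : List ℕ} (hw : ∀ i ∈ w, i < D.rank) {r : ℕ} (hr : r < D.nroots)
    (hr1 : 1 ≤ ht D r) {y : GL D.Idx k} {c : k} (hc : c ≠ 0) (hv : Vec (ht D r) y (Pi.single r c))
    (hz : nw D k w * y * (nw D k w)⁻¹ ∈ XS D k (htGe D 1)) :
    1 ≤ ht D (actW D w r) ∧
      (nw D k w * y * (nw D k w)⁻¹ ∈ XS D k (htGe D (ht D r)) → ht D r ≤ ht D (actW D w r)) ∧
      ∀ c', Vec (ht D r) (nw D k w * y * (nw D k w)⁻¹) (Pi.single r c') →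
        ht D (actW D w r) = ht D r → actW D w r = r := by
  classical
  have hG := hU.toCommGood.toGood
  have hyU : y ∈ XS D k (htGe D 1) :=
    XS_mono (fun s (hs : ht D r ≤ ht D s) => show 1 ≤ ht D s by omega) (hv.mem hU)
  set n := nw D k w with hn
  set L1 := (posL (D := D)).filter fun s => decide (1 ≤ ht D (actW D w s)) with hL1
  set L2 := (posL (D := D)).filter fun s => !decide (1 ≤ ht D (actW D w s)) with hL2
  have p1 : ∀ s ∈ L1, (s < D.nroots ∧ 1 ≤ ht D s) ∧ 1 ≤ ht D (actW D w s) := fun s hs =>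
    ⟨posL_pos hU s (List.mem_filter.1 hs).1, by simpa using (List.mem_filter.1 hs).2⟩
  have p2 : ∀ s ∈ L2, (s < D.nroots ∧ 1 ≤ ht D s) ∧ ht D (actW D w s) ≤ -1 := fun s hs => by
    have h0 := posL_pos hU s (List.mem_filter.1 hs).1
    have h1 : ¬ 1 ≤ ht D (actW D w s) := by simpa using (List.mem_filter.1 hs).2
    have := hG.ht_ne_zero (hG.actW_lt hw h0.1)
    exact ⟨h0, by omega⟩
  have hnd : (L1 ++ L2).Nodup := List.nodup_append.2 ⟨posL_nodup.filter _, posL_nodup.filter _,
    fun a ha b hb e => by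
      subst e
      have := (p1 a ha).2
      have := (p2 a hb).2
      omega⟩
  have hmem : ∀ s, s ∈ L1 ++ L2 ↔ s < D.nroots ∧ 1 ≤ ht D s := fun s => by
    rw [List.mem_append]
    refine ⟨fun h => h.elim (fun h => (p1 s h).1) (fun h => (p2 s h).1), fun h => ?_⟩
    by_cases h1 : 1 ≤ ht D (actW D w s)
    · exact Or.inl (List.mem_filter.2 ⟨(mem_posL' hU s).2 h, by simpa using h1⟩)
    · exact Or.inr (List.mem_filter.2 ⟨(mem_posL' hU s).2 h, by simpa using h1⟩)
  obtain ⟨t, ht0, ety⟩ := hU.exists_prod hnd hmem hyU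
  let t' : ℕ → k := fun q => (etaWord D w (actW D w.reverse q) : k) * t (actW D w.reverse q)
  have hback : ∀ s, s < D.nroots → actW D w.reverse (actW D w s) = s := fun s hs => by
    have := hG.actW_reverse (w := w.reverse) (fun i hi => hw i (List.mem_reverse.1 hi)) hs
    rwa [List.reverse_reverse] at this
  have hconj : ∀ L : List ℕ, (∀ s ∈ L, s < D.nroots) →
      n * prodL D k L t * n⁻¹ = prodL D k (L.map (actW D w)) t' := by
    intro L
    induction L with
    | nil => simp [prodL]
    | cons s L ih =>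
      intro hL
      have hs := hL s (List.mem_cons_self ..)
      rw [List.map_cons, prodL_cons, prodL_cons, ← ih fun q hq => hL q (List.mem_cons_of_mem _ hq)]
      have e : t' (actW D w s) = (etaWord D w s : k) * t s := by simp only [t', hback s hs]
      rw [e, ← hG.nw_conj_x hw hs, ← hn]
      group
  have app : prodL D k (L1 ++ L2) t = prodL D k L1 t * prodL D k L2 t := by
    simp [prodL, List.map_append, List.prod_append]
  set L1' := L1.map (actW D w) with hL1'
  have p1' : ∀ q ∈ L1', q < D.nroots ∧ 1 ≤ ht D q := fun q hq => by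
    obtain ⟨s, hs, rfl⟩ := List.mem_map.1 hq
    exact ⟨hG.actW_lt hw (p1 s hs).1.1, (p1 s hs).2⟩
  have hnd' : L1'.Nodup := List.Nodup.map_on (fun a ha b hb e => by
    rw [← hback a (p1 a ha).1.1, ← hback b (p1 b hb).1.1, e]) (posL_nodup.filter _)
  have e1U : prodL D k L1' t' ∈ XS D k (htGe D 1) := hU.prodL_mem p1' t'
  -- the negated part is trivial
  have h20 : prodL D k L2 t = 1 := by
    have h1 : n * prodL D k L2 t * n⁻¹ ∈ XS D k (htGe D 1) := by
      have := mul_mem (inv_mem e1U) hz
      rw [← hconj L1 (fun s hs => (p1 s hs).1.1), ← ety, app] at this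
      refine (show (n * prodL D k L1 t * n⁻¹)⁻¹ * (n * (prodL D k L1 t * prodL D k L2 t) * n⁻¹) =
        n * prodL D k L2 t * n⁻¹ by group) ▸ this
    have h2 : n * prodL D k L2 t * n⁻¹ ∈ D.borelSubgroup k ⊓ D.negUnipotent k := by
      refine ⟨Subgroup.mem_sup_left (by rw [hG.posUnipotent_eq]; exact h1), ?_⟩
      rw [hconj L2 fun s hs => (p2 s hs).1.1, hG.negUnipotent_eq]
      refine prodL_mem_of _ fun q hq => ?_
      obtain ⟨s, hs, rfl⟩ := List.mem_map.1 hq
      exact xg_mem_XS (hG.actW_lt hw (p2 s hs).1.1) (p2 s hs).2 _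
    rw [hG.borel_inf_neg, Subgroup.mem_bot] at h2
    calc prodL D k L2 t = n⁻¹ * (n * prodL D k L2 t * n⁻¹) * n := by group
      _ = 1 := by rw [h2]; group
  have ey : prodL D k L1 t = y := by rw [← ety, app, h20, mul_one]
  have hP1 : ∀ s ∈ L1, s < D.nroots ∧ 1 ≤ ht D s := fun s hs => (p1 s hs).1
  have hnd1 : L1.Nodup := posL_nodup.filter _
  have hlow := prodL_low hU L1 hnd1 hP1 t (ey.symm ▸ hv.mem hU)
  have hvec := prodL_vec hU hr1 L1 hnd1 hP1 t hlow
  rw [ey] at hvec
  have her := congrFun (hvec.unique hU hr1 hv) r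
  rw [Pi.single_eq_same] at her
  have hrL : r ∈ L1 := by
    by_contra hno
    rw [if_neg fun h => hno h.1] at her
    exact hc her.symm
  rw [if_pos ⟨hrL, rfl⟩] at her
  have etz : n * y * n⁻¹ = prodL D k L1' t' := by
    rw [← ey, hconj L1 fun s hs => (p1 s hs).1.1]
  have hrL' : actW D w r ∈ L1' := List.mem_map.2 ⟨r, hrL, rfl⟩
  have ht' : t' (actW D w r) ≠ 0 := by
    simp only [t', hback r hr, her]
    exact mul_ne_zero (left_ne_zero_of_mul_eq_one (b := (etaWord D w r : k))
      (by rw [← Int.cast_mul, Good.etaWord_sq, Int.cast_one])) hc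
  refine ⟨(p1 r hrL).2, fun hh => ?_, fun c' hc' he => ?_⟩
  · by_contra hlt
    exact ht' (prodL_low hU L1' hnd' p1' t' (etz ▸ hh) _ hrL' (by omega))
  · have hlow' := prodL_low hU L1' hnd' p1' t' (etz ▸ hc'.mem hU)
    have hv' := prodL_vec hU hr1 L1' hnd' p1' t' hlow'
    rw [← etz] at hv'
    have := congrFun (hv'.unique hU hr1 hc') (actW D w r)
    rw [if_pos ⟨hrL', he⟩] at this
    by_contra hne
    rw [Pi.single_eq_of_ne hne] at this
    exact ht' this

/-- An element carrying every simple root element into `U` lies in the Borel subgroup. -/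
theorem mem_borel_of_simple (hD : D ∈ [chevG2, chevB2, chevD4, chevF4, chevE6, chevE7, chevE8])
    {g : GL D.Idx k} (hg : g ∈ D.group k)
    (h : ∀ j < D.rank, g * xg D k (D.simple j) 1 * g⁻¹ ∈ XS D k (htGe D 1)) :
    g ∈ D.borelSubgroup k := by
  have hG := hU.toCommGood.toGood
  obtain ⟨b, hb, w, hw, hred, b', hb', rfl⟩ := exists_bruhat_mem hD hg
  suffices hnil : w = [] by
    subst hnil
    rw [show nw D k ([] : List ℕ) = 1 by simp [nw], mul_one]
    exact mul_mem hb hb'
  have hpos : ∀ j < D.rank, 1 ≤ ht D (actW D w (D.simple j)) := by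
    intro j hj
    have hp := hG.simple_lt hj
    have hp1 : 1 ≤ ht D (D.simple j) := by rw [hG.ht_simple hj]
    obtain ⟨c, u, -, -, hv⟩ := borel_lead hU hb' hp hp1
    refine (lead_move hU hw hp hp1 (Units.ne_zero _) hv ?_).1
    have := borel_conj_U hU (inv_mem hb) (h j hj)
    refine (show b⁻¹ * (b * nw D k w * b' * xg D k (D.simple j) 1 * (b * nw D k w * b')⁻¹) * b⁻¹⁻¹ =
      nw D k w * (b' * xg D k (D.simple j) 1 * b'⁻¹) * (nw D k w)⁻¹ by group) ▸ this
  cases hw' : w with
  | nil => rfl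
  | cons i v =>
    exfalso
    subst hw'
    have hv : ∀ a ∈ v, a < D.rank := fun a ha => hw a (by simp [ha])
    have hi : i < D.rank := hw i (by simp)
    set r := actW D v.reverse (D.simple i) with hr
    have hrl : r < D.nroots := hG.actW_lt (fun a ha => hv a (List.mem_reverse.1 ha)) (hG.simple_lt hi)
    have hrp : 0 < ht D r := hred.1
    have hwr : actW D (i :: v) r = D.neg (D.simple i) := by
      rw [actW_cons, hr, hG.actW_reverse hv (hG.simple_lt hi), hG.refl_simple hi]
    have e := coef_actW hG hw hrl hi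
    rw [hwr, hG.coef_neg (hG.simple_lt hi) hi, hG.coef_simple hi hi, if_pos rfl] at e
    have : (0 : ℤ) ≤ ∑ j : Fin D.rank, coef D r j.val * coef D (actW D (i :: v) (D.simple j.val)) i :=
      Finset.sum_nonneg fun j _ => mul_nonneg (hG.coef_nonneg hrl hrp j.isLt)
        (hG.coef_nonneg (hG.actW_lt hw (hG.simple_lt j.isLt)) (by have := hpos j.val j.isLt; omega) hi)
    omega

/-- Elements of `p`-power order in the Borel subgroup lie in `U`. -/
theorem mem_U_of_pow (p : ℕ) [Fact p.Prime] [CharP k p] {g : GL D.Idx k}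
    (hg : g ∈ D.borelSubgroup k) {n : ℕ} (h : g ^ p ^ n = 1) : g ∈ XS D k (htGe D 1) := by
  have hG := hU.toCommGood.toGood
  rw [← hG.posUnipotent_eq]
  refine hG.diag_one_mem_pos hg fun a => ?_
  have key : ∀ m : ℕ, ((g ^ m : GL D.Idx k) : Matrix D.Idx D.Idx k) a a =
      (g : Matrix D.Idx D.Idx k) a a ^ m := by
    intro m
    induction m with
    | zero => simp
    | succ m ih => rw [pow_succ, hG.borel_diag_mul (pow_mem hg m) hg a, ih, pow_succ]
  have e := key (p ^ n)
  rw [h, Units.val_one, Matrix.one_apply_eq] at e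
  have e2 : ((g : Matrix D.Idx D.Idx k) a a - 1) ^ p ^ n = 0 := by
    rw [sub_pow_char_pow, one_pow, ← e, sub_self]
  exact sub_eq_zero.1 (eq_zero_of_pow_eq_zero e2)

end

/-- The conjugate of a diagonal element by a Weyl element is diagonal. -/
theorem nw_conj_H (hG : Good D) {w : List ℕ} (hw : ∀ i ∈ w, i < D.rank) {y : GL D.Idx k}
    (hy : y ∈ D.diagonalSubgroup k) : nw D k w * y * (nw D k w)⁻¹ ∈ D.diagonalSubgroup k := by
  rw [hG.diagonalSubgroup_eq] at hy ⊢
  induction hy using Subgroup.closure_induction with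
  | mem y hy =>
    obtain ⟨r, c, hr, hc0, rfl⟩ := hy
    refine Subgroup.subset_closure ⟨actW D w r, c, hG.actW_lt hw hr, hc0, ?_⟩
    rw [mul_inv_eq_iff_eq_mul]
    refine Units.ext ?_
    rw [Units.val_mul, Units.val_mul, hG.hg_eq_diag hr hc0, hG.hg_eq_diag (hG.actW_lt hw hr) hc0]
    exact hG.nw_conj_diag hw hr c
  | one => simp
  | mul x y _ _ hx hy => convert mul_mem hx hy using 1; group
  | inv x _ hx => convert inv_mem hx using 1; group

/-- The inverse of the preceding. -/
theorem nw_inv_conj_H (hG : Good D) {w : List ℕ} (hw : ∀ i ∈ w, i < D.rank) {y : GL D.Idx k}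
    (hy : y ∈ D.diagonalSubgroup k) : (nw D k w)⁻¹ * y * nw D k w ∈ D.diagonalSubgroup k := by
  have hwr : ∀ i ∈ w.reverse, i < D.rank := fun i hi => hw i (List.mem_reverse.1 hi)
  rw [hG.diagonalSubgroup_eq] at hy ⊢
  induction hy using Subgroup.closure_induction with
  | mem y hy =>
    obtain ⟨r, c, hr, hc0, rfl⟩ := hy
    set s := actW D w.reverse r
    have hs := hG.actW_lt hwr hr
    refine Subgroup.subset_closure ⟨s, c, hs, hc0, ?_⟩
    rw [mul_assoc, inv_mul_eq_iff_eq_mul]
    refine Units.ext ?_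
    rw [Units.val_mul, Units.val_mul, hG.hg_eq_diag hr hc0, hG.hg_eq_diag hs hc0,
      hG.nw_conj_diag hw hs c, hG.actW_reverse hw hr]
  | one => simp
  | mul x y _ _ hx hy => convert mul_mem hx hy using 1; group
  | inv x _ hx => convert inv_mem hx using 1; group

section

variable (φ : k →+* k) (hC : CommGood D)
include hC

lemma mapE_XS {S : Set ℕ} {y : GL D.Idx k} (hy : y ∈ XS D k S) : mapE D φ y ∈ XS D k S := by
  induction hy using Subgroup.closure_induction with
  | mem y hy => obtain ⟨r, t, hr, hS, rfl⟩ := hy; rw [mapE_xg φ hC hr]; exact xg_mem_XS hr hS _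
  | one => rw [map_one]; exact one_mem _
  | mul a b _ _ ha hb => rw [map_mul]; exact mul_mem ha hb
  | inv a _ ha => rw [map_inv]; exact inv_mem ha

lemma mapE_ng {r : ℕ} (hr : r < D.nroots) (t : k) :
    mapE D φ (ng D k r t) = ng D k r (φ t) := by
  simp only [ng, map_mul, mapE_xg φ hC hr, mapE_xg φ hC (hC.toGood.neg_lt hr), map_neg, map_inv₀]

lemma mapE_diag {y : GL D.Idx k} (hy : y ∈ D.diagonalSubgroup k) :
    mapE D φ y ∈ D.diagonalSubgroup k := by
  rw [hC.toGood.diagonalSubgroup_eq] at hy ⊢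
  induction hy using Subgroup.closure_induction with
  | mem y hy =>
    obtain ⟨r, c, hr, hc0, rfl⟩ := hy
    refine Subgroup.subset_closure ⟨r, φ c, hr, (map_ne_zero φ).2 hc0, ?_⟩
    simp only [hg, map_mul, mapE_ng φ hC hr, map_neg, map_one]
  | one => rw [map_one]; exact one_mem _
  | mul a b _ _ ha hb => rw [map_mul]; exact mul_mem ha hb
  | inv a _ ha => rw [map_inv]; exact inv_mem ha

lemma mapE_group {y : GL D.Idx k} (hy : y ∈ D.group k) : mapE D φ y ∈ D.group k := by
  rw [hC.toGood.group_eq] at hy ⊢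
  exact mapE_XS φ hC hy

lemma mapE_parabolic (hs : chkSupp D = true) {J : Set ℕ} {y : GL D.Idx k}
    (hy : y ∈ D.parabolicSubgroup k J) : mapE D φ y ∈ D.parabolicSubgroup k J := by
  rw [hC.toGood.parabolic_eq hs] at hy ⊢
  obtain ⟨K, hK⟩ : ∃ K : Subgroup (GL D.Idx k), K = D.diagonalSubgroup k ⊔ XS D k (parJ D J) := ⟨_, rfl⟩
  rw [← hK] at hy ⊢
  refine (show K ≤ K.comap (mapE D φ) from ?_) hy
  rw [hK]
  exact sup_le (fun z hz => Subgroup.mem_sup_left (mapE_diag φ hC hz))
    (fun z hz => Subgroup.mem_sup_right (mapE_XS φ hC hz))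

lemma mapE_nw {w : List ℕ} (hw : ∀ i ∈ w, i < D.rank) : mapE D φ (nw D k w) = nw D k w := by
  simp only [nw, map_list_prod, List.map_map]
  refine congrArg List.prod (List.map_congr_left fun i hi => ?_)
  show mapE D φ (ng D k (D.simple i) 1) = _
  rw [mapE_ng φ hC (hC.toGood.simple_lt (hw i hi)), map_one]

end

end Cfsg.Agent.Chev54.Sub
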