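import Cfsg.Agent.Chev54.SubField

/-!
The parameters of the root elements in a finite subgroup containing every `x_r(1)` form one finite
subfield for all roots: the seven types.
-/

set_option autoImplicit false
set_option linter.unusedSimpArgs false

namespace Cfsg.Agent.Chev54.Sub

open Cfsg.Lie Cfsg.Agent.ChevCore

variable {D : ChevalleyDatum} {k : Type*} [Field k] {H : Subgroup (GL D.Idx k)} (hH : Hyp H)
include hH

lemma Hyp.two_mul_cancel (p : ℕ) [Fact p.Prime] [CharP k p] {A : AddSubgroup k} (c : ℕ)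
    (hc : ¬ p ∣ c) {x : k} (hx : (c : k) * x ∈ A) : x ∈ A := by
  have hcp : IsUnit (c : ZMod p) := by
    refine isUnit_iff_ne_zero.2 fun h => hc ?_
    exact (ZMod.natCast_eq_zero_iff _ _).1 h
  obtain ⟨m, hm⟩ : ∃ m : ℕ, ((m * c : ℕ) : k) = 1 := by
    refine ⟨((hcp.unit⁻¹ : (ZMod p)ˣ) : ZMod p).val, ?_⟩
    have h : ((((hcp.unit⁻¹ : (ZMod p)ˣ) : ZMod p).val * c : ℕ) : ZMod p) = ((1 : ℕ) : ZMod p) := by
      push_cast
      rw [ZMod.natCast_zmod_val]
      simpa using IsUnit.val_inv_mul hcp
    rw [ZMod.natCast_eq_natCast_iff, ← CharP.natCast_eq_natCast k p, Nat.cast_one] at h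
    exact h
  have := AddSubgroup.nsmul_mem A hx m
  rwa [nsmul_eq_mul, ← mul_assoc, ← Nat.cast_mul, hm, one_mul] at this

omit hH in
/-- On a finite set of parameters the `p`-th power map is onto, when it maps the set into itself. -/
lemma exists_root (p : ℕ) [Fact p.Prime] [CharP k p] {A : AddSubgroup k}
    (hfin : (A : Set k).Finite) (hp : ∀ a ∈ A, a ^ p ∈ A) {y : k} (hy : y ^ p ∈ A) : y ∈ A := by
  have hb := (hfin.injOn_iff_bijOn_of_mapsTo (f := (· ^ p)) fun b hb => hp b hb).1
    fun a _ b _ e => frob_inj p e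
  obtain ⟨c, hc, e⟩ := hb.surjOn hy
  rwa [← frob_inj p e]

/-- Parameters in a B-type pair `r` long, `s` short, `u = r + s` short, `v = r + 2s` long. -/
lemma Hyp.bPair (p : ℕ) [Fact p.Prime] [CharP k p] {r s u v : ℕ} {e1 e2 : ℤ}
    (he1 : e1 = 1 ∨ e1 = -1) (he2 : e2 = 1 ∨ e2 = -1)
    (hr : r < D.nroots) (hs : s < D.nroots) (h1 : s ≠ r) (h2 : s ≠ D.neg r)
    (hL : D.commTerms r s = [(u, e1, 1, 1), (v, e2, 1, 2)])
    (hu : hH.par u = hH.par s) (hv : hH.par v = hH.par r) : hH.par s = hH.par r := by
  have sgn : ∀ {e : ℤ} {S : AddSubgroup k}, (e = 1 ∨ e = -1) → ∀ x, (e : k) * x ∈ S ↔ x ∈ S := by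
    intro e S he x
    rcases he with rfl | rfl <;> simp
  have hw : ∀ t ∈ hH.par r, ∀ x ∈ hH.par s,
      xg D k u ((e1 : k) * (-t) * x) * xg D k v ((e2 : k) * (-t) * x ^ 2) ∈ H := by
    intro t ht x hx
    have h := hH.word_mem hr hs h1 h2 ht hx hL
    simpa [wordG] using h
  have hAB : hH.par r ≤ hH.par s := by
    intro t ht
    have h := hw t ht 1 (hH.one_par hs)
    rw [one_pow, mul_one, mul_one] at h
    have hv' : xg D k v ((e2 : k) * -t) ∈ H := by
      rw [← hH.mem_par, hv, sgn he2]; exact neg_mem ht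
    have := (Subgroup.mul_mem_cancel_right H hv').1 h
    rw [← hH.mem_par, hu, sgn he1] at this
    exact neg_mem_iff.1 this
  have hBA : ∀ x ∈ hH.par s, x ^ 2 ∈ hH.par r := by
    intro x hx
    have h := hw 1 (hH.one_par hr) x hx
    have hu' : xg D k u ((e1 : k) * -1 * x) ∈ H := by
      rw [← hH.mem_par, hu, mul_assoc, sgn he1, neg_one_mul]; exact neg_mem hx
    have := (Subgroup.mul_mem_cancel_left H hu').1 h
    rw [← hH.mem_par, hv, mul_assoc, sgn he2, neg_one_mul] at this
    exact neg_mem_iff.1 this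
  refine le_antisymm ?_ hAB
  intro x hx
  rcases eq_or_ne p 2 with rfl | hp2
  · have hx2 := hBA x hx
    exact exists_root 2 (hH.par_finite hr) (fun a ha => hBA a (hAB ha)) hx2
  · have h2x : (2 : k) * x ∈ hH.par r := by
      have := sub_mem (sub_mem (hBA _ (add_mem hx (hH.one_par hs))) (hBA x hx)) (hBA 1 (hH.one_par hs))
      rwa [show (x + 1) ^ 2 - x ^ 2 - 1 ^ 2 = 2 * x by ring] at this
    refine hH.two_mul_cancel p 2 (fun h => hp2 ?_) (by simpa using h2x)
    exact (Nat.prime_dvd_prime_iff_eq Fact.out Nat.prime_two).1 h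

/-- The conclusion: all parameters form one subfield. -/
lemma Hyp.field_of_simple {a : ℕ} (ha : a < D.nroots)
    (hmul : ∀ x ∈ hH.par a, ∀ y ∈ hH.par a, x * y ∈ hH.par a)
    (hsimp : ∀ i < D.rank, hH.par (D.simple i) = hH.par a) :
    ∃ L : Subfield k, (L : Set k).Finite ∧ ∀ r, r < D.nroots → ∀ t, xg D k r t ∈ H ↔ t ∈ L := by
  have hfin := hH.par_finite ha
  let L : Subfield k :=
    { carrier := hH.par a
      mul_mem' := fun {x y} hx hy => hmul x hx y hy
      one_mem' := hH.one_par ha
      add_mem' := fun {x y} hx hy => (hH.par a).add_mem hx hy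
      zero_mem' := (hH.par a).zero_mem
      neg_mem' := fun {x} hx => (hH.par a).neg_mem hx
      inv_mem' := fun x hx => inv_mem_of_finite hfin (hH.one_par ha) hmul hx }
  refine ⟨L, hfin, fun r hr t => ?_⟩
  obtain ⟨w, hw, i, hi, rfl⟩ := hH.good.exists_word hr
  rw [← hH.mem_par, hH.par_act hw (hH.good.simple_lt hi), hsimp i hi]
  exact Iff.rfl

end Cfsg.Agent.Chev54.Sub

namespace Cfsg.Agent.Chev54.Sub

open Cfsg.Lie Cfsg.Agent.ChevCore

variable {k : Type*} [Field k]

/-- Adjacent fundamental roots of equal length, as a list of steps `(i, j)`. -/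
def linkOK (D : ChevalleyDatum) (L : List (ℕ × ℕ)) : Bool :=
  L.all fun e => decide (e.1 < D.rank) && decide (e.2 < D.rank) &&
    decide (actW D [e.1, e.2] (D.simple e.1) = D.simple e.2)

lemma par_link {D : ChevalleyDatum} {H : Subgroup (GL D.Idx k)} (hH : Hyp H) {L : List (ℕ × ℕ)}
    (hL : linkOK D L = true) {i j : ℕ} (he : (i, j) ∈ L) :
    hH.par (D.simple j) = hH.par (D.simple i) := by
  have := List.all_eq_true.1 hL _ he
  simp only [Bool.and_eq_true, decide_eq_true_eq] at this
  obtain ⟨⟨hi, hj⟩, e⟩ := this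
  exact hH.par_eq_of_act (by simp [hi, hj]) (hH.good.simple_lt hi) e

lemma field_D4 {H : Subgroup (GL chevD4.Idx k)} (hH : Hyp H) :
    ∃ L : Subfield k, (L : Set k).Finite ∧ ∀ r, r < chevD4.nroots → ∀ t, xg chevD4 k r t ∈ H ↔ t ∈ L := by
  have hlk : linkOK chevD4 [(0, 1), (1, 2), (1, 3)] = true := by decide +kernel
  have e1 := par_link hH hlk (i := 0) (j := 1) (by simp)
  have e2 := par_link hH hlk (i := 1) (j := 2) (by simp)
  have e3 := par_link hH hlk (i := 1) (j := 3) (by simp)
  refine hH.field_of_simple (a := chevD4.simple 0) (hH.good.simple_lt (by decide +kernel))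
    (fun x hx y hy => ?_) ?_
  · have e : hH.par 19 = hH.par (chevD4.simple 0) :=
      hH.par_eq_of_act (w := [1]) (by decide +kernel) (hH.good.simple_lt (by decide +kernel))
        (by decide +kernel)
    rw [← e]
    refine hH.mul_of_pair (r := chevD4.simple 0) (s := chevD4.simple 1) (e := -1) (Or.inr rfl)
      (hH.good.simple_lt (by decide +kernel)) (hH.good.simple_lt (by decide +kernel))
      (by decide +kernel) (by decide +kernel) (by decide +kernel) hx ?_
    rw [e1]; exact hy
  · intro i hi
    change i < 4 at hi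
    interval_cases i
    · rfl
    · exact e1
    · rw [e2, e1]
    · rw [e3, e1]

lemma field_E6 {H : Subgroup (GL chevE6.Idx k)} (hH : Hyp H) :
    ∃ L : Subfield k, (L : Set k).Finite ∧ ∀ r, r < chevE6.nroots → ∀ t, xg chevE6 k r t ∈ H ↔ t ∈ L := by
  have hlk : linkOK chevE6 [(0, 2), (2, 3), (3, 1), (3, 4), (4, 5)] = true := by decide +kernel
  have e2 := par_link hH hlk (i := 0) (j := 2) (by simp)
  have e3 := par_link hH hlk (i := 2) (j := 3) (by simp)
  have e1 := par_link hH hlk (i := 3) (j := 1) (by simp)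
  have e4 := par_link hH hlk (i := 3) (j := 4) (by simp)
  have e5 := par_link hH hlk (i := 4) (j := 5) (by simp)
  refine hH.field_of_simple (a := chevE6.simple 0) (hH.good.simple_lt (by decide +kernel))
    (fun x hx y hy => ?_) ?_
  · have e : hH.par 57 = hH.par (chevE6.simple 0) :=
      hH.par_eq_of_act (w := [2]) (by decide +kernel) (hH.good.simple_lt (by decide +kernel))
        (by decide +kernel)
    rw [← e]
    refine hH.mul_of_pair (r := chevE6.simple 0) (s := chevE6.simple 2) (e := -1) (Or.inr rfl)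
      (hH.good.simple_lt (by decide +kernel)) (hH.good.simple_lt (by decide +kernel))
      (by decide +kernel) (by decide +kernel) (by decide +kernel) hx ?_
    rw [e2]; exact hy
  · intro i hi
    change i < 6 at hi
    interval_cases i
    · rfl
    · rw [e1, e3, e2]
    · exact e2
    · rw [e3, e2]
    · rw [e4, e3, e2]
    · rw [e5, e4, e3, e2]

lemma field_E7 {H : Subgroup (GL chevE7.Idx k)} (hH : Hyp H) :
    ∃ L : Subfield k, (L : Set k).Finite ∧ ∀ r, r < chevE7.nroots → ∀ t, xg chevE7 k r t ∈ H ↔ t ∈ L := by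
  have hlk : linkOK chevE7 [(0, 2), (2, 3), (3, 1), (3, 4), (4, 5), (5, 6)] = true := by decide +kernel
  have e2 := par_link hH hlk (i := 0) (j := 2) (by simp)
  have e3 := par_link hH hlk (i := 2) (j := 3) (by simp)
  have e1 := par_link hH hlk (i := 3) (j := 1) (by simp)
  have e4 := par_link hH hlk (i := 3) (j := 4) (by simp)
  have e5 := par_link hH hlk (i := 4) (j := 5) (by simp)
  have e6 := par_link hH hlk (i := 5) (j := 6) (by simp)
  refine hH.field_of_simple (a := chevE7.simple 0) (hH.good.simple_lt (by decide +kernel))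
    (fun x hx y hy => ?_) ?_
  · have e : hH.par 94 = hH.par (chevE7.simple 0) :=
      hH.par_eq_of_act (w := [2]) (by decide +kernel) (hH.good.simple_lt (by decide +kernel))
        (by decide +kernel)
    rw [← e]
    refine hH.mul_of_pair (r := chevE7.simple 0) (s := chevE7.simple 2) (e := -1) (Or.inr rfl)
      (hH.good.simple_lt (by decide +kernel)) (hH.good.simple_lt (by decide +kernel))
      (by decide +kernel) (by decide +kernel) (by decide +kernel) hx ?_
    rw [e2]; exact hy
  · intro i hi
    change i < 7 at hi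
    interval_cases i
    · rfl
    · rw [e1, e3, e2]
    · exact e2
    · rw [e3, e2]
    · rw [e4, e3, e2]
    · rw [e5, e4, e3, e2]
    · rw [e6, e5, e4, e3, e2]

lemma field_E8 {H : Subgroup (GL chevE8.Idx k)} (hH : Hyp H) :
    ∃ L : Subfield k, (L : Set k).Finite ∧ ∀ r, r < chevE8.nroots → ∀ t, xg chevE8 k r t ∈ H ↔ t ∈ L := by
  have hlk : linkOK chevE8 [(0, 2), (2, 3), (3, 1), (3, 4), (4, 5), (5, 6), (6, 7)] = true := by
    decide +kernel
  have e2 := par_link hH hlk (i := 0) (j := 2) (by simp)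
  have e3 := par_link hH hlk (i := 2) (j := 3) (by simp)
  have e1 := par_link hH hlk (i := 3) (j := 1) (by simp)
  have e4 := par_link hH hlk (i := 3) (j := 4) (by simp)
  have e5 := par_link hH hlk (i := 4) (j := 5) (by simp)
  have e6 := par_link hH hlk (i := 5) (j := 6) (by simp)
  have e7 := par_link hH hlk (i := 6) (j := 7) (by simp)
  refine hH.field_of_simple (a := chevE8.simple 0) (hH.good.simple_lt (by decide +kernel))
    (fun x hx y hy => ?_) ?_
  · have e : hH.par 163 = hH.par (chevE8.simple 0) :=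
      hH.par_eq_of_act (w := [2]) (by decide +kernel) (hH.good.simple_lt (by decide +kernel))
        (by decide +kernel)
    rw [← e]
    refine hH.mul_of_pair (r := chevE8.simple 0) (s := chevE8.simple 2) (e := -1) (Or.inr rfl)
      (hH.good.simple_lt (by decide +kernel)) (hH.good.simple_lt (by decide +kernel))
      (by decide +kernel) (by decide +kernel) (by decide +kernel) hx ?_
    rw [e2]; exact hy
  · intro i hi
    change i < 8 at hi
    interval_cases i
    · rfl
    · rw [e1, e3, e2]
    · exact e2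
    · rw [e3, e2]
    · rw [e4, e3, e2]
    · rw [e5, e4, e3, e2]
    · rw [e6, e5, e4, e3, e2]
    · rw [e7, e6, e5, e4, e3, e2]

lemma field_F4 (p : ℕ) [Fact p.Prime] [CharP k p] {H : Subgroup (GL chevF4.Idx k)} (hH : Hyp H) :
    ∃ L : Subfield k, (L : Set k).Finite ∧ ∀ r, r < chevF4.nroots → ∀ t, xg chevF4 k r t ∈ H ↔ t ∈ L := by
  have hlk : linkOK chevF4 [(2, 3), (1, 0)] = true := by decide +kernel
  have e3 := par_link hH hlk (i := 2) (j := 3) (by simp)
  have e0 := par_link hH hlk (i := 1) (j := 0) (by simp)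
  have n25 : chevF4.simple 2 = 25 := by decide +kernel
  have n27 : chevF4.simple 1 = 27 := by decide +kernel
  have n24 : chevF4.simple 3 = 24 := by decide +kernel
  rw [n25, n24] at e3
  rw [n27] at e0
  have l25 : 25 < chevF4.nroots := by decide +kernel
  have l27 : 27 < chevF4.nroots := by decide +kernel
  have hBA : hH.par 27 = hH.par 25 := hH.bPair p (Or.inl rfl) (Or.inr rfl) l25 l27
    (by decide +kernel) (by decide +kernel)
    (show chevF4.commTerms 25 27 = [(28, 1, 1, 1), (30, -1, 1, 2)] by decide +kernel)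
    (hH.par_eq_of_act (w := [2]) (by decide +kernel) l27 (by decide +kernel))
    (hH.par_eq_of_act (w := [1]) (by decide +kernel) l25 (by decide +kernel))
  refine hH.field_of_simple (a := 25) l25 (fun x hx y hy => ?_) ?_
  · have e : hH.par 26 = hH.par 25 :=
      hH.par_eq_of_act (w := [3]) (by decide +kernel) l25 (by decide +kernel)
    rw [← e]
    refine hH.mul_of_pair (r := 25) (s := 24) (e := -1) (Or.inr rfl) l25 (by decide +kernel)
      (by decide +kernel) (by decide +kernel) (by decide +kernel) hx ?_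
    rw [e3]; exact hy
  · intro i hi
    change i < 4 at hi
    interval_cases i
    · rw [e0, hBA]
    · rw [n27, hBA]
    · rw [n25]
    · rw [n24, e3]

lemma field_B2 (p : ℕ) [Fact p.Prime] [CharP k p] {H : Subgroup (GL chevB2.Idx k)} (hH : Hyp H) :
    ∃ L : Subfield k, (L : Set k).Finite ∧ ∀ r, r < chevB2.nroots → ∀ t, xg chevB2 k r t ∈ H ↔ t ∈ L := by
  have n4 : chevB2.simple 1 = 4 := by decide +kernel
  have n5 : chevB2.simple 0 = 5 := by decide +kernel
  have l4 : 4 < chevB2.nroots := by decide +kernel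
  have l5 : 5 < chevB2.nroots := by decide +kernel
  have l2 : 2 < chevB2.nroots := by decide +kernel
  have l6 : 6 < chevB2.nroots := by decide +kernel
  have l7 : 7 < chevB2.nroots := by decide +kernel
  have hL : chevB2.commTerms 4 5 = [(6, 1, 1, 1), (7, -1, 1, 2)] := by decide +kernel
  have h6 : hH.par 6 = hH.par 5 :=
    hH.par_eq_of_act (w := [1]) (by decide +kernel) l5 (by decide +kernel)
  have h7 : hH.par 7 = hH.par 4 :=
    hH.par_eq_of_act (w := [0]) (by decide +kernel) l4 (by decide +kernel)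
  have hBA : hH.par 5 = hH.par 4 := hH.bPair p (Or.inl rfl) (Or.inr rfl) l4 l5
    (by decide +kernel) (by decide +kernel) hL h6 h7
  have hw : ∀ t ∈ hH.par 4, ∀ x ∈ hH.par 4, xg chevB2 k 6 (-(t * x)) * xg chevB2 k 7 (t * x ^ 2) ∈ H := by
    intro t ht x hx
    have h := hH.word_mem l4 l5 (by decide +kernel) (by decide +kernel) ht (hBA.symm ▸ hx) hL
    simpa [wordG] using h
  refine hH.field_of_simple (a := 4) l4 (fun x hx y hy => ?_) ?_
  · rcases eq_or_ne p 2 with rfl | hp2
    · refine mul_closed_of_sq (hH.par_finite l4) (hH.one_par l4) (fun a ha => ?_) (fun a ha b hb => ?_) hx hy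
      · have h := hw 1 (hH.one_par l4) a ha
        have h6' : xg chevB2 k 6 (-(1 * a)) ∈ H := by
          rw [← hH.mem_par, h6, hBA, one_mul]; exact neg_mem ha
        have := (Subgroup.mul_mem_cancel_left H h6').1 h
        rw [← hH.mem_par, h7, one_mul, pow_two] at this
        exact this
      · -- the commutator with `x_{-a}(1)` and the reflection in `a`
        set X := -(a * b)
        set Y := a * b ^ 2
        have hz : xg chevB2 k 6 X * xg chevB2 k 7 Y ∈ H := hw a ha b hb
        have c6 : xg chevB2 k 6 X * xg chevB2 k 2 1 = xg chevB2 k 2 1 * xg chevB2 k 6 X := by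
          have := hH.comm.xg_comm l2 l6 (by decide +kernel) (by decide +kernel) (1 : k) X
          rw [ChevalleyDatum.commWord,
            show chevB2.commTerms 2 6 = [(4, -2, 1, 1)] by decide +kernel] at this
          simp only [List.map_cons, List.map_nil, wordG, List.prod_cons, List.prod_nil] at this
          rw [this]
          have h0 : ((-2 : ℤ) : k) = 0 := by push_cast; rw [CharTwo.two_eq_zero, neg_zero]
          rw [h0, zero_mul, zero_mul, hH.good.xg_zero, one_mul, mul_one]
        have c7 := hH.comm.xg_comm l2 l7 (by decide +kernel) (by decide +kernel) (1 : k) Y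
        rw [ChevalleyDatum.commWord,
          show chevB2.commTerms 2 7 = [(6, 1, 1, 1), (4, -1, 2, 1)] by decide +kernel] at c7
        simp only [List.map_cons, List.map_nil, wordG, List.prod_cons, List.prod_nil, mul_one,
          pow_one] at c7
        have h2m : xg chevB2 k 2 1 ∈ H := hH.one 2 l2
        have hW : xg chevB2 k 6 Y * xg chevB2 k 4 Y ∈ H := by
          have h := mul_mem (inv_mem (mul_mem h2m hz)) (mul_mem hz h2m)
          rw [mul_assoc (xg chevB2 k 6 X), c7] at h
          simp only [← mul_assoc] at h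
          rw [mul_assoc (_⁻¹) (xg chevB2 k 6 X) (xg chevB2 k 2 1), c6] at h
          simp only [mul_assoc, _root_.mul_inv_rev, inv_mul_cancel_left] at h
          have e : ∀ z : k, -z = z := fun z => CharTwo.neg_eq z
          simpa [e] using h
        have h0 : [0].all (· < chevB2.rank) = true := by decide +kernel
        have hn := hH.nw_mem (w := [0]) (fun i hi => by simpa using List.all_eq_true.1 h0 i hi)
        have hV := mul_mem (mul_mem hn hW) (inv_mem hn)
        have e6 := hH.good.nw_conj_x (w := [0]) (fun i hi => by simpa using List.all_eq_true.1 h0 i hi) l6 Y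
        have e4 := hH.good.nw_conj_x (w := [0]) (fun i hi => by simpa using List.all_eq_true.1 h0 i hi) l4 Y
        rw [show actW chevB2 [0] 6 = 6 by decide +kernel] at e6
        rw [show actW chevB2 [0] 4 = 7 by decide +kernel] at e4
        have one : ∀ r, ((etaWord chevB2 [0] r : ℤ) : k) = 1 := fun r => by
          rcases mul_self_eq_one_iff.1 (show ((etaWord chevB2 [0] r : ℤ) : k) * (etaWord chevB2 [0] r : k) = 1 by
            rw [← Int.cast_mul, Good.etaWord_sq, Int.cast_one]) with e | e
          · exact e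
          · rw [e, CharTwo.neg_eq]
        rw [one, one_mul] at e6 e4
        have hV' : xg chevB2 k 6 Y * xg chevB2 k 7 Y ∈ H := by
          rw [← e6, ← e4]
          exact (show nw chevB2 k [0] * (xg chevB2 k 6 Y * xg chevB2 k 4 Y) * (nw chevB2 k [0])⁻¹ =
            nw chevB2 k [0] * xg chevB2 k 6 Y * (nw chevB2 k [0])⁻¹ *
              (nw chevB2 k [0] * xg chevB2 k 4 Y * (nw chevB2 k [0])⁻¹) by group) ▸ hV
        have h := mul_mem hz (inv_mem hV')
        rw [_root_.mul_inv_rev, hH.good.xg_inv, hH.good.xg_inv, mul_assoc,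
          ← mul_assoc (xg chevB2 k 7 Y), ← hH.good.xg_add 7, add_neg_cancel, hH.good.xg_zero,
          one_mul, ← hH.good.xg_add 6, ← hH.mem_par, h6, hBA] at h
        have : -(a * b) + -(a * b ^ 2) = -(a * (b + b * b)) := by ring
        rw [this] at h
        exact neg_mem_iff.1 h
    · have h := hw
      have hsq : ∀ z ∈ hH.par 4, z ^ 2 ∈ hH.par 4 := by
        intro z hz
        have h6' : xg chevB2 k 6 (-(1 * z)) ∈ H := by
          rw [← hH.mem_par, h6, hBA, one_mul]; exact neg_mem hz
        have := (Subgroup.mul_mem_cancel_left H h6').1 (hw 1 (hH.one_par l4) z hz)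
        rwa [← hH.mem_par, h7, one_mul] at this
      refine hH.two_mul_cancel p 2 (fun h => hp2 ?_) ?_
      · exact (Nat.prime_dvd_prime_iff_eq Fact.out Nat.prime_two).1 h
      · have := sub_mem (sub_mem (hsq _ (add_mem hx hy)) (hsq x hx)) (hsq y hy)
        rwa [show (x + y) ^ 2 - x ^ 2 - y ^ 2 = ((2 : ℕ) : k) * (x * y) by push_cast; ring] at this
  · intro i hi
    change i < 2 at hi
    interval_cases i
    · rw [n5, hBA]
    · rw [n4]

lemma field_G2 (p : ℕ) [Fact p.Prime] [CharP k p] {H : Subgroup (GL chevG2.Idx k)} (hH : Hyp H) :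
    ∃ L : Subfield k, (L : Set k).Finite ∧ ∀ r, r < chevG2.nroots → ∀ t, xg chevG2 k r t ∈ H ↔ t ∈ L := by
  have n6 : chevG2.simple 1 = 6 := by decide +kernel
  have n7 : chevG2.simple 0 = 7 := by decide +kernel
  have lt : ∀ r, r < 12 → r < chevG2.nroots := fun r hr => hr
  have l6 := lt 6 (by norm_num)
  have l7 := lt 7 (by norm_num)
  have p10 : hH.par 10 = hH.par 6 :=
    hH.par_eq_of_act (w := [0]) (by decide +kernel) l6 (by decide +kernel)
  have p11 : hH.par 11 = hH.par 6 :=
    hH.par_eq_of_act (w := [1, 0]) (by decide +kernel) l6 (by decide +kernel)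
  have p5 : hH.par 5 = hH.par 6 :=
    hH.par_eq_of_act (w := [1]) (by decide +kernel) l6 (by decide +kernel)
  have p8 : hH.par 8 = hH.par 7 :=
    hH.par_eq_of_act (w := [1]) (by decide +kernel) l7 (by decide +kernel)
  have p9 : hH.par 9 = hH.par 7 :=
    hH.par_eq_of_act (w := [0, 1]) (by decide +kernel) l7 (by decide +kernel)
  have hmul : ∀ x ∈ hH.par 6, ∀ y ∈ hH.par 6, x * y ∈ hH.par 6 := by
    intro x hx y hy
    have h := hH.mul_of_pair (r := 6) (s := 10) (u := 11) (e := 1) (Or.inl rfl) l6 (lt 10 (by norm_num))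
      (by decide +kernel) (by decide +kernel) (by decide +kernel) hx (p10.symm ▸ hy)
    rwa [p11] at h
  have hw : ∀ t ∈ hH.par 6, ∀ x ∈ hH.par 7, xg chevG2 k 8 (-(t * x)) * (xg chevG2 k 9 (-(t * x ^ 2)) *
      (xg chevG2 k 10 (t * x ^ 3) * xg chevG2 k 11 (-(2 * (t ^ 2 * x ^ 3))))) ∈ H := by
    intro t ht x hx
    have h := hH.word_mem l6 l7 (by decide +kernel) (by decide +kernel) ht hx
      (show chevG2.commTerms 6 7 = [(8, 1, 1, 1), (9, 1, 1, 2), (10, -1, 1, 3), (11, -2, 2, 3)] by
        decide +kernel)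
    simpa [wordG, mul_assoc] using h
  have hAB : hH.par 6 ≤ hH.par 7 := by
    have h89 : ∀ t ∈ hH.par 6, xg chevG2 k 8 t * xg chevG2 k 9 t ∈ H := by
      intro t ht
      have h := hw (-t) (neg_mem ht) 1 (hH.one_par l7)
      simp only [one_pow, mul_one, neg_neg, neg_pow_two] at h
      have h10 : xg chevG2 k 10 (-t) ∈ H := by rw [← hH.mem_par, p10]; exact neg_mem ht
      have h11 : xg chevG2 k 11 (-(2 * t ^ 2)) ∈ H := by
        rw [← hH.mem_par, p11]
        refine neg_mem ?_
        rw [two_mul, pow_two]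
        exact add_mem (hmul t ht t ht) (hmul t ht t ht)
      rw [← mul_assoc] at h
      exact (Subgroup.mul_mem_cancel_right H (mul_mem h10 h11)).1 h
    intro t ht
    by_cases hall : ∀ l ∈ hH.par 6, l = 0 ∨ l = 1
    · rcases hall t ht with rfl | rfl
      · exact zero_mem _
      · exact hH.one_par l7
    · push Not at hall
      obtain ⟨l, hl, hl0, hl1⟩ := hall
      have hl' : l⁻¹ ∈ hH.par 6 := inv_mem_of_finite (hH.par_finite l6) (hH.one_par l6) hmul hl
      have hng : ∀ e ∈ hH.par 6, e⁻¹ ∈ hH.par 6 → ng chevG2 k 6 e ∈ H := by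
        intro e he he'
        have h5 : xg chevG2 k (chevG2.neg 6) (-e⁻¹) ∈ H := by
          rw [show chevG2.neg 6 = 5 by decide +kernel, ← hH.mem_par, p5]; exact neg_mem he'
        exact mul_mem (mul_mem (hH.mem_par.1 he) h5) (hH.mem_par.1 he)
      have hhg : hg chevG2 k 6 l ∈ H := mul_mem (hng l hl hl')
        (hng _ (neg_mem (hH.one_par l6)) (by rw [inv_neg, inv_one]; exact neg_mem (hH.one_par l6)))
      set s := (l - 1)⁻¹ * t with hs
      have hsm : s ∈ hH.par 6 := by
        refine hmul _ ?_ t ht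
        exact inv_mem_of_finite (hH.par_finite l6) (hH.one_par l6) hmul (sub_mem hl (hH.one_par l6))
      have h0 := h89 s hsm
      have h1 := mul_mem (mul_mem hhg h0) (inv_mem hhg)
      have e8 := hH.good.hg_conj_x (r := 6) (s := 8) l6 (lt 8 (by norm_num)) hl0 s
      have e9 := hH.good.hg_conj_x (r := 6) (s := 9) l6 (lt 9 (by norm_num)) hl0 s
      rw [show chevG2.pairing 6 8 = 1 by decide +kernel, zpow_one] at e8
      rw [show chevG2.pairing 6 9 = 0 by decide +kernel, zpow_zero, one_mul] at e9
      rw [show hg chevG2 k 6 l * (xg chevG2 k 8 s * xg chevG2 k 9 s) * (hg chevG2 k 6 l)⁻¹ =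
        hg chevG2 k 6 l * xg chevG2 k 8 s * (hg chevG2 k 6 l)⁻¹ *
          (hg chevG2 k 6 l * xg chevG2 k 9 s * (hg chevG2 k 6 l)⁻¹) by group, e8, e9] at h1
      have h2 := mul_mem h1 (inv_mem h0)
      rw [show xg chevG2 k 8 (l * s) * xg chevG2 k 9 s * (xg chevG2 k 8 s * xg chevG2 k 9 s)⁻¹ =
        xg chevG2 k 8 (l * s) * (xg chevG2 k 8 s)⁻¹ by group, hH.good.xg_inv, ← hH.good.xg_add,
        ← hH.mem_par, p8] at h2
      rwa [show l * s + -s = (l - 1) * s by ring, hs, mul_inv_cancel_left₀ (sub_ne_zero.2 hl1)] at h2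
  have hBA : hH.par 7 ≤ hH.par 6 := by
    intro x hx
    rcases eq_or_ne p 3 with rfl | hp3
    · have h := hw 1 (hH.one_par l6) x hx
      simp only [one_mul, one_pow] at h
      have h8 : xg chevG2 k 8 (-x) ∈ H := by rw [← hH.mem_par, p8]; exact neg_mem hx
      have hf := (Subgroup.mul_mem_cancel_left H h8).1 h
      set a9 := -x ^ 2
      set a11 := -(2 * x ^ 3)
      have l9 := lt 9 (by norm_num)
      have l10 := lt 10 (by norm_num)
      have l11 := lt 11 (by norm_num)
      have c9 := hH.comm.xg_comm l6 l9 (by decide +kernel) (by decide +kernel) (1 : k) a9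
      have c11 := hH.comm.xg_comm l6 l11 (by decide +kernel) (by decide +kernel) (1 : k) a11
      have c10 := hH.comm.xg_comm l6 l10 (by decide +kernel) (by decide +kernel) (1 : k) (x ^ 3)
      rw [ChevalleyDatum.commWord, show chevG2.commTerms 6 9 = [] by decide +kernel] at c9
      rw [ChevalleyDatum.commWord, show chevG2.commTerms 6 11 = [] by decide +kernel] at c11
      rw [ChevalleyDatum.commWord, show chevG2.commTerms 6 10 = [(11, 1, 1, 1)] by decide +kernel] at c10
      simp only [List.map_cons, List.map_nil, wordG, List.prod_cons, List.prod_nil, mul_one,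
        Int.cast_one, one_mul, pow_one, neg_one_mul, neg_mul] at c9 c11 c10
      have hsw : xg chevG2 k 11 (-x ^ 3) * xg chevG2 k 11 a11 =
          xg chevG2 k 11 a11 * xg chevG2 k 11 (-x ^ 3) := by
        rw [← hH.good.xg_add, ← hH.good.xg_add, add_comm]
      have e : xg chevG2 k 9 a9 * (xg chevG2 k 10 (x ^ 3) * xg chevG2 k 11 a11) * xg chevG2 k 6 1 =
          xg chevG2 k 6 1 * (xg chevG2 k 9 a9 * (xg chevG2 k 10 (x ^ 3) * xg chevG2 k 11 a11)) *
            xg chevG2 k 11 (-x ^ 3) := by
        simp only [mul_assoc]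
        rw [c11, ← mul_assoc (xg chevG2 k 10 (x ^ 3)) (xg chevG2 k 6 1), c10]
        simp only [mul_assoc]
        rw [← mul_assoc (xg chevG2 k 9 a9) (xg chevG2 k 6 1), c9, hsw]
        simp only [mul_assoc]
      have h6 : xg chevG2 k 6 (1 : k) ∈ H := hH.one 6 l6
      have h11 := mul_mem (inv_mem (mul_mem h6 hf)) (mul_mem hf h6)
      rw [e, inv_mul_cancel_left, ← hH.mem_par, p11, neg_mem_iff] at h11
      exact exists_root 3 (hH.par_finite l6)
        (fun a ha => by rw [pow_succ, pow_two]; exact hmul _ (hmul a ha a ha) a ha) h11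
    · have h := hH.word_mem l7 (lt 9 (by norm_num)) (by decide +kernel) (by decide +kernel) hx
        (p9.symm ▸ hH.one_par l7)
        (show chevG2.commTerms 7 9 = [(10, 3, 1, 1)] by decide +kernel)
      simp only [List.map_cons, List.map_nil, wordG, List.prod_cons, List.prod_nil, mul_one,
        pow_one] at h
      rw [← hH.mem_par, p10, mul_neg, neg_mem_iff] at h
      refine hH.two_mul_cancel p 3 (fun hd => hp3 ?_) (by simpa using h)
      exact (Nat.prime_dvd_prime_iff_eq Fact.out Nat.prime_three).1 hd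
  refine hH.field_of_simple (a := 6) l6 hmul ?_
  intro i hi
  change i < 2 at hi
  interval_cases i
  · rw [n7]; exact le_antisymm hBA hAB
  · rw [n6]

/-- The parameters of the root elements in `H` form one finite subfield. -/
theorem exists_field (p : ℕ) [Fact p.Prime] [CharP k p] {D : ChevalleyDatum}
    {H : Subgroup (GL D.Idx k)} (hH : Hyp H) :
    ∃ L : Subfield k, (L : Set k).Finite ∧ ∀ r, r < D.nroots → ∀ t, xg D k r t ∈ H ↔ t ∈ L := by
  have hD := hH.mem
  simp only [List.mem_cons, List.not_mem_nil, or_false] at hD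
  rcases hD with rfl | rfl | rfl | rfl | rfl | rfl | rfl
  exacts [field_G2 p hH, field_B2 p hH, field_D4 hH, field_F4 p hH, field_E6 hH, field_E7 hH,
    field_E8 hH]

end Cfsg.Agent.Chev54.Sub
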