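import Cfsg.Agent.Chev54.SubMove

/-!
The theorem of Borel and Tits for a subgroup conjugate into `U`, and its rational form: in a finite
subgroup containing the root elements over a subfield, the normalisers of the non-trivial
`p`-subgroups of fixed elements consist of fixed elements.
-/

set_option autoImplicit false
set_option linter.unusedSimpArgs false

namespace Cfsg.Agent.Chev54.Sub

open Cfsg.Lie Cfsg.Agent.ChevCore Cfsg.Agent.Chev54 Cfsg.Agent.ChevBT

/-- Borel–Tits: the coset of optimal frames of a subgroup conjugate into `U`. -/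
theorem exists_optimal {D : ChevalleyDatum} {F : Type*} [Field F]
    (hD : D ∈ [chevG2, chevB2, chevD4, chevF4, chevE6, chevE7, chevE8])
    (Q : Subgroup (GL D.Idx F)) (hQ : Q ≠ ⊥) (g₀ : ↥(D.group F))
    (hconj : ∀ u ∈ Q, (g₀ : GL D.Idx F) * u * (g₀ : GL D.Idx F)⁻¹ ∈ D.posUnipotent F) :
    ∃ g ∈ D.group F, ∃ x : Fin D.rank → ℝ, (∀ j, 0 ≤ x j) ∧ (∃ j, x j ≠ 0) ∧
      ∀ g' ∈ D.group F, pairs (Q : Set (GL D.Idx F)) g' = pairs (Q : Set (GL D.Idx F)) g →
        g⁻¹ * g' ∈ D.parabolicSubgroup F (zeroSet x) := by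
  have hG := good_of_mem hD
  classical
  have hs := chkSupp_of_mem hD
  have hQne : ∃ u ∈ (Q : Set (GL D.Idx F)), u ≠ 1 := by
    obtain ⟨u, hu, hne⟩ := (Subgroup.ne_bot_iff_exists_ne_one.1 hQ : ∃ a : Q, a ≠ 1) |>.elim
      fun a ha => (⟨a.1, a.2, fun h => ha (Subtype.ext h)⟩ : ∃ u, u ∈ Q ∧ u ≠ 1)
    exact ⟨u, hu, hne⟩
  have hne := fun f => pairs_nonempty (Q := (Q : Set (GL D.Idx F))) f hQne
  let score : GL D.Idx F → (Fin D.rank → ℝ) → ℝ := fun f x =>
    (pairs (Q : Set (GL D.Idx F)) f).inf' (hne f) fun ab => wv x ab.1 - wv x ab.2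
  have hdeg : ∀ f x c, c ≤ score f x ↔ Deg (Q : Set (GL D.Idx F)) f x c := fun f x c =>
    Finset.le_inf'_iff _ _
  let K : Set (Fin D.rank → ℝ) := {x | (∀ j, 0 ≤ x j) ∧ qn x = 1}
  have hKc : IsCompact K := by
    refine (isCompact_Icc (a := (0 : Fin D.rank → ℝ)) (b := 1)).of_isClosed_subset ?_ ?_
    · have e : K = (⋂ j, {x | 0 ≤ x j}) ∩ {x | qn x = 1} := by ext x; simp [K]
      rw [e]
      refine (isClosed_iInter fun j => isClosed_le continuous_const (continuous_apply j)).inter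
        (isClosed_eq ?_ continuous_const)
      unfold qn lam
      fun_prop
    · rintro x ⟨h1, h2⟩
      refine ⟨fun j => h1 j, fun j => ?_⟩
      have := sq_le_qn hG x j
      rw [h2] at this
      show x j ≤ 1
      nlinarith [h1 j]
  -- a starting point
  let z₁ : Fin D.rank → ℝ := fun _ => 1
  have hz₁ne : z₁ ≠ 0 := fun h => by
    simpa [z₁] using congrFun h ⟨0, hG.rank_pos⟩
  have hq₁ := qn_pos hG hz₁ne
  let x₁ : Fin D.rank → ℝ := (Real.sqrt (qn z₁))⁻¹ • z₁
  have hx₁ : x₁ ∈ K := by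
    refine ⟨fun j => ?_, ?_⟩
    · show 0 ≤ (Real.sqrt (qn z₁))⁻¹ * (1 : ℝ)
      positivity
    · rw [qn_smul, inv_pow, Real.sq_sqrt hq₁.le, inv_mul_cancel₀ hq₁.ne']
  have hKne : K.Nonempty := ⟨x₁, hx₁⟩
  have hcont : ∀ f, Continuous (score f) := fun f => by
    refine Continuous.finset_inf'_apply _ fun ab _ => ?_
    unfold wv
    fun_prop
  choose xm hxmK hxmMax using fun g : ↥(D.group F) =>
    hKc.exists_isMaxOn hKne (hcont (g : GL D.Idx F)).continuousOn
  -- only finitely many sets of pairs occur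
  let PS := Set.range fun g : ↥(D.group F) => pairs (Q : Set (GL D.Idx F)) (g : GL D.Idx F)
  choose rep hrep using fun S : PS => S.2
  haveI : Nonempty ↥PS := ⟨⟨_, ⟨1, rfl⟩⟩⟩
  obtain ⟨S0, hS0⟩ := Finite.exists_max fun S : PS => score (rep S) (xm (rep S))
  set gm := rep S0
  have hgm : ∀ g : ↥(D.group F), score g (xm g) ≤ score gm (xm gm) := fun g => by
    have hS := hrep ⟨_, ⟨g, rfl⟩⟩
    refine le_trans ?_ (hS0 ⟨_, ⟨g, rfl⟩⟩)
    refine le_trans (le_of_eq ?_) (hxmMax (rep ⟨_, ⟨g, rfl⟩⟩) (hxmK g))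
    show score (g : GL D.Idx F) (xm g) = score (rep ⟨_, ⟨g, rfl⟩⟩ : GL D.Idx F) (xm g)
    simp only [score, hS]
  set M := score gm (xm gm) with hM
  have hmax : ∀ (g : ↥(D.group F)) x, x ∈ K → score g x ≤ M := fun g x hx =>
    le_trans (hxmMax g hx) (hgm g)
  have hMpos : 0 < M := by
    have hd : 0 < score ((g₀⁻¹ : ↥(D.group F)) : GL D.Idx F) x₁ := by
      rw [Finset.lt_inf'_iff]
      rintro ⟨a, b⟩ hab
      obtain ⟨u, hu, hne'⟩ := mem_pairs.1 hab
      have h1 := hconj u hu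
      rw [hG.posUnipotent_eq] at h1
      have h2 := hG.raises_of_mem le_rfl h1 a b
      have h3 : wh D b + 1 ≤ wh D a := by
        by_contra hlt
        refine hne' ?_
        rw [Subgroup.coe_inv, inv_inv]
        exact h2 (by omega)
      have h4 : ∀ e : D.Idx, wv x₁ e = (Real.sqrt (qn z₁))⁻¹ * (wh D e : ℝ) := fun e => by
        rw [wv_smul]
        congr 1
        rcases e with i | s
        · simp [wv_inl, wh]
        · rw [wv_inr]
          show ∑ j : Fin D.rank, (coef D s.val j.val : ℝ) * 1 = ((ht D s.val : ℤ) : ℝ)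
          rw [hG.ht_eq s.isLt, Finset.sum_range]
          push_cast
          simp
      show 0 < wv x₁ a - wv x₁ b
      rw [h4, h4, ← mul_sub]
      have h5 : (wh D b : ℝ) + 1 ≤ (wh D a : ℝ) := by exact_mod_cast h3
      have h6 : 0 < (Real.sqrt (qn z₁))⁻¹ := by positivity
      nlinarith
    exact lt_of_lt_of_le hd (hmax _ x₁ hx₁)
  have hxK := hxmK gm
  set x := xm gm with hxdef
  have hJ : ∃ i, i < D.rank ∧ i ∉ zeroSet x := by
    by_contra hno
    have hx0 : x = 0 := funext fun j => by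
      by_contra hj
      exact hno ⟨j.val, j.isLt, fun h => hj (h j.isLt)⟩
    have := hxK.2
    rw [hx0] at this
    simp [qn, lam] at this
  have hwin : ∀ g' : ↥(D.group F), ∀ y, y ∈ K → M ≤ score g' y →
      ((gm⁻¹ * g' : ↥(D.group F)) : GL D.Idx F) ∈ D.parabolicSubgroup F (zeroSet x) := by
    intro g' y hy hyM
    obtain ⟨b, hb, w, hw, hred, b', hb', e⟩ := exists_bruhat_mem hD (gm⁻¹ * g').2
    set f : GL D.Idx F := (gm : GL D.Idx F) * b with hf
    have hfG : f ∈ D.group F := mul_mem gm.2 (hG.borelSubgroup_le_group hb)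
    have d1 : Deg (Q : Set (GL D.Idx F)) f x M := deg_right ((hdeg _ _ _).1 le_rfl)
      (parabolic_ent hG hs hxK.1 (borel_le_parabolic hb))
      (parabolic_ent hG hs hxK.1 (borel_le_parabolic (inv_mem hb)))
    have e' : (g' : GL D.Idx F) * b'⁻¹ = f * nw D F w := by
      rw [hf, show (g' : GL D.Idx F) = (gm : GL D.Idx F) * ((gm⁻¹ * g' : ↥(D.group F)) : GL D.Idx F)
        by simp, e]
      group
    have d2 : Deg (Q : Set (GL D.Idx F)) (f * nw D F w) y M := by
      rw [← e']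
      exact deg_right ((hdeg _ _ _).1 hyM)
        (parabolic_ent hG hs hy.1 (borel_le_parabolic (inv_mem hb')))
        (parabolic_ent hG hs hy.1 (borel_le_parabolic (by rwa [inv_inv])))
    have d3 : Deg (Q : Set (GL D.Idx F)) f (actx D w y) M := deg_mono d2 (nw_ent hG hw y)
    by_cases hxy : x = actx D w y
    · have hl := (red_fix hG hw hred hxK.1 hy.1 hxy).1
      rw [e]
      exact mul_mem (mul_mem (borel_le_parabolic hb)
        (hG.nw_mem_parabolic fun i hi => ⟨hw i hi, hl i hi⟩)) (borel_le_parabolic hb')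
    · exfalso
      set μ := (1 / 2 : ℝ) • (x + actx D w y) with hμ
      have hq : qn μ < 1 := qn_avg hG hxK.2 (by rw [qn_actx hG hw]; exact hy.2) hxy
      have d4 : Deg (Q : Set (GL D.Idx F)) f μ M := fun ab hab => by
        have h1 := d1 ab hab
        have h2 := d3 ab hab
        have e1 : ∀ k, wv μ k = (1 / 2) * (wv x k + wv (actx D w y) k) := fun k => by
          rw [hμ, wv_smul]
          simp [wv, mul_add, Finset.sum_add_distrib]
        rw [e1, e1]
        linarith
      obtain ⟨v, hv, hdom⟩ := exists_dominant hG μ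
      have d5 : Deg (Q : Set (GL D.Idx F)) (f * (nw D F v)⁻¹) (actx D v μ) M :=
        deg_mono (n := nw D F v) (by rwa [inv_mul_cancel_right]) (nw_ent hG hv μ)
      set z := actx D v μ with hz
      have hzne : z ≠ 0 := by
        intro h0
        obtain ⟨ab, hab⟩ := hne (f * (nw D F v)⁻¹)
        have := d5 ab hab
        rw [h0] at this
        simp [wv] at this
        linarith
      have hqz := qn_pos hG hzne
      have hqz' : qn z < 1 := by rw [hz, qn_actx hG hv]; exact hq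
      let z' : Fin D.rank → ℝ := (Real.sqrt (qn z))⁻¹ • z
      have hz' : z' ∈ K := by
        refine ⟨fun j => ?_, ?_⟩
        · show 0 ≤ (Real.sqrt (qn z))⁻¹ * z j
          exact mul_nonneg (by positivity) (hdom j)
        · rw [qn_smul, inv_pow, Real.sq_sqrt hqz.le, inv_mul_cancel₀ hqz.ne']
      have hG' : f * (nw D F v)⁻¹ ∈ D.group F :=
        mul_mem hfG (inv_mem (hG.monomialSubgroup_le_group (hG.nw_mem_N hv)))
      have h6 : (Real.sqrt (qn z))⁻¹ * M ≤ score (f * (nw D F v)⁻¹) z' := by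
        rw [hdeg]
        intro ab hab
        rw [wv_smul, wv_smul, ← mul_sub]
        exact mul_le_mul_of_nonneg_left (d5 ab hab) (by positivity)
      have h7 : M < (Real.sqrt (qn z))⁻¹ * M := by
        have h8 : Real.sqrt (qn z) < 1 := by
          rw [Real.sqrt_lt' one_pos]; simpa using hqz'
        exact lt_mul_of_one_lt_left hMpos ((one_lt_inv₀ (Real.sqrt_pos.2 hqz)).2 h8)
      have := hmax ⟨_, hG'⟩ z' hz'
      linarith
  refine ⟨gm, gm.2, x, hxK.1, ?_, fun g' hg' hp => hwin ⟨g', hg'⟩ x hxK (le_of_eq (by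
    show M = score g' x
    simp only [score, hM, hp]))⟩
  obtain ⟨i, hi, hiJ⟩ := hJ
  exact ⟨⟨i, hi⟩, fun h0 => hiJ fun _ => h0⟩

variable {D : ChevalleyDatum} {k : Type*} [Field k]

/-- A reduced word fixing every root of a proper unipotent radical is empty. -/
theorem nil_of_fix_radJ (hD : D ∈ [chevG2, chevB2, chevD4, chevF4, chevE6, chevE7, chevE8])
    {J : Set ℕ} {k : ℕ} (hk : k < D.rank) (hkJ : k ∉ J) {w : List ℕ} (hw : ∀ i ∈ w, i < D.rank)
    (hred : RedW D w) (hfix : ∀ r, r < D.nroots → r ∈ radJ D J → actW D w r = r) : w = [] := by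
  have hG := good_of_mem hD
  have hlin : ∀ (v : List ℕ), (∀ i ∈ v, i < D.rank) → ∀ r, r < D.nroots → ∀ i < D.rank,
      coef D (actW D v r) i =
        ∑ l ∈ Finset.range D.rank, coef D r l * coef D (actW D v (D.simple l)) i :=
    fun v hv r hr i hi => by rw [coef_actW hG hv hr hi, Finset.sum_range]
  have link : ∀ j < D.rank, k ≠ j → ∃ r r', r < D.nroots ∧ r' < D.nroots ∧ r ∈ radJ D J ∧ r' ∈ radJ D J ∧
      ∀ i < D.rank, coef D r' i = coef D r i + coef D (D.simple j) i := by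
    intro j hj hjk
    have hl := linkB_of_mem hD
    simp only [linkB, kallUpTo_iff, kanyUpTo_iff, Bool.or_eq_true, Bool.and_eq_true, zPos_iff] at hl
    rcases hl k hk j hj with h | ⟨r, hr, hrk, hm⟩
    · exact absurd (Nat.eq_of_beq_eq_true h) hjk
    cases hch : D.chainRoot (D.simple j) r 1 with
    | none => simp [hch] at hm
    | some r' =>
      simp only [hch, Bool.and_eq_true, Nat.blt_eq, kallUpTo_iff, zEq_iff] at hm
      obtain ⟨hr', hco⟩ := hm
      have hco' : ∀ i < D.rank, coef D r' i = coef D r i + coef D (D.simple j) i := fun i hi => by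
        rw [hco i hi, hG.coef_simple hj hi]
        by_cases h : i = j
        · simp [h]
        · rw [if_neg h, if_neg (by simpa using h)]
      have rad : ∀ s, s < D.nroots → 0 < coef D s k → s ∈ radJ D J := fun s hs hsk => by
        refine ⟨?_, fun h => by have := h k hk hkJ; omega⟩
        have := hG.ht_pos_of_coef hs hk hsk
        omega
      have hk' : 0 < coef D r' k := by
        rw [hco' k hk, hG.coef_simple hj hk, if_neg hjk]; omega
      exact ⟨r, r', hr, hr', rad r hr hrk, rad r' hr' hk', hco'⟩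
  have hksimp : D.simple k ∈ radJ D J := by
    refine ⟨by rw [hG.ht_simple hk], fun h => ?_⟩
    have := h k hk hkJ
    rw [hG.coef_simple hk hk, if_pos rfl] at this
    exact one_ne_zero this
  have hsimp : ∀ j < D.rank, ∀ i < D.rank,
      coef D (actW D w (D.simple j)) i = coef D (D.simple j) i := by
    intro j hj i hi
    by_cases hjk : k = j
    · subst hjk; rw [hfix _ (hG.simple_lt hk) hksimp]
    obtain ⟨r, r', hr, hr', hrad, hrad', hco⟩ := link j hj hjk
    have e : coef D (actW D w r') i = coef D (actW D w r) i + coef D (actW D w (D.simple j)) i := by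
      rw [hlin w hw r' hr' i hi, hlin w hw r hr i hi,
        Finset.sum_congr rfl fun l hl => by rw [hco l (Finset.mem_range.1 hl), add_mul],
        Finset.sum_add_distrib]
      congr 1
      rw [Finset.sum_eq_single j]
      · rw [hG.coef_simple hj hj, if_pos rfl, one_mul]
      · intro l hl hlj
        rw [hG.coef_simple hj (Finset.mem_range.1 hl), if_neg hlj, zero_mul]
      · exact fun h => absurd (Finset.mem_range.2 hj) h
    rw [hfix r hr hrad, hfix r' hr' hrad', hco i hi] at e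
    omega
  have hnil : w = [] := by
    cases hw' : w with
    | nil => rfl
    | cons i v =>
      exfalso
      subst hw'
      have hv : ∀ a ∈ v, a < D.rank := fun a ha => hw a (by simp [ha])
      have hi : i < D.rank := hw i (by simp)
      set r := actW D v.reverse (D.simple i) with hr
      have hrl : r < D.nroots := hG.actW_lt (fun a ha => hv a (List.mem_reverse.1 ha)) (hG.simple_lt hi)
      have hrp : 0 < ht D r := hred.1
      have hwr : actW D (i :: v) r = D.neg (D.simple i) := by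
        rw [actW_cons, hr, hG.actW_reverse hv (hG.simple_lt hi), hG.refl_simple hi]
      have e : coef D (D.neg (D.simple i)) i = coef D r i := by
        rw [← hwr, hlin _ hw r hrl i hi, Finset.sum_eq_single i]
        · rw [hsimp i hi i hi, hG.coef_simple hi hi, if_pos rfl, mul_one]
        · intro l hl hli
          rw [hsimp l (Finset.mem_range.1 hl) i hi, hG.coef_simple (Finset.mem_range.1 hl) hi,
            if_neg (Ne.symm hli), mul_zero]
        · exact fun h => absurd (Finset.mem_range.2 hi) h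
      have := hG.coef_nonneg hrl hrp hi
      rw [hG.coef_neg (hG.simple_lt hi) hi, hG.coef_simple hi hi, if_pos rfl] at e
      omega
  exact hnil

/-- The fixed elements. -/
abbrev Fx (D : ChevalleyDatum) {k : Type*} [Field k] (φ : k →+* k) : Subgroup (GL D.Idx k) :=
  MonoidHom.eqLocus (mapE D φ) (MonoidHom.id _)

lemma mem_Fx {φ : k →+* k} {g : GL D.Idx k} : g ∈ Fx D φ ↔ mapE D φ g = g := Iff.rfl

/-- A Weyl element in a parabolic subgroup does not lower the degree. -/
lemma lam_le_act (hG : Good D) (hs : chkSupp D = true) {x : Fin D.rank → ℝ} (hx : ∀ j, 0 ≤ x j)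
    {b b' : GL D.Idx k} (hb : b ∈ D.borelSubgroup k) (hb' : b' ∈ D.borelSubgroup k) {w : List ℕ}
    (hw : ∀ i ∈ w, i < D.rank)
    (hP : b * nw D k w * b' ∈ D.parabolicSubgroup k (zeroSet x)) {r : ℕ} (hr : r < D.nroots) :
    lam x r ≤ lam x (actW D w r) := by
  have hnP : nw D k w ∈ D.parabolicSubgroup k (zeroSet x) := by
    have := mul_mem (mul_mem (inv_mem (borel_le_parabolic (J := zeroSet x) hb)) hP)
      (inv_mem (borel_le_parabolic (J := zeroSet x) hb'))
    refine (show b⁻¹ * (b * nw D k w * b') * b'⁻¹ = nw D k w by group) ▸ this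
  have hn := parabolic_ent hG hs hx hnP
  set R : D.Idx := Sum.inr ⟨r, hr⟩
  obtain ⟨a, ha⟩ : ∃ a, (nw D k w : Matrix D.Idx D.Idx k) a R ≠ 0 := by
    by_contra hno
    have h1 : (((nw D k w)⁻¹ : GL D.Idx k) : Matrix D.Idx D.Idx k) * (nw D k w : Matrix D.Idx D.Idx k) = 1 := by
      rw [← Units.val_mul, inv_mul_cancel, Units.val_one]
    have h2 := congrFun (congrFun h1 R) R
    rw [Matrix.mul_apply, Finset.sum_eq_zero fun c _ => by
      rw [not_not.1 (fun h => hno ⟨c, h⟩), mul_zero], Matrix.one_apply_eq] at h2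
    exact zero_ne_one h2
  have h1 : 0 ≤ wv x a - wv x R := hn a R ha
  rcases hG.nw_supp hw ha with ⟨j, l, -, e⟩ | ⟨s, t, rfl, e, ht'⟩
  · simp [R] at e
  · have e' : s.val = r := by
      have := Sum.inr.inj e
      rw [← this]
    rw [wv_inr, wv_inr, ht', e'] at h1
    have h3 : (⟨r, hr⟩ : Fin D.nroots).val = r := rfl
    rw [h3] at h1
    linarith

section

variable {H : Subgroup (GL D.Idx k)} {L : Subfield k} {φ : k →+* k} (hH : Ctx H L φ)
include hH

/-- A coset of a parabolic subgroup stable under the endomorphism contains a fixed element of `H`. -/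
theorem exists_fixed_rep {x : Fin D.rank → ℝ} (hx : ∀ j, 0 ≤ x j) {g : GL D.Idx k}
    (hg : g ∈ D.group k) (hst : g⁻¹ * mapE D φ g ∈ D.parabolicSubgroup k (zeroSet x)) :
    ∃ g', g' ∈ H ∧ g' ∈ Fx D φ ∧ g⁻¹ * g' ∈ D.parabolicSubgroup k (zeroSet x) := by
  classical
  have hC := hH.toHyp.comm
  have hG := hH.toHyp.good
  have hU := hH.toHyp.ug
  have hs := chkSupp_of_mem hH.toHyp.mem
  set P := D.parabolicSubgroup k (zeroSet x)
  obtain ⟨b, hb, w, hw, -, b', hb', rfl⟩ := exists_bruhat_mem hH.toHyp.mem hg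
  obtain ⟨u, hu, τ, hτ, rfl⟩ := hG.mem_borel hb
  rw [hG.posUnipotent_eq] at hu
  have hwr : ∀ i ∈ w.reverse, i < D.rank := fun i hi => hw i (List.mem_reverse.1 hi)
  set n := nw D k w with hn
  let ρ : ℕ → ℕ := actW D w.reverse
  have hnx : ∀ s, s < D.nroots → ∀ t : k, ∃ t', n⁻¹ * xg D k s t * n = xg D k (ρ s) t' := by
    intro s hs' t
    refine ⟨(etaWord D w (ρ s) : k) * t, ?_⟩
    have e := hG.nw_conj_x hw (hG.actW_lt hwr hs') (t := (etaWord D w (ρ s) : k) * t)
    rw [hG.actW_reverse hw hs', ← mul_assoc, ← Int.cast_mul, Good.etaWord_sq, Int.cast_one, one_mul]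
      at e
    rw [← e, hn]; simp only [ρ]; group
  set La := (posL (D := D)).filter fun s => decide (lam x (ρ s) < 0) with hLa
  set Lb := (posL (D := D)).filter fun s => !decide (lam x (ρ s) < 0) with hLb
  have hnd : (La ++ Lb).Nodup := List.nodup_append.2 ⟨posL_nodup.filter _, posL_nodup.filter _,
    fun a ha c hc e => by
      subst e
      have h1 := (List.mem_filter.1 ha).2
      have h2 := (List.mem_filter.1 hc).2
      simp_all⟩
  have hmem : ∀ s, s ∈ La ++ Lb ↔ s < D.nroots ∧ 1 ≤ ht D s := fun s => by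
    rw [List.mem_append, List.mem_filter, List.mem_filter, mem_posL' hU]
    by_cases h : lam x (ρ s) < 0 <;> simp [h]
  obtain ⟨t, -, etu⟩ := hU.exists_prod hnd hmem hu
  set u' := prodL D k La t
  have hu' : u' ∈ XS D k (htGe D 1) :=
    hU.prodL_mem (fun s hs' => (hmem s).1 (List.mem_append_left _ hs')) t
  have hvb : n⁻¹ * prodL D k Lb t * n ∈ P := by
    refine (show P.comap (MulAut.conj n⁻¹).toMonoidHom = _ from rfl) ▸
      (show prodL D k Lb t ∈ P.comap (MulAut.conj n⁻¹).toMonoidHom from prodL_mem_of _ fun s hs' => ?_)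
        |> fun h => by simpa using h
    obtain ⟨hs1, hs2⟩ := (hmem s).1 (List.mem_append_right _ hs')
    obtain ⟨t', e⟩ := hnx s hs1 (t s)
    show n⁻¹ * xg D k s (t s) * (n⁻¹)⁻¹ ∈ P
    rw [inv_inv, e]
    show xg D k (ρ s) t' ∈ D.parabolicSubgroup k (zeroSet x)
    rw [hG.parabolic_eq hs]
    refine Subgroup.mem_sup_right (xg_mem_XS (hG.actW_lt hwr hs1) ?_ _)
    have hlam : 0 ≤ lam x (ρ s) := not_lt.1 (by simpa using (List.mem_filter.1 hs').2)
    by_cases hp : 1 ≤ ht D (ρ s)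
    · exact Or.inl hp
    refine Or.inr fun i hi hiJ => ?_
    have hρ : ρ s < D.nroots := hG.actW_lt hwr hs1
    have hn0 := hG.ht_ne_zero hρ
    have hneg : ∀ j : Fin D.rank, coef D (ρ s) j.val ≤ 0 := fun j => by
      have := hG.coef_nonneg (hG.neg_lt hρ) (by rw [hG.ht_neg hρ]; omega) j.isLt
      rw [hG.coef_neg hρ j.isLt] at this
      omega
    have hxi : x ⟨i, hi⟩ ≠ 0 := fun h0 => hiJ fun _ => h0
    have hle : lam x (ρ s) ≤ (coef D (ρ s) i : ℝ) * x ⟨i, hi⟩ := by
      rw [lam, ← Finset.add_sum_erase _ _ (Finset.mem_univ (⟨i, hi⟩ : Fin D.rank))]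
      exact add_le_of_nonpos_right (Finset.sum_nonpos fun j _ =>
        mul_nonpos_of_nonpos_of_nonneg (by exact_mod_cast hneg j) (hx j))
    have h0 : (0 : ℝ) ≤ (coef D (ρ s) i : ℝ) := by
      by_contra hlt
      have := mul_neg_of_neg_of_pos (not_le.1 hlt) (lt_of_le_of_ne (hx _) (Ne.symm hxi))
      linarith
    have : coef D (ρ s) i ≤ 0 := hneg ⟨i, hi⟩
    have h0' : (0 : ℤ) ≤ coef D (ρ s) i := by exact_mod_cast h0
    exact le_antisymm this h0'
  have hq : (u * τ * n * b')⁻¹ * (u' * n) ∈ P := by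
    have h1 : b'⁻¹ * (n⁻¹ * τ⁻¹ * n) * (n⁻¹ * prodL D k Lb t * n)⁻¹ ∈ P :=
      mul_mem (mul_mem (inv_mem (borel_le_parabolic hb'))
        (borel_le_parabolic (Subgroup.mem_sup_right (nw_inv_conj_H hG hw (inv_mem hτ))))) (inv_mem hvb)
    have e : u = u' * prodL D k Lb t := by
      rw [← etu]; simp [u', prodL, List.map_append, List.prod_append]
    have e2 : (u * τ * n * b')⁻¹ * (u' * n) = b'⁻¹ * (n⁻¹ * τ⁻¹ * n) * (n⁻¹ * prodL D k Lb t * n)⁻¹ := by
      rw [e]; group
    rw [e2]; exact h1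
  have hfu : mapE D φ u' = u' := by
    have hA : (u' * n)⁻¹ * mapE D φ (u' * n) ∈ P := by
      have := mul_mem (mul_mem (inv_mem hq) hst) (mapE_parabolic φ hC hs hq)
      have e3 : (u' * n)⁻¹ * mapE D φ (u' * n) =
          ((u * τ * n * b')⁻¹ * (u' * n))⁻¹ * ((u * τ * n * b')⁻¹ * mapE D φ (u * τ * n * b')) *
            mapE D φ ((u * τ * n * b')⁻¹ * (u' * n)) := by
        rw [map_mul (mapE D φ) (u * τ * n * b')⁻¹, map_inv]; group
      rw [e3]; exact this
    set A := n⁻¹ * (u'⁻¹ * mapE D φ u') * n with hAdef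
    have hAP : A ∈ P := by
      rw [hn, map_mul, mapE_nw φ hC hw] at hA
      refine (show (u' * nw D k w)⁻¹ * (mapE D φ u' * nw D k w) = A from ?_) ▸ hA
      rw [hAdef, hn]; group
    set S : Set ℕ := {r | lam x r < 0}
    have key : ∀ t : ℕ → k, n⁻¹ * prodL D k La t * n ∈ XS D k S := by
      intro t
      have h : prodL D k La t ∈ (XS D k S).comap (MulAut.conj n⁻¹).toMonoidHom := by
        refine prodL_mem_of _ fun s hs' => ?_
        obtain ⟨hs1, -⟩ := (hmem s).1 (List.mem_append_left _ hs')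
        obtain ⟨t', e⟩ := hnx s hs1 (t s)
        show n⁻¹ * xg D k s (t s) * (n⁻¹)⁻¹ ∈ XS D k S
        rw [inv_inv, e]
        exact xg_mem_XS (hG.actW_lt hwr hs1) (show lam x (ρ s) < 0 by simpa using (List.mem_filter.1 hs').2) _
      simpa using h
    have hAS : A ∈ XS D k S := by
      have h2 := key fun s => φ (t s)
      rw [← mapE_prodL φ hC La (fun s hs' => ((hmem s).1 (List.mem_append_left _ hs')).1) t] at h2
      refine (show (n⁻¹ * u' * n)⁻¹ * (n⁻¹ * mapE D φ u' * n) = A by rw [hAdef]; group) ▸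
        mul_mem (inv_mem (key t)) h2
    have hneg : SuppRel (fun a c => wv x a - wv x c < 0) (A : Matrix D.Idx D.Idx k) := by
      refine suppRel_of_closure (fun a c d h1 h2 => by linarith) ?_ hAS
      rintro y ⟨r, s, hr, hrS, rfl⟩
      have key' : ∀ s : k, SuppRel (fun a c => wv x a - wv x c < 0)
          (xg D k r s : Matrix D.Idx D.Idx k) := fun s =>
        supp_root hG hr (fun a c m hm e => by
          rw [e]
          exact mul_neg_of_pos_of_neg (by exact_mod_cast hm) hrS) s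
      exact ⟨key' s, by rw [hG.xg_inv]; exact key' (-s)⟩
    have hge := parabolic_ent hG hs hx hAP
    have hA1 : A = 1 := by
      refine Units.ext (sub_eq_zero.1 ?_)
      rw [Units.val_one]
      ext a c
      show ((A : Matrix D.Idx D.Idx k) - 1) a c = 0
      by_contra hne
      have h1 : wv x a - wv x c < 0 := not_not.1 fun h => hne (hneg a c h)
      have hac : a ≠ c := by rintro rfl; simp at h1
      rw [Matrix.sub_apply, Matrix.one_apply_ne hac, sub_zero] at hne
      have h2 : 0 ≤ wv x a - wv x c := hge a c hne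
      linarith
    rw [hAdef] at hA1
    calc mapE D φ u' = u' * (n * (n⁻¹ * (u'⁻¹ * mapE D φ u') * n) * n⁻¹) := by group
      _ = u' := by rw [hA1]; group
  refine ⟨u' * n, mul_mem (hH.mem_of_fixed hu' hfu) (hH.toHyp.nw_mem hw), ?_, hq⟩
  rw [mem_Fx, map_mul, hfu, mapE_nw φ hC hw]

variable {Z : List ℕ} (hZ : ZGood H L Z)
include hZ

/-- The elements of `H` in a proper parabolic subgroup are fixed. -/
theorem parabolic_fixed {x : Fin D.rank → ℝ} (hx : ∀ j, 0 ≤ x j) (hx0 : ∃ j, x j ≠ 0)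
    {h : GL D.Idx k} (hhH : h ∈ H) (hhP : h ∈ D.parabolicSubgroup k (zeroSet x)) :
    mapE D φ h = h := by
  classical
  have hC := hH.toHyp.comm
  have hG := hH.toHyp.good
  have hU := hH.toHyp.ug
  have hD := hH.toHyp.mem
  have hs := chkSupp_of_mem hD
  set J := zeroSet x
  obtain ⟨j0, hj0⟩ := hx0
  have hj0J : j0.val ∉ J := fun hh => hj0 (hh j0.isLt)
  set d := h⁻¹ * mapE D φ h
  have hdP : d ∈ D.parabolicSubgroup k J := mul_mem (inv_mem hhP) (mapE_parabolic φ hC hs hhP)
  have hcomm : ∀ r, r < D.nroots → r ∈ radJ D J → d * xg D k r 1 * d⁻¹ = xg D k r 1 := by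
    intro r hr hrad
    have hxr : xg D k r (1 : k) ∈ D.unipotentRadical k J := by
      rw [hG.unipotentRadical_eq hs]; exact xg_mem_XS hr hrad _
    have h1 := (Subgroup.mem_normalizer_iff.1 (hC.parabolic_le_normalizer hs J hhP) _).1 hxr
    rw [hG.unipotentRadical_eq hs] at h1
    have h2 := U_fixed hH hZ (XS_mono (fun s hs' => hs'.1) h1)
      (mul_mem (mul_mem hhH (hH.toHyp.one r hr)) (inv_mem hhH))
    rw [map_mul, map_mul, map_inv, hH.xg_fixed hr (one_mem L)] at h2
    calc d * xg D k r 1 * d⁻¹ = h⁻¹ * (mapE D φ h * xg D k r 1 * (mapE D φ h)⁻¹) * h := by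
          simp only [d]; group
      _ = _ := by rw [h2]; group
  have hdG : d ∈ D.group k :=
    mul_mem (inv_mem (hH.toHyp.le hhH)) (mapE_group φ hC (hH.toHyp.le hhH))
  obtain ⟨b, hb, w, hw, hred, b', hb', ed⟩ := exists_bruhat_mem hD hdG
  let R : Finset ℕ := (Finset.range D.nroots).filter fun r => r ∈ radJ D J
  have hR : ∀ r, r ∈ R ↔ r < D.nroots ∧ r ∈ radJ D J := fun r => by simp [R]
  have hlead : ∀ r, r ∈ R → actW D w r ∈ R ∧ ht D r ≤ ht D (actW D w r) ∧
      (ht D (actW D w r) = ht D r → actW D w r = r) := by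
    intro r hrR
    obtain ⟨hr, hrad⟩ := (hR r).1 hrR
    have hr1 : 1 ≤ ht D r := hrad.1
    obtain ⟨c, -, -, -, hy⟩ := borel_lead hU hb' hr hr1
    obtain ⟨c', -, -, -, hz⟩ := borel_lead hU (inv_mem hb) hr hr1
    have e : nw D k w * (b' * xg D k r 1 * b'⁻¹) * (nw D k w)⁻¹ = b⁻¹ * xg D k r 1 * b⁻¹⁻¹ := by
      calc _ = b⁻¹ * (d * xg D k r 1 * d⁻¹) * b⁻¹⁻¹ := by rw [ed]; group
        _ = _ := by rw [hcomm r hr hrad]
    obtain ⟨p1, p2, p3⟩ := lead_move hU hw hr hr1 (Units.ne_zero _) hy (by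
      rw [e]; exact XS_mono (fun s (hs' : ht D r ≤ ht D s) => show 1 ≤ ht D s by omega) (hz.mem hU))
    refine ⟨(hR _).2 ⟨hG.actW_lt hw hr, p1, fun hsub => ?_⟩, p2 (e ▸ hz.mem hU), fun he => p3 _ (e ▸ hz) he⟩
    have hge := lam_le_act hG hs hx hb hb' hw (ed ▸ hdP) hr
    obtain ⟨hnn, l, hl, hlJ, hpos⟩ := hG.coef_lt_of_radJ hr hrad
    have hlp : 0 < lam x r := Finset.sum_pos' (fun j _ => mul_nonneg (by exact_mod_cast hnn j.val j.isLt) (hx j))
      ⟨⟨l, hl⟩, Finset.mem_univ _, mul_pos (by exact_mod_cast hpos)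
        (lt_of_le_of_ne (hx _) fun h0 => hlJ fun _ => h0.symm)⟩
    have h0 : lam x (actW D w r) = 0 := Finset.sum_eq_zero fun j _ => by
      by_cases hj : j.val ∈ J
      · rw [hj j.isLt, mul_zero]
      · rw [hsub j.val j.isLt hj]; simp
    linarith
  have hinj : Set.InjOn (actW D w) (R : Set ℕ) := fun a ha c hc e => by
    have h' : ∀ s, s < D.nroots → actW D w.reverse (actW D w s) = s := fun s hs' => by
      have := hG.actW_reverse (w := w.reverse) (fun i hi => hw i (List.mem_reverse.1 hi)) hs'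
      rwa [List.reverse_reverse] at this
    rw [← h' a ((hR a).1 ha).1, ← h' c ((hR c).1 hc).1, e]
  have himg : R.image (actW D w) = R := Finset.eq_of_subset_of_card_le
    (fun s hs' => by obtain ⟨r, hr, rfl⟩ := Finset.mem_image.1 hs'; exact (hlead r hr).1)
    (by rw [Finset.card_image_of_injOn hinj])
  have hsum : ∑ r ∈ R, ht D r = ∑ r ∈ R, ht D (actW D w r) := by
    conv_lhs => rw [← himg, Finset.sum_image hinj]
  have heq := (Finset.sum_eq_sum_iff_of_le fun r hr => (hlead r hr).2.1).1 hsum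
  have hnil : w = [] := nil_of_fix_radJ hD j0.isLt hj0J hw hred fun r hr hrad =>
    (hlead r ((hR r).2 ⟨hr, hrad⟩)).2.2 (heq r ((hR r).2 ⟨hr, hrad⟩)).symm
  have hdB : d ∈ D.borelSubgroup k := by
    rw [ed, hnil, show nw D k ([] : List ℕ) = 1 by simp [nw], mul_one]
    exact mul_mem hb hb'
  have hB : D.parabolicSubgroup k (zeroSet fun _ : Fin D.rank => (1 : ℝ)) = D.borelSubgroup k := by
    refine le_antisymm ?_ borel_le_parabolic
    rw [hG.parabolic_gen]
    refine sup_le le_rfl ((Subgroup.closure_le _).2 ?_)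
    rintro g ⟨j, hj, hjr, -⟩
    exact absurd (hj hjr) one_ne_zero
  obtain ⟨g', hg'H, hg'F, hg'⟩ := exists_fixed_rep hH (x := fun _ => 1) (fun _ => zero_le_one)
    (hH.toHyp.le hhH) (hB.symm ▸ hdB)
  have hf := B_fixed hH hZ (hB ▸ hg') (mul_mem (inv_mem hhH) hg'H)
  rw [map_mul, map_inv, (mem_Fx.1 hg'F)] at hf
  exact inv_injective (mul_right_cancel hf)

/-- A `p`-subgroup of fixed elements of `H` is conjugate into `U` by one of them. -/
theorem exists_conj_U (p : ℕ) [Fact p.Prime] [CharP k p] {Q : Subgroup (GL D.Idx k)}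
    (hQ : Q ≤ H ⊓ Fx D φ) (hQp : IsPGroup p Q) :
    ∃ m ∈ H ⊓ Fx D φ, ∀ u ∈ Q, m * u * m⁻¹ ∈ XS D k (htGe D 1) := by
  have hU := hH.toHyp.ug
  have hG := hH.toHyp.good
  set M := H ⊓ Fx D φ with hMdef
  haveI := hH.toHyp.fin
  haveI : Finite ↥M := Finite.of_injective (Subgroup.inclusion (inf_le_left : M ≤ H))
    (Subgroup.inclusion_injective _)
  set S : Subgroup ↥M := (XS D k (htGe D 1)).subgroupOf M with hSdef
  have hSp : IsPGroup p S := fun g => by
    obtain ⟨n, hn⟩ := U_pow hU p (x := ((g : ↥M) : GL D.Idx k)) g.2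
    exact ⟨n, Subtype.ext (Subtype.ext (by simpa using hn))⟩
  obtain ⟨P, hSP⟩ := hSp.exists_le_sylow
  have hPS : (P : Subgroup ↥M) ≤ S := by
    by_contra hne
    haveI : Group.IsNilpotent ↥(P : Subgroup ↥M) := P.2.isNilpotent
    have hlt : S.subgroupOf (P : Subgroup ↥M) < ⊤ :=
      lt_top_iff_ne_top.2 fun h => hne (Subgroup.subgroupOf_eq_top.1 h)
    obtain ⟨g, hgN, hgS⟩ := SetLike.exists_of_lt (normalizerCondition_of_isNilpotent _ hlt)
    refine hgS ?_
    show ((g : ↥M) : GL D.Idx k) ∈ XS D k (htGe D 1)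
    obtain ⟨n, hn⟩ := P.2 g
    refine mem_U_of_pow hU p (mem_borel_of_simple hU hH.toHyp.mem (hH.toHyp.le (g : ↥M).2.1)
      fun j hj => ?_) (n := n) (by simpa using congrArg (fun y : ↥(P : Subgroup ↥M) => ((y : ↥M) : GL D.Idx k)) hn)
    have hp := hG.simple_lt hj
    have hxU : xg D k (D.simple j) (1 : k) ∈ XS D k (htGe D 1) :=
      xg_mem_XS hp (show 1 ≤ ht D (D.simple j) by rw [hG.ht_simple hj]) 1
    let y : ↥M := ⟨_, hH.toHyp.one _ hp, hH.xg_fixed hp (one_mem L)⟩
    exact (Subgroup.mem_normalizer_iff.1 hgN (⟨y, hSP hxU⟩ : ↥(P : Subgroup ↥M))).1 hxU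
  obtain ⟨T, hT⟩ := ((hQp.comap_subtype (K := M)).exists_le_sylow :
    ∃ T : Sylow p ↥M, Q.subgroupOf M ≤ T)
  obtain ⟨m, hm⟩ := MulAction.exists_smul_eq ↥M T P
  refine ⟨m, m.2, fun u hu => ?_⟩
  have h2 : MulAut.conj m ⟨u, hQ hu⟩ ∈ ((m • T : Sylow p _) : Subgroup ↥M) :=
    Subgroup.mem_map_of_mem (MulAut.conj m : ↥M ≃* ↥M).toMonoidHom (hT hu : (⟨u, hQ hu⟩ : ↥M) ∈ (T : Subgroup ↥M))
  rw [hm] at h2
  exact hPS h2

/-- The rational theorem of Borel and Tits. -/
theorem local_fixed (p : ℕ) [Fact p.Prime] [CharP k p] {Q : Subgroup (GL D.Idx k)}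
    (hQ : Q ≤ H ⊓ Fx D φ) (hQp : IsPGroup p Q) (hQ0 : Q ≠ ⊥) {n : GL D.Idx k} (hnH : n ∈ H)
    (hnN : n ∈ Subgroup.normalizer (Q : Set (GL D.Idx k))) : mapE D φ n = n := by
  have hC := hH.toHyp.comm
  have hG := hH.toHyp.good
  obtain ⟨m, hm, hmU⟩ := exists_conj_U hH hZ p hQ hQp
  obtain ⟨g, hg, x, hx, hx0, hwin⟩ := exists_optimal hH.toHyp.mem Q hQ0 ⟨m, hH.toHyp.le hm.1⟩
    fun u hu => by rw [hG.posUnipotent_eq]; exact hmU u hu
  have hφ : g⁻¹ * mapE D φ g ∈ D.parabolicSubgroup k (zeroSet x) := by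
    refine hwin _ (mapE_group φ hC hg) ?_
    ext ⟨a, b⟩
    rw [mem_pairs, mem_pairs]
    refine exists_congr fun u => and_congr_right fun hu => ?_
    have e : (mapE D φ g)⁻¹ * u * mapE D φ g = mapE D φ (g⁻¹ * u * g) := by
      rw [map_mul, map_mul, map_inv, (mem_Fx.1 (hQ hu).2)]
    rw [e]
    have e2 : ((mapE D φ (g⁻¹ * u * g) : GL D.Idx k) : Matrix D.Idx D.Idx k) a b - (1 : Matrix D.Idx D.Idx k) a b =
        φ ((((g⁻¹ * u * g : GL D.Idx k)) : Matrix D.Idx D.Idx k) a b - (1 : Matrix D.Idx D.Idx k) a b) := by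
      rw [map_sub]
      refine congrArg₂ (· - ·) rfl ?_
      by_cases hab : a = b
      · rw [hab, Matrix.one_apply_eq, map_one]
      · rw [Matrix.one_apply_ne hab, map_zero]
    simp only [Matrix.sub_apply]
    rw [e2, map_ne_zero]
  obtain ⟨g', hg'H, hg'F, hg'⟩ := exists_fixed_rep hH hx hg hφ
  have hn : g⁻¹ * (n * g) ∈ D.parabolicSubgroup k (zeroSet x) := by
    refine hwin _ (mul_mem (hH.toHyp.le hnH) hg) ?_
    ext ⟨a, b⟩
    rw [mem_pairs, mem_pairs]
    constructor
    · rintro ⟨u, hu, h⟩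
      refine ⟨n⁻¹ * u * n, (Subgroup.mem_normalizer_iff''.1 hnN u).1 hu, ?_⟩
      rwa [show g⁻¹ * (n⁻¹ * u * n) * g = (n * g)⁻¹ * u * (n * g) by group]
    · rintro ⟨u, hu, h⟩
      refine ⟨n * u * n⁻¹, (Subgroup.mem_normalizer_iff.1 hnN u).1 hu, ?_⟩
      rwa [show (n * g)⁻¹ * (n * u * n⁻¹) * (n * g) = g⁻¹ * u * g by group]
  have hf := parabolic_fixed hH hZ hx hx0 (mul_mem (mul_mem (inv_mem hg'H) hnH) hg'H) (by
    refine (show (g⁻¹ * g')⁻¹ * (g⁻¹ * (n * g)) * (g⁻¹ * g') = g'⁻¹ * n * g' by group) ▸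
      mul_mem (mul_mem (inv_mem hg') hn) hg')
  rw [map_mul, map_mul, map_inv, mem_Fx.1 hg'F] at hf
  exact mul_left_cancel (mul_right_cancel hf)

end

end Cfsg.Agent.Chev54.Sub
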