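import Cfsg.Agent.Chev54.SubCtx
import Cfsg.Agent.Chev54.ParFit

/-!
The unipotent and Borel parts of a finite subgroup containing the root elements over a subfield are
fixed by the field endomorphism, given the central roots of `U` in the characteristic.
-/

set_option autoImplicit false

namespace Cfsg.Agent.Chev54.Sub

open Cfsg.Lie Cfsg.Agent.ChevCore Cfsg.Agent.Chev54

variable {D : ChevalleyDatum} {k : Type*} [Field k]

/-- `z` conjugates every `x_r(1)` into `H`. -/
def Cz (H : Subgroup (GL D.Idx k)) (z : GL D.Idx k) : Prop :=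
  ∀ r, r < D.nroots → z * xg D k r 1 * z⁻¹ ∈ H

/-- The roots `Z` are the central ones of `U`, and their root elements in `H` are fixed. -/
structure ZGood (H : Subgroup (GL D.Idx k)) (L : Subfield k) (Z : List ℕ) : Prop where
  pos : ∀ r ∈ Z, r < D.nroots ∧ 1 ≤ ht D r
  nodup : Z.Nodup
  wit : ∀ r, r < D.nroots → 1 ≤ ht D r → r ∉ Z → ∃ s w γ rest, s < D.nroots ∧ 1 ≤ ht D s ∧ s ≠ r ∧
    D.commTerms r s = (w, γ, 1, 1) :: rest ∧ (∀ c ∈ rest, c.1 ≠ w) ∧ ((γ : ℤ) : k) ≠ 0
  cent : ∀ z ∈ Z, ∀ s, s < D.nroots → 1 ≤ ht D s → ∀ t u : k, Commute (xg D k z t) (xg D k s u)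
  rat : ∀ e : ℕ → k, Cz H (prodL D k Z e) → ∀ r ∈ Z, e r ∈ L

variable {H : Subgroup (GL D.Idx k)} {L : Subfield k} {φ : k →+* k} (hH : Ctx H L φ)
  {Z : List ℕ} (hZ : ZGood H L Z)

/-- The subgroup of the central roots. -/
noncomputable abbrev ZS (D : ChevalleyDatum) (k : Type*) [Field k] (Z : List ℕ) : Subgroup (GL D.Idx k) :=
  XS D k {r | r ∈ Z}

include hH hZ

omit hH in
lemma ZGood.comm_U {z : GL D.Idx k} (hz : z ∈ ZS D k Z) {u : GL D.Idx k}
    (hu : u ∈ XS D k (htGe D 1)) : Commute z u := by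
  induction hz using Subgroup.closure_induction with
  | mem y hy =>
    obtain ⟨r, t, -, hr, rfl⟩ := hy
    induction hu using Subgroup.closure_induction with
    | mem v hv => obtain ⟨s, b, hs, hs1, rfl⟩ := hv; exact hZ.cent r hr s hs hs1 t b
    | one => exact Commute.one_right _
    | mul a b _ _ ha hb => exact ha.mul_right hb
    | inv a _ ha => exact ha.inv_right
  | one => exact Commute.one_left _
  | mul a b _ _ ha hb => exact ha.mul_left hb
  | inv a _ ha => exact ha.inv_left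

omit hH in
lemma ZGood.le_U : ZS D k Z ≤ XS D k (htGe D 1) := XS_mono fun r hr => (hZ.pos r hr).2

lemma prodL_Z_mem (e : ℕ → k) : prodL D k Z e ∈ ZS D k Z :=
  prodL_mem_of _ fun r hr => xg_mem_XS (hZ.pos r hr).1 hr _

lemma prodL_Z_mul (M : List ℕ) (hM : ∀ r ∈ M, r ∈ Z) (e e' : ℕ → k) :
    prodL D k M (e + e') = prodL D k M e * prodL D k M e' := by
  induction M with
  | nil => simp [prodL]
  | cons r M ih =>
    have hr := hM r (List.mem_cons_self ..)
    rw [prodL_cons, prodL_cons, prodL_cons, ih fun s hs => hM s (List.mem_cons_of_mem _ hs),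
      Pi.add_apply, hH.toHyp.good.xg_add]
    have hc : Commute (xg D k r (e' r)) (prodL D k M e) :=
      hZ.comm_U (xg_mem_XS (hZ.pos r hr).1 hr _)
        (hZ.le_U (prodL_mem_of _ fun s hs => xg_mem_XS
          (hZ.pos s (hM s (List.mem_cons_of_mem _ hs))).1 (hM s (List.mem_cons_of_mem _ hs)) _))
    simp only [mul_assoc]
    rw [← mul_assoc (xg D k r (e' r)), hc.eq, mul_assoc]

lemma exists_Z_prod {z : GL D.Idx k} (hz : z ∈ ZS D k Z) : ∃ e, prodL D k Z e = z := by
  have hU := hH.toHyp.ug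
  induction hz using Subgroup.closure_induction with
  | mem y hy =>
    obtain ⟨r, t, -, hr, rfl⟩ := hy
    exact ⟨Pi.single r t, hU.prodL_single hZ.nodup hr t⟩
  | one => exact ⟨fun _ => 0, prodL_zero hU Z⟩
  | mul a b _ _ ha hb =>
    obtain ⟨e, rfl⟩ := ha
    obtain ⟨e', rfl⟩ := hb
    exact ⟨e + e', prodL_Z_mul hH hZ Z (fun _ h => h) e e'⟩
  | inv a _ ha =>
    obtain ⟨e, rfl⟩ := ha
    refine ⟨-e, eq_inv_of_mul_eq_one_right ?_⟩
    rw [← prodL_Z_mul hH hZ Z (fun _ h => h), add_neg_cancel]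
    exact prodL_zero hU Z

/-- A central element that conjugates every `x_r(1)` into `H` is a fixed element of `H`. -/
theorem Z_rat {z : GL D.Idx k} (hz : z ∈ ZS D k Z) (hc : Cz H z) :
    z ∈ H ∧ mapE D φ z = z := by
  obtain ⟨e, rfl⟩ := exists_Z_prod hH hZ hz
  have he := hZ.rat e hc
  refine ⟨prodL_mem_of _ fun r hr => (hH.par r (hZ.pos r hr).1 _).2 (he r hr), ?_⟩
  exact prodL_mem_of (K := MonoidHom.eqLocus (mapE D φ) (MonoidHom.id _)) _
    fun r hr => hH.xg_fixed (hZ.pos r hr).1 (he r hr)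

omit hZ in
lemma Cz_of_mem {z : GL D.Idx k} (h : z ∈ H) : Cz H z := fun r hr =>
  mul_mem (mul_mem h (hH.toHyp.one r hr)) (inv_mem h)

omit hZ in
/-- The coordinates in a layer of a fixed element are fixed. -/
lemma vec_fixed {m : ℤ} (hm : 1 ≤ m) {c : GL D.Idx k} {e : ℕ → k} (he : Vec m c e)
    (hc : mapE D φ c = c) (w : ℕ) : e w ∈ L := by
  have hU := hH.toHyp.ug
  have hC := hH.toHyp.comm
  have key : ∀ {S : Set ℕ} {y}, y ∈ XS D k S → mapE D φ y ∈ XS D k S := by
    intro S y hy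
    induction hy using Subgroup.closure_induction with
    | mem y hy => obtain ⟨r, t, hr, hS, rfl⟩ := hy; rw [mapE_xg φ hC hr]; exact xg_mem_XS hr hS _
    | one => rw [map_one]; exact one_mem _
    | mul a b _ _ ha hb => rw [map_mul]; exact mul_mem ha hb
    | inv a _ ha => rw [map_inv]; exact inv_mem ha
  have h' : Vec m (mapE D φ c) fun r => φ (e r) := by
    refine ⟨fun r hr => he.1 r fun h => hr (by simp [h]), ?_⟩
    have := key he.2
    rwa [map_mul, map_inv, mapE_prodL φ hC _ fun r hr => (posL_pos hU r hr).1] at this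
  rw [hc] at h'
  exact (hH.fix _).1 (congrFun (h'.unique hU hm he) w)

/-- Elements of `U ∩ H` times central elements. -/
theorem strip (n : ℕ) : ∀ m : ℤ, 1 ≤ m → maxHt D < m + n → ∀ u ∈ XS D k (htGe D m),
    (∃ h ∈ H, ∃ z ∈ ZS D k Z, u = h * z) →
    ∃ h ∈ H, mapE D φ h = h ∧ ∃ z ∈ ZS D k Z, u = h * z := by
  have hU := hH.toHyp.ug
  have hG := hH.toHyp.good
  have hC := hH.toHyp.comm
  induction n with
  | zero =>
    intro m hm hmax u hu _
    rw [hU.htGe_eq_bot (by omega), Subgroup.mem_bot] at hu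
    exact ⟨1, one_mem _, map_one _, 1, one_mem _, by simp [hu]⟩
  | succ n ih =>
    intro m hm hmax u hu ⟨h, hh, z, hz, hhz⟩
    obtain ⟨d, hd⟩ := exists_vec hU hm hu
    classical
    have hrat : ∀ r, r ∉ Z → d r ∈ L := by
      intro r hrZ
      by_cases h0 : d r = 0
      · rw [h0]; exact zero_mem _
      obtain ⟨hr, hrm⟩ := hd.1 r h0
      obtain ⟨s, w, γ, rest, hs, hs1, hsr, hL, hrest, hγ⟩ := hZ.wit r hr (by omega) hrZ
      obtain ⟨d', e, hd', he, hew⟩ := lead_comm hU hr hs (by omega) hs1 hsr hL hrest (hrm ▸ hu)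
      rw [hrm] at hd' he
      rw [hd'.unique hU hm hd] at hew
      set c := u * xg D k s 1 * u⁻¹ * (xg D k s 1)⁻¹
      have hcH : c ∈ H := by
        have e1 : Commute z (xg D k s 1) := hZ.comm_U hz (xg_mem_XS hs hs1 1)
        have e2 : c = h * xg D k s 1 * h⁻¹ * (xg D k s 1)⁻¹ := by
          show u * xg D k s 1 * u⁻¹ * (xg D k s 1)⁻¹ = _
          rw [hhz, _root_.mul_inv_rev, mul_assoc h, e1.eq]; group
        rw [e2]
        exact mul_mem (mul_mem (mul_mem hh (hH.toHyp.one s hs)) (inv_mem hh)) (inv_mem (hH.toHyp.one s hs))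
      have hcU : c ∈ XS D k (htGe D (m + 1)) :=
        XS_mono (fun q (hq : m + ht D s ≤ ht D q) => show m + 1 ≤ ht D q by omega) (he.mem hU)
      obtain ⟨h', hh', hf, z', hz', e'⟩ := ih (m + 1) (by omega) (by push_cast at hmax ⊢; omega) c hcU
        ⟨c, hcH, 1, one_mem _, (mul_one _).symm⟩
      have hz'H : z' ∈ H := by
        have := mul_mem (inv_mem hh') hcH
        rwa [e', inv_mul_cancel_left] at this
      have hcf : mapE D φ c = c := by
        rw [e', map_mul, hf, (Z_rat hH hZ hz' (Cz_of_mem hH hz'H)).2]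
      have := vec_fixed hH (by omega) he hcf w
      rw [hew] at this
      have hγL : ((γ : ℤ) : k) ∈ L := intCast_mem L γ
      have := mul_mem (inv_mem hγL) this
      rwa [inv_mul_cancel_left₀ hγ] at this
    let dA : ℕ → k := fun r => if r ∈ Z then 0 else d r
    let dZ : ℕ → k := fun r => if r ∈ Z then d r else 0
    set P := posL (D := D)
    have hdA : SuppHt D k m dA := fun r hr => hd.1 r fun e => hr (by simp [dA, e])
    have hdZ : SuppHt D k m dZ := fun r hr => hd.1 r fun e => hr (by simp [dZ, e])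
    have hy : prodL D k P dA ∈ H := prodL_mem_of _ fun r hr => by
      refine (hH.par r (posL_pos hU r hr).1 _).2 ?_
      by_cases hrZ : r ∈ Z
      · simp [dA, hrZ, zero_mem]
      · simp [dA, hrZ, hrat r hrZ]
    have hyf : mapE D φ (prodL D k P dA) = prodL D k P dA :=
      prodL_mem_of (K := MonoidHom.eqLocus (mapE D φ) (MonoidHom.id _)) _ fun r hr => by
        refine hH.xg_fixed (posL_pos hU r hr).1 ?_
        by_cases hrZ : r ∈ Z
        · simp [dA, hrZ, zero_mem]
        · simp [dA, hrZ, hrat r hrZ]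
    have hz1 : prodL D k P dZ ∈ ZS D k Z := prodL_mem_of _ fun r hr => by
      by_cases hrZ : r ∈ Z
      · exact xg_mem_XS (posL_pos hU r hr).1 hrZ _
      · simp [dZ, hrZ, hG.xg_zero]
    have hsum : dA + dZ = d := funext fun r => by by_cases hrZ : r ∈ Z <;> simp [dA, dZ, hrZ]
    have h1 := hU.prodL_add hm (posL_pos hU) dA hdZ (F := k)
    rw [hsum] at h1
    set y := prodL D k P dA
    set z1 := prodL D k P dZ
    set u' := y⁻¹ * u * z1⁻¹
    have hu' : u' ∈ XS D k (htGe D (m + 1)) := by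
      have hq := inv_mem (mul_mem (inv_mem hd.2) h1)
      have e : ((((prodL D k P d)⁻¹ * u)⁻¹) * ((prodL D k P d)⁻¹ * (y * z1)))⁻¹ = z1⁻¹ * (y⁻¹ * u) := by
        group
      rw [e] at hq
      rwa [(hZ.comm_U (inv_mem hz1) (mul_mem (inv_mem (prodL_mem_of _ fun r hr =>
        xg_mem_XS (posL_pos hU r hr).1 (posL_pos hU r hr).2 _))
        (XS_mono (fun r (hr : m ≤ ht D r) => show 1 ≤ ht D r by omega) hu))).eq] at hq
    obtain ⟨h'', hh'', hf'', z'', hz'', e''⟩ := ih (m + 1) (by omega) (by push_cast at hmax ⊢; omega) u' hu'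
      ⟨y⁻¹ * h, mul_mem (inv_mem hy) hh, z * z1⁻¹, mul_mem hz (inv_mem hz1), by
        show y⁻¹ * u * z1⁻¹ = _; rw [hhz]; group⟩
    refine ⟨y * h'', mul_mem hy hh'', by rw [map_mul, hyf, hf''], z'' * z1, mul_mem hz'' hz1, ?_⟩
    calc u = y * u' * z1 := by show u = y * (y⁻¹ * u * z1⁻¹) * z1; group
      _ = _ := by rw [e'']; group

/-- `H ∩ U` consists of fixed elements. -/
theorem U_fixed {u : GL D.Idx k} (hu : u ∈ XS D k (htGe D 1)) (huH : u ∈ H) : mapE D φ u = u := by
  obtain ⟨h, hh, hf, z, hz, rfl⟩ := strip hH hZ (maxHt D).toNat 1 le_rfl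
    (by have := Int.self_le_toNat (maxHt D); omega) u hu ⟨u, huH, 1, one_mem _, (mul_one _).symm⟩
  have hzH : z ∈ H := by simpa using mul_mem (inv_mem hh) huH
  rw [map_mul, hf, (Z_rat hH hZ hz (Cz_of_mem hH hzH)).2]

/-- What commutes with every positive `x_s(1)` in `U` is central. -/
theorem centr_U (n : ℕ) : ∀ m : ℤ, 1 ≤ m → maxHt D < m + n → ∀ u ∈ XS D k (htGe D m),
    (∀ s, s < D.nroots → 1 ≤ ht D s → Commute u (xg D k s 1)) → u ∈ ZS D k Z := by
  have hU := hH.toHyp.ug
  have hG := hH.toHyp.good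
  induction n with
  | zero =>
    intro m hm hmax u hu _
    rw [hU.htGe_eq_bot (by omega), Subgroup.mem_bot] at hu
    rw [hu]; exact one_mem _
  | succ n ih =>
    intro m hm hmax u hu hc
    obtain ⟨d, hd⟩ := exists_vec hU hm hu
    have h0 : ∀ r, r ∉ Z → d r = 0 := by
      intro r hrZ
      by_contra h0
      obtain ⟨hr, hrm⟩ := hd.1 r h0
      obtain ⟨s, w, γ, rest, hs, hs1, hsr, hL, hrest, hγ⟩ := hZ.wit r hr (by omega) hrZ
      obtain ⟨d', e, hd', he, hew⟩ := lead_comm hU hr hs (by omega) hs1 hsr hL hrest (hrm ▸ hu)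
      rw [hrm] at hd' he
      rw [hd'.unique hU hm hd] at hew
      rw [(hc s hs hs1).eq, mul_inv_cancel_right, mul_inv_cancel] at he
      rw [congrFun (he.unique hU (by omega) (vec_of_next hU (one_mem _))) w] at hew
      exact h0 ((mul_eq_zero.1 hew.symm).resolve_left hγ)
    have hz1 : prodL D k (posL (D := D)) d ∈ ZS D k Z := prodL_mem_of _ fun r hr => by
      by_cases hrZ : r ∈ Z
      · exact xg_mem_XS (posL_pos hU r hr).1 hrZ _
      · rw [h0 r hrZ, hG.xg_zero]; exact one_mem _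
    have := ih (m + 1) (by omega) (by push_cast at hmax ⊢; omega) _ hd.2 fun s hs hs1 =>
      (hZ.comm_U (inv_mem hz1) (xg_mem_XS hs hs1 1)).mul_left (hc s hs hs1)
    simpa using mul_mem hz1 this

/-- `H ∩ B` consists of fixed elements. -/
theorem B_fixed {b : GL D.Idx k} (hb : b ∈ D.borelSubgroup k) (hbH : b ∈ H) : mapE D φ b = b := by
  classical
  have hU := hH.toHyp.ug
  have hC := hH.toHyp.comm
  have hG := hH.toHyp.good
  obtain ⟨u, hu, h, hh, rfl⟩ := hG.mem_borel hb
  rw [hG.posUnipotent_eq] at hu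
  rw [hG.diagonalSubgroup_eq_range] at hh
  obtain ⟨c, rfl⟩ := hh
  let χ : ℕ → kˣ := fun r => ∏ i : Fin D.rank, c i ^ D.cartan i.val r
  have hconj : ∀ s, s < D.nroots → ∀ t : k,
      tau D k c * xg D k s t * (tau D k c)⁻¹ = xg D k s ((χ s : k) * t) := fun s hs t =>
    hG.tau_conj_x c hs t
  have hsimp : ∀ i < D.rank, (χ (D.simple i) : k) ∈ L := by
    intro i hi
    have hp := hG.simple_lt hi
    have hp1 : 1 ≤ ht D (D.simple i) := by rw [hG.ht_simple hi]
    have hv : Vec (ht D (D.simple i)) (u * tau D k c * xg D k (D.simple i) 1 * (u * tau D k c)⁻¹)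
        (Pi.single (D.simple i) ((χ (D.simple i) : k))) := by
      have h2 := (vec_xg hU hp hp1 (χ (D.simple i) : k)).conj hU hp1 hu
      rw [show u * tau D k c * xg D k (D.simple i) 1 * (u * tau D k c)⁻¹ =
        u * (tau D k c * xg D k (D.simple i) 1 * (tau D k c)⁻¹) * u⁻¹ by group, hconj _ hp, mul_one]
      exact h2
    have hxU := XS_mono (fun q (hq : ht D (D.simple i) ≤ ht D q) => show 1 ≤ ht D q by omega) (hv.mem hU)
    have := vec_fixed hH hp1 hv (U_fixed hH hZ hxU
      (mul_mem (mul_mem hbH (hH.toHyp.one _ hp)) (inv_mem hbH))) (D.simple i)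
    rwa [Pi.single_eq_same] at this
  have hχ : ∀ s, s < D.nroots → (χ s : k) ∈ L := by
    intro s hs
    have e : χ s = ∏ l ∈ Finset.range D.rank, χ (D.simple l) ^ coef D s l := by
      simp only [χ, ← Finset.prod_zpow, ← zpow_mul]
      rw [Finset.prod_comm]
      refine Finset.prod_congr rfl fun i _ => ?_
      rw [hG.cartan_eq hs i.isLt, ChevCore.zpow_sum']
      exact Finset.prod_congr rfl fun l _ => by rw [mul_comm]
    rw [e, Units.coe_prod]
    refine prod_mem fun l hl => ?_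
    rw [Units.val_zpow_eq_zpow_val]
    exact zpow_mem (hsimp l (Finset.mem_range.1 hl)) _
  have htau : mapE D φ (tau D k c) = tau D k c := by
    refine Units.ext ?_
    show (tau D k c : Matrix D.Idx D.Idx k).map φ = _
    rw [val_tau, Matrix.diagonal_map (map_zero φ)]
    congr 1
    funext a
    rcases a with i | s
    · exact map_one φ
    · exact (hH.fix _).2 (hχ s.val s.isLt)
  have hφu : mapE D φ u ∈ XS D k (htGe D 1) := by
    clear hb hbH
    induction hu using Subgroup.closure_induction with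
    | mem y hy => obtain ⟨r, t, hr, hS, rfl⟩ := hy; rw [mapE_xg φ hC hr]; exact xg_mem_XS hr hS _
    | one => rw [map_one]; exact one_mem _
    | mul a b _ _ ha hb => rw [map_mul]; exact mul_mem ha hb
    | inv a _ ha => rw [map_inv]; exact inv_mem ha
  set τ := tau D k c with hτ
  have hτH : τ ∈ D.diagonalSubgroup k := by
    rw [hG.diagonalSubgroup_eq_range]; exact ⟨c, rfl⟩
  have hn : ∀ S, ∀ y ∈ XS D k S, τ * y * τ⁻¹ ∈ XS D k S := fun S y hy =>
    (Subgroup.mem_normalizer_iff.1 (hG.H_le_normalizer_XS S hτH) y).1 hy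
  have hn' : ∀ S, ∀ y ∈ XS D k S, τ⁻¹ * y * τ ∈ XS D k S := fun S y hy => by
    have := (Subgroup.mem_normalizer_iff.1 (hG.H_le_normalizer_XS S (inv_mem hτH)) y).1 hy
    rwa [inv_inv] at this
  set d := τ⁻¹ * (u⁻¹ * mapE D φ u) * τ with hd
  have hdZ : d ∈ ZS D k Z := by
    refine centr_U hH hZ (maxHt D).toNat 1 le_rfl (by have := Int.self_le_toNat (maxHt D); omega) d
      (hn' _ _ (mul_mem (inv_mem hu) hφu)) fun s hs hs1 => ?_
    have hxm : u * τ * xg D k s 1 * (u * τ)⁻¹ ∈ XS D k (htGe D 1) := by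
      rw [show u * τ * xg D k s 1 * (u * τ)⁻¹ = u * (τ * xg D k s 1 * τ⁻¹) * u⁻¹ by group]
      exact mul_mem (mul_mem hu (hn _ _ (xg_mem_XS hs hs1 1))) (inv_mem hu)
    have hf := U_fixed hH hZ hxm (mul_mem (mul_mem hbH (hH.toHyp.one s hs)) (inv_mem hbH))
    rw [map_mul, map_mul, map_mul, map_inv, map_mul, htau, hH.xg_fixed hs (one_mem L)] at hf
    show d * xg D k s 1 = xg D k s 1 * d
    have e : d = (u * τ)⁻¹ * (mapE D φ u * τ) := by rw [hd]; group
    rw [e]
    calc (u * τ)⁻¹ * (mapE D φ u * τ) * xg D k s 1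
        = (u * τ)⁻¹ * (mapE D φ u * τ * xg D k s 1 * (mapE D φ u * τ)⁻¹) * (mapE D φ u * τ) := by group
      _ = (u * τ)⁻¹ * (u * τ * xg D k s 1 * (u * τ)⁻¹) * (mapE D φ u * τ) := by rw [hf]
      _ = _ := by group
  have hd0 : u⁻¹ * mapE D φ u ∈ ZS D k Z := by
    have := hn _ _ hdZ
    rwa [hd, show τ * (τ⁻¹ * (u⁻¹ * mapE D φ u) * τ) * τ⁻¹ = u⁻¹ * mapE D φ u by group] at this
  obtain ⟨e0, he0⟩ := exists_Z_prod hH hZ hd0
  set A := (posL (D := D)).filter fun r => decide (r ∉ Z)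
  have hnd : (A ++ Z).Nodup := List.nodup_append.2 ⟨posL_nodup.filter _, hZ.nodup, fun a ha b hb e => by
    subst e
    exact (by simpa using (List.mem_filter.1 ha).2 : a ∉ Z) hb⟩
  have hmem : ∀ r, r ∈ A ++ Z ↔ r < D.nroots ∧ 1 ≤ ht D r := fun r => by
    rw [List.mem_append, List.mem_filter, mem_posL' hU, decide_eq_true_eq]
    exact ⟨fun h => h.elim (fun h => h.1) (hZ.pos r), fun h => (em (r ∈ Z)).elim Or.inr fun h' => Or.inl ⟨h, h'⟩⟩
  obtain ⟨t, ht0, etu⟩ := hU.exists_prod hnd hmem hu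
  have app : ∀ f : ℕ → k, prodL D k (A ++ Z) f = prodL D k A f * prodL D k Z f := fun f => by
    simp [prodL, List.map_append, List.prod_append]
  have hA : ∀ r ∈ A, r ∉ Z := fun r hr => by simpa using (List.mem_filter.1 hr).2
  let t' : ℕ → k := fun r => if r ∈ Z then t r + e0 r else t r
  have e1 : prodL D k (A ++ Z) t' = mapE D φ u := by
    have eA : prodL D k A t' = prodL D k A t := by
      unfold prodL
      exact congrArg List.prod (List.map_congr_left fun r hr => by simp [t', hA r hr])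
    have eZ : prodL D k Z t' = prodL D k Z t * prodL D k Z e0 := by
      rw [← prodL_Z_mul hH hZ Z (fun _ h => h)]
      unfold prodL
      exact congrArg List.prod (List.map_congr_left fun r hr => by simp [t', hr])
    rw [app, eA, eZ, ← mul_assoc, ← app, etu, he0, mul_inv_cancel_left]
  have e2 : prodL D k (A ++ Z) (fun r => φ (t r)) = mapE D φ u := by
    rw [← etu, mapE_prodL φ hC _ fun r hr => ((hmem r).1 hr).1]
  have hinj := hU.prodL_injective hnd hmem (fun r hr => by simp [ht0 r hr])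
    (fun r hr => by
      have : r ∉ Z := fun h => hr (hZ.pos r h)
      simp [t', this, ht0 r hr]) (e2.trans e1.symm)
  have hAL : ∀ r ∈ A, t r ∈ L := fun r hr => (hH.fix _).1 (by
    have := congrFun hinj r
    simpa [t', hA r hr] using this)
  have haH : prodL D k A t ∈ H := prodL_mem_of _ fun r hr =>
    (hH.par r ((hmem r).1 (List.mem_append_left _ hr)).1 _).2 (hAL r hr)
  have haf : mapE D φ (prodL D k A t) = prodL D k A t :=
    prodL_mem_of (K := MonoidHom.eqLocus (mapE D φ) (MonoidHom.id _)) _ fun r hr =>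
      hH.xg_fixed ((hmem r).1 (List.mem_append_left _ hr)).1 (hAL r hr)
  set z := prodL D k Z t
  have hu' : u = prodL D k A t * z := by rw [← app, etu]
  have hzτ : z * τ ∈ H := by
    have := mul_mem (inv_mem haH) hbH
    rwa [hu', mul_assoc, inv_mul_cancel_left] at this
  have hcz : Cz H z := by
    intro r hr
    have hl : ((χ r : k))⁻¹ ∈ L := inv_mem (hχ r hr)
    have := mul_mem (mul_mem hzτ ((hH.par r hr _).2 hl)) (inv_mem hzτ)
    rwa [show z * τ * xg D k r ((χ r : k))⁻¹ * (z * τ)⁻¹ =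
      z * (τ * xg D k r ((χ r : k))⁻¹ * τ⁻¹) * z⁻¹ by group, hconj r hr,
      mul_inv_cancel₀ (Units.ne_zero _)] at this
  rw [map_mul, hu', map_mul, haf, (Z_rat hH hZ (prodL_Z_mem hH hZ t) hcz).2, htau]

end Cfsg.Agent.Chev54.Sub
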