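import Cfsg.Agent.Chev54.SubUni

/-!
The central roots of `U` in each characteristic, and the rationality of their elements in a finite
subgroup containing the root elements over a subfield.
-/

set_option autoImplicit false
set_option linter.unusedSimpArgs false

namespace Cfsg.Agent.Chev54.Sub

open Cfsg.Lie Cfsg.Agent.ChevCore Cfsg.Agent.Chev54

/-- The term list starts with a unit structure constant and repeats no root. -/
def headUnit : List (ℕ × ℤ × ℕ × ℕ) → Bool
  | (w, γ, 1, 1) :: rest => (γ == 1 || γ == -1) && rest.all fun c => !(c.1 == w)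
  | _ => false

/-- Every positive root outside `exc` has a positive partner with a unit structure constant. -/
def witB (D : ChevalleyDatum) (exc : List ℕ) : Bool :=
  (List.range D.nroots).all fun r => !decide (D.IsPosRoot r) || exc.contains r ||
    (List.range D.nroots).any fun s =>
      decide (D.IsPosRoot s) && !(s == r) && headUnit (D.commTerms r s)

/-- All structure constants of `z` against positive roots vanish modulo `n`. -/
def centB (D : ChevalleyDatum) (n : ℤ) (z : ℕ) : Bool :=
  (List.range D.nroots).all fun s => !decide (D.IsPosRoot s) ||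
    (D.commTerms z s).all fun c => c.2.1 % n == 0

variable {D : ChevalleyDatum} {k : Type*} [Field k]

lemma wit_of_witB (hG : Good D) {exc : List ℕ} (h : witB D exc = true) {r : ℕ} (hr : r < D.nroots)
    (hr1 : 1 ≤ ht D r) (hre : r ∉ exc) : ∃ s w γ rest, s < D.nroots ∧ 1 ≤ ht D s ∧ s ≠ r ∧
    D.commTerms r s = (w, γ, 1, 1) :: rest ∧ (∀ c ∈ rest, c.1 ≠ w) ∧ ((γ : ℤ) : k) ≠ 0 := by
  simp only [witB, List.all_eq_true, List.mem_range, List.any_eq_true, Bool.or_eq_true,
    Bool.and_eq_true, Bool.not_eq_true', decide_eq_false_iff_not, decide_eq_true_eq,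
    List.contains_iff_mem, beq_eq_false_iff_ne] at h
  rcases h r hr with (h | h) | ⟨s, hs, ⟨hsp, hsr⟩, hh⟩
  · exact absurd ((hG.isPosRoot_iff hr).2 (by omega)) h
  · exact absurd h hre
  · revert hh
    cases e : D.commTerms r s with
    | nil => simp [headUnit]
    | cons c rest =>
      obtain ⟨w, γ, i, j⟩ := c
      intro hh
      match i, j with
      | 1, 1 =>
        simp only [headUnit, Bool.and_eq_true, Bool.or_eq_true, beq_iff_eq, List.all_eq_true,
          Bool.not_eq_true', beq_eq_false_iff_ne] at hh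
        refine ⟨s, w, γ, rest, hs, by have := (hG.isPosRoot_iff hs).1 hsp; omega, hsr, e, hh.2, ?_⟩
        rcases hh.1 with rfl | rfl <;> simp
      | 0, _ => simp [headUnit] at hh
      | n + 2, _ => simp [headUnit] at hh
      | 1, 0 => simp [headUnit] at hh
      | 1, n + 2 => simp [headUnit] at hh

lemma comm_of_vanish (hC : CommGood D) {r s : ℕ} (hr : r < D.nroots) (hs : s < D.nroots)
    (h2 : s ≠ D.neg r) (h : ∀ c ∈ D.commTerms r s, ((c.2.1 : ℤ) : k) = 0) (t u : k) :
    Commute (xg D k r t) (xg D k s u) := by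
  by_cases h1 : s = r
  · subst h1
    show _ * _ = _ * _
    rw [← hC.toGood.xg_add, ← hC.toGood.xg_add, add_comm]
  · have e := hC.xg_comm hr hs h1 h2 t u
    rw [ChevalleyDatum.commWord] at e
    have : wordG D k ((D.commTerms r s).map fun c =>
        (c.1, (c.2.1 : k) * (-t) ^ c.2.2.1 * u ^ c.2.2.2)) = 1 := by
      refine List.prod_eq_one fun y hy => ?_
      simp only [List.map_map, List.mem_map, Function.comp_apply] at hy
      obtain ⟨c, hc, rfl⟩ := hy
      rw [h c hc, zero_mul, zero_mul, hC.toGood.xg_zero]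
    rw [this, mul_one] at e
    exact e.symm

lemma cent_of_centB (hC : CommGood D) {z : ℕ} (hz : z < D.nroots) (hz1 : 1 ≤ ht D z) {n : ℤ}
    (hn : ((n : ℤ) : k) = 0) (h : centB D n z = true) {s : ℕ} (hs : s < D.nroots) (hs1 : 1 ≤ ht D s)
    (t u : k) : Commute (xg D k z t) (xg D k s u) := by
  refine comm_of_vanish hC hz hs (fun e => ?_) (fun c hc => ?_) t u
  · have := hC.toGood.ht_neg hz
    rw [← e] at this
    omega
  · simp only [centB, List.all_eq_true, List.mem_range, Bool.or_eq_true, Bool.not_eq_true',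
      decide_eq_false_iff_not, beq_iff_eq] at h
    have := (h s hs).resolve_left fun h' => h' ((hC.toGood.isPosRoot_iff hs).2 (by omega)) 
    obtain ⟨m, hm⟩ := Int.dvd_of_emod_eq_zero (this c hc)
    rw [hm, Int.cast_mul, hn, zero_mul]

lemma isPos_ht (hG : Good D) {r : ℕ} (h : D.IsPosRoot r) : r < D.nroots ∧ 1 ≤ ht D r := by
  have := (hG.isPosRoot_iff h.1).1 h
  exact ⟨h.1, by omega⟩

variable {H : Subgroup (GL D.Idx k)} {L : Subfield k} {φ : k →+* k} (hH : Ctx H L φ)
include hH

/-- The commutator of a root element conjugating `x_r(1)` into `H`. -/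
lemma word_of_Cz {a r : ℕ} (ha : a < D.nroots) (hr : r < D.nroots) (h1 : r ≠ a) (h2 : r ≠ D.neg a)
    {t : k} (hz : xg D k a t * xg D k r 1 * (xg D k a t)⁻¹ ∈ H) {Lw : List (ℕ × ℤ × ℕ × ℕ)} (hL : D.commTerms a r = Lw)
    (hc : ∀ c ∈ Lw, ∀ v : k, Commute (xg D k a t) (xg D k c.1 v)) :
    wordG D k (Lw.map fun c => (c.1, (c.2.1 : k) * (-t) ^ c.2.2.1 * (1 : k) ^ c.2.2.2)) ∈ H := by
  subst hL
  have e := hH.toHyp.comm.xg_comm ha hr h1 h2 t (1 : k)
  rw [ChevalleyDatum.commWord] at e
  set W := wordG D k ((D.commTerms a r).map fun c =>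
    (c.1, (c.2.1 : k) * (-t) ^ c.2.2.1 * (1 : k) ^ c.2.2.2))
  have hW : Commute (xg D k a t) W := Commute.list_prod_right _ _ fun y hy => by
    simp only [List.map_map, List.mem_map, Function.comp_apply] at hy
    obtain ⟨c, hc', rfl⟩ := hy
    exact hc c hc' _
  have h := mul_mem (inv_mem hz) (hH.toHyp.one r hr)
  have e1 : (xg D k a t * xg D k r 1 * (xg D k a t)⁻¹)⁻¹ * xg D k r 1 = W := by
    calc (xg D k a t * xg D k r 1 * (xg D k a t)⁻¹)⁻¹ * xg D k r 1
        = xg D k a t * (xg D k r 1)⁻¹ * (xg D k a t)⁻¹ * (xg D k r 1 * xg D k a t) * (xg D k a t)⁻¹ := by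
          group
      _ = xg D k a t * W * (xg D k a t)⁻¹ := by rw [e]; group
      _ = W := by rw [hW.eq, mul_inv_cancel_right]
  rwa [e1] at h

/-- A single unit term. -/
lemma rat_single {a r w : ℕ} {γ : ℤ} {n : ℕ} {m : ℕ} (hγ : ((γ : ℤ) : k) ≠ 0)
    (ha : a < D.nroots) (hr : r < D.nroots) (h1 : r ≠ a) (h2 : r ≠ D.neg a)
    (hw : w < D.nroots) {t : k} (hz : xg D k a t * xg D k r 1 * (xg D k a t)⁻¹ ∈ H) (hn : n = 1)
    (hL : D.commTerms a r = [(w, γ, n, m)])
    (hc : ∀ v : k, Commute (xg D k a t) (xg D k w v)) : t ∈ L := by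
  subst hn
  have h := word_of_Cz hH ha hr h1 h2 hz hL (by simpa using hc)
  simp only [List.map_cons, List.map_nil, wordG, List.prod_cons, List.prod_nil, mul_one, pow_one,
    one_pow] at h
  have := mul_mem (inv_mem (intCast_mem L γ)) ((hH.par w hw _).1 h)
  rw [inv_mul_cancel_left₀ hγ] at this
  exact neg_mem_iff.1 this

/-- `Cz` is unchanged by an element of `H`. -/
lemma Cz_mul {y z : GL D.Idx k} (hy : y ∈ H) (hz : Cz H z) : Cz H (y * z) := fun r hr =>
  (show y * (z * xg D k r 1 * z⁻¹) * y⁻¹ = y * z * xg D k r 1 * (y * z)⁻¹ by group) ▸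
    mul_mem (mul_mem hy (hz r hr)) (inv_mem hy)

/-- The highest root alone. -/
lemma zgood_top {top r w : ℕ} {γ : ℤ} {n m : ℕ} (hγ : ((γ : ℤ) : k) ≠ 0) (hn : n = 1)
    (htop : D.IsPosRoot top) (hr : r < D.nroots) (h1 : r ≠ top) (h2 : r ≠ D.neg top)
    (hw : D.IsPosRoot w) (hL : D.commTerms top r = [(w, γ, n, m)])
    (hwit : ∀ s, s < D.nroots → 1 ≤ ht D s → s ≠ top → ∃ s' w' γ' rest, s' < D.nroots ∧ 1 ≤ ht D s' ∧
      s' ≠ s ∧ D.commTerms s s' = (w', γ', 1, 1) :: rest ∧ (∀ c ∈ rest, c.1 ≠ w') ∧ ((γ' : ℤ) : k) ≠ 0)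
    (hcent : centB D 0 top = true) : ZGood H L [top] := by
  have hG := hH.toHyp.good
  have ht' := isPos_ht hG htop
  refine ⟨by simpa using ht', by simp, fun s hs hs1 hne => hwit s hs hs1 (by simpa using hne),
    ?_, fun e he => ?_⟩
  · intro z hz s hs hs1 t u
    rw [List.mem_singleton] at hz; subst hz
    exact cent_of_centB hH.toHyp.comm ht'.1 ht'.2 (by simp) hcent hs hs1 t u
  · simp only [prodL, List.map_cons, List.map_nil, List.prod_cons, List.prod_nil, mul_one] at he
    simp only [List.mem_singleton, forall_eq]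
    refine rat_single hH hγ ht'.1 hr h1 h2 hw.1 (he r hr) hn hL fun v => ?_
    exact cent_of_centB hH.toHyp.comm ht'.1 ht'.2 (by simp) hcent hw.1 (isPos_ht hG hw).2 _ v

omit hH

/-- A natural prime other than the characteristic is not zero. -/
lemma cast_ne (p : ℕ) [Fact p.Prime] [CharP k p] {n : ℕ} (hn : n.Prime) (h : p ≠ n) : (n : k) ≠ 0 :=
  fun e => h ((Nat.prime_dvd_prime_iff_eq Fact.out hn).1 ((CharP.cast_eq_zero_iff k p n).1 e))

/-- A commutator list modulo two. -/
def red2 (L : List (ℕ × ℤ × ℕ × ℕ)) : List (ℕ × ℕ × ℕ) :=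
  (L.filter fun c => c.2.1 % 2 == 1).map fun c => (c.1, c.2.2)

lemma word2 [CharP k 2] (hG : Good D) (t u : k) (L : List (ℕ × ℤ × ℕ × ℕ)) :
    wordG D k (L.map fun c => (c.1, (c.2.1 : k) * (-t) ^ c.2.2.1 * u ^ c.2.2.2)) =
      wordG D k ((red2 L).map fun c => (c.1, t ^ c.2.1 * u ^ c.2.2)) := by
  induction L with
  | nil => rfl
  | cons c L ih =>
    simp only [red2, wordG] at ih ⊢
    rw [List.map_cons, List.map_cons, List.prod_cons, ih]
    by_cases h : c.2.1 % 2 = 1
    · rw [List.filter_cons_of_pos (by simp [h]), List.map_cons, List.map_cons, List.map_cons,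
        List.prod_cons]
      have e : ((c.2.1 : ℤ) : k) = 1 := by
        obtain ⟨m, hm⟩ : Odd c.2.1 := Int.odd_iff.2 h
        rw [hm]; push_cast; rw [CharTwo.two_eq_zero, zero_mul, zero_add]
      rw [e, one_mul, CharTwo.neg_eq]
    · rw [List.filter_cons_of_neg (by simp [h])]
      have e : ((c.2.1 : ℤ) : k) = 0 := by
        obtain ⟨m, hm⟩ := Int.dvd_of_emod_eq_zero (by omega : c.2.1 % 2 = 0)
        rw [hm]; push_cast; rw [CharTwo.two_eq_zero, zero_mul]
      simp [e, hG.xg_zero]

/-- The data of a subsystem `B2` used for the two central roots in characteristic two. -/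
def bsubB (D : ChevalleyDatum) (a b c d na nb : ℕ) (w : List ℕ) : Bool :=
  [a, b, c, d].all (fun r => decide (D.IsPosRoot r)) && [na, nb].all (fun r => r < D.nroots) &&
  [(na, d), (nb, c), (na, c), (nb, d), (a, b)].all
    (fun x => !(x.1 == x.2) && !(x.1 == D.neg x.2)) &&
  red2 (D.commTerms d na) == [(c, 1, 1), (b, 1, 2)] &&
  (D.commTerms d na).all (fun x => x.1 == c || x.1 == b) &&
  red2 (D.commTerms c nb) == [(a, 1, 1), (d, 2, 1)] &&
  (D.commTerms c nb).all (fun x => x.1 == a || x.1 == d) &&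
  red2 (D.commTerms b a) == [(c, 1, 1), (d, 1, 2)] &&
  (red2 (D.commTerms c na)).isEmpty && (red2 (D.commTerms d nb)).isEmpty &&
  w.all (fun i => i < D.rank) && actW D w c == c && actW D w b == d &&
  centB D 2 c && centB D 2 d

include hH in
/-- The two central roots in characteristic two. -/
theorem zgood_bsub [CharP k 2] {a b c d na nb : ℕ} {w : List ℕ}
    (hb : bsubB D a b c d na nb w = true) (hcd : d ≠ c)
    (hwit : ∀ s, s < D.nroots → 1 ≤ ht D s → s ∉ [d, c] → ∃ s' w' γ' rest, s' < D.nroots ∧ 1 ≤ ht D s' ∧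
      s' ≠ s ∧ D.commTerms s s' = (w', γ', 1, 1) :: rest ∧ (∀ c ∈ rest, c.1 ≠ w') ∧ ((γ' : ℤ) : k) ≠ 0) :
    ZGood H L [d, c] := by
  have hG := hH.toHyp.good
  have hC := hH.toHyp.comm
  simp only [bsubB, Bool.and_eq_true, beq_iff_eq, List.all_eq_true, decide_eq_true_eq,
    List.isEmpty_iff, Bool.or_eq_true, Bool.not_eq_true', beq_eq_false_iff_ne] at hb
  obtain ⟨⟨⟨⟨⟨⟨⟨⟨⟨⟨⟨⟨⟨⟨hpos, hlt⟩, hne⟩, hdna⟩, hdna'⟩, hcnb⟩, hcnb'⟩, hba⟩, hcna⟩, hdnb⟩, hw⟩, hwc⟩,
    hwb⟩, hcc⟩, hcd'⟩ := hb
  obtain ⟨la, ha1⟩ := isPos_ht hG (hpos a (by simp))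
  obtain ⟨lb, hb1⟩ := isPos_ht hG (hpos b (by simp))
  obtain ⟨lc, hc1⟩ := isPos_ht hG (hpos c (by simp))
  obtain ⟨ld, hd1⟩ := isPos_ht hG (hpos d (by simp))
  have lna := hlt na (by simp)
  have lnb := hlt nb (by simp)
  have h2 : ((2 : ℤ) : k) = 0 := by push_cast; exact CharTwo.two_eq_zero
  have cc : ∀ s, s < D.nroots → 1 ≤ ht D s → ∀ t u : k, Commute (xg D k c t) (xg D k s u) :=
    fun s hs hs1 => cent_of_centB hC lc hc1 h2 hcc hs hs1
  have cd : ∀ s, s < D.nroots → 1 ≤ ht D s → ∀ t u : k, Commute (xg D k d t) (xg D k s u) :=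
    fun s hs hs1 => cent_of_centB hC ld hd1 h2 hcd' hs hs1
  have hvan : ∀ {L' : List (ℕ × ℤ × ℕ × ℕ)}, red2 L' = [] → ∀ x ∈ L', ((x.2.1 : ℤ) : k) = 0 := by
    intro L' e x hx
    simp only [red2, List.map_eq_nil_iff, List.filter_eq_nil_iff, beq_iff_eq] at e
    obtain ⟨m, hm⟩ := Int.dvd_of_emod_eq_zero (by have := e x hx; omega : x.2.1 % 2 = 0)
    rw [hm, Int.cast_mul, h2, zero_mul]
  have c_na : ∀ t u : k, Commute (xg D k c t) (xg D k na u) :=
    comm_of_vanish hC lc lna (hne (na, c) (by simp)).2 (hvan hcna)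
  have d_nb : ∀ t u : k, Commute (xg D k d t) (xg D k nb u) :=
    comm_of_vanish hC ld lnb (hne (nb, d) (by simp)).2 (hvan hdnb)
  let V : k → k → Prop := fun X Y => xg D k c X * xg D k d Y ∈ H
  have f1 : ∀ {X Y : k}, Cz H (xg D k c X * xg D k d Y) →
      xg D k c Y * xg D k b Y ∈ H := by
    intro X Y hz
    have h := hz na lna
    have e : xg D k c X * xg D k d Y * xg D k na 1 * (xg D k c X * xg D k d Y)⁻¹ =
        xg D k d Y * xg D k na 1 * (xg D k d Y)⁻¹ := by
      rw [(cc d ld hd1 X Y).eq]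
      calc _ = xg D k d Y * (xg D k c X * xg D k na 1 * (xg D k c X)⁻¹) * (xg D k d Y)⁻¹ := by group
        _ = _ := by rw [(c_na X 1).eq, mul_inv_cancel_right]
    rw [e] at h
    have h' := word_of_Cz hH ld lna (hne (na, d) (by simp)).1 (hne (na, d) (by simp)).2 h rfl
      (fun x hx v => by
        rcases hdna' x hx with e | e <;> rw [e]
        · exact cd c lc hc1 Y v
        · exact cd b lb hb1 Y v)
    rw [word2 hG, hdna] at h'
    simpa [wordG] using h'
  have f2 : ∀ {X Y : k}, Cz H (xg D k c X * xg D k d Y) →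
      xg D k a X * xg D k d (X ^ 2) ∈ H := by
    intro X Y hz
    have h := hz nb lnb
    have e : xg D k c X * xg D k d Y * xg D k nb 1 * (xg D k c X * xg D k d Y)⁻¹ =
        xg D k c X * xg D k nb 1 * (xg D k c X)⁻¹ := by
      calc _ = xg D k c X * (xg D k d Y * xg D k nb 1 * (xg D k d Y)⁻¹) * (xg D k c X)⁻¹ := by group
        _ = _ := by rw [(d_nb Y 1).eq, mul_inv_cancel_right]
    rw [e] at h
    have h' := word_of_Cz hH lc lnb (hne (nb, c) (by simp)).1 (hne (nb, c) (by simp)).2 h rfl
      (fun x hx v => by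
        rcases hcnb' x hx with e | e <;> rw [e]
        · exact cc a la ha1 X v
        · exact cc d ld hd1 X v)
    rw [word2 hG, hcnb] at h'
    simpa [wordG] using h'
  have f3 : ∀ {X Y : k}, Cz H (xg D k c X * xg D k d Y) → V Y Y := by
    intro X Y hz
    have hn := hH.toHyp.nw_mem (w := w) hw
    have h := mul_mem (mul_mem hn (f1 hz)) (inv_mem hn)
    have one : ∀ r, ((etaWord D w r : ℤ) : k) = 1 := fun r => by
      rcases mul_self_eq_one_iff.1 (show ((etaWord D w r : ℤ) : k) * (etaWord D w r : k) = 1 by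
        rw [← Int.cast_mul, Good.etaWord_sq, Int.cast_one]) with e | e
      · exact e
      · rw [e, CharTwo.neg_eq]
    rw [show nw D k w * (xg D k c Y * xg D k b Y) * (nw D k w)⁻¹ =
        nw D k w * xg D k c Y * (nw D k w)⁻¹ * (nw D k w * xg D k b Y * (nw D k w)⁻¹) by group,
      hG.nw_conj_x hw lc Y, hG.nw_conj_x hw lb Y, hwc, hwb, one, one, one_mul] at h
    exact h
  have f5 : ∀ {S S' X : k}, xg D k b S * xg D k c S' ∈ H → xg D k a X * xg D k d (X ^ 2) ∈ H →
      V (S * X) (S * X ^ 2) := by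
    intro S S' X hP hQ
    have e := hC.xg_comm lb la (hne (a, b) (by simp)).1 (hne (a, b) (by simp)).2 S X
    rw [ChevalleyDatum.commWord, word2 hG, hba] at e
    have e' : xg D k a X * xg D k b S =
        xg D k b S * xg D k a X * (xg D k c (S * X) * xg D k d (S * X ^ 2)) := by
      simpa [wordG] using e
    set W := xg D k c (S * X) * xg D k d (S * X ^ 2) with hWdef
    set pc := xg D k c S'
    set pd := xg D k d (X ^ 2)
    have h := mul_mem (inv_mem (mul_mem hP hQ)) (mul_mem hQ hP)
    have eQP : xg D k a X * pd * (xg D k b S * pc) = xg D k b S * xg D k a X * (W * (pc * pd)) := by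
      calc _ = xg D k a X * (pd * (xg D k b S * pc)) := by group
        _ = xg D k a X * ((xg D k b S * pc) * pd) := by
          rw [((cd b lb hb1 _ _).mul_right (cd c lc hc1 _ _)).eq]
        _ = xg D k a X * xg D k b S * (pc * pd) := by group
        _ = _ := by rw [e']; group
    have ePQ : xg D k b S * pc * (xg D k a X * pd) = xg D k b S * xg D k a X * (pc * pd) := by
      calc _ = xg D k b S * (pc * xg D k a X) * pd := by group
        _ = _ := by
          rw [show pc * xg D k a X = xg D k a X * pc from (cc a la ha1 _ _).eq]; group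
    have hc' : Commute W (pc * pd) :=
      Commute.mul_right (Commute.mul_left (cc c lc hc1 _ _) (cd c lc hc1 _ _))
        (Commute.mul_left (cc d ld hd1 _ _) (cd d ld hd1 _ _))
    rw [eQP, ePQ, hc'.eq] at h
    simpa [mul_assoc, _root_.mul_inv_rev] using h
  have Vmul : ∀ {X Y X' Y' : k}, V X Y → V X' Y' → V (X + X') (Y + Y') := by
    intro X Y X' Y' h h'
    show _ * _ ∈ H
    rw [hG.xg_add, hG.xg_add]
    have := mul_mem h h'
    rwa [show xg D k c X * xg D k d Y * (xg D k c X' * xg D k d Y') =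
      xg D k c X * (xg D k d Y * xg D k c X') * xg D k d Y' by group, (cd c lc hc1 Y X').eq,
      show xg D k c X * (xg D k c X' * xg D k d Y) * xg D k d Y' =
        xg D k c X * xg D k c X' * (xg D k d Y * xg D k d Y') by group] at this
  have VL1 : ∀ {l}, V l 0 → l ∈ L := fun {l} h => (hH.par c lc l).1 (by
    have h' : xg D k c l * xg D k d 0 ∈ H := h
    rwa [hG.xg_zero, mul_one] at h')
  have VL2 : ∀ {l}, V 0 l → l ∈ L := fun {l} h => (hH.par d ld l).1 (by
    have h' : xg D k c 0 * xg D k d l ∈ H := h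
    rwa [hG.xg_zero, one_mul] at h')
  have VL3 : ∀ {l}, l ∈ L → V 0 l := fun {l} h => by
    show _ * _ ∈ H; rw [hG.xg_zero, one_mul]; exact (hH.par d ld l).2 h
  have h20 : (2 : k) = 0 := CharTwo.two_eq_zero
  have f4 : ∀ {X Y : k}, Cz H (xg D k c X * xg D k d Y) → V X (X ^ 2) := by
    intro X Y hz
    have hP : xg D k b 1 * xg D k c (0 : k) ∈ H := by
      rw [hG.xg_zero, mul_one]; exact hH.toHyp.one b lb
    simpa using f5 hP (f2 hz)
  have key : ∀ s, V s s → s ∈ L := by
    intro s hs
    have hz := Cz_of_mem hH hs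
    have hc0 : s + s ^ 2 ∈ L := by
      refine VL2 ?_
      have := Vmul hs (f4 hz)
      rwa [show s + s = 0 from CharTwo.add_self_eq_zero s] at this
    have hP : xg D k b s * xg D k c s ∈ H := by
      rw [← (cc b lb hb1 s s).eq]; exact f1 hz
    have h23 : V (s * s) (s * s ^ 2) := f5 hP (f2 hz)
    have h' : s * (s + s ^ 2) ∈ L := by
      refine VL1 ?_
      have := Vmul h23 (f3 (Cz_of_mem hH h23))
      rwa [show s * s ^ 2 + s * s ^ 2 = 0 from CharTwo.add_self_eq_zero _,
        show s * s + s * s ^ 2 = s * (s + s ^ 2) by ring] at this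
    rcases eq_or_ne (s + s ^ 2) 0 with h0 | h0
    · rcases mul_eq_zero.1 (show s * (1 + s) = 0 by rw [← h0]; ring) with e | e
      · rw [e]; exact zero_mem L
      · rw [CharTwo.add_eq_zero.1 e |>.symm]; exact one_mem L
    · have := mul_mem h' (inv_mem hc0)
      rwa [mul_assoc, mul_inv_cancel₀ h0, mul_one] at this
  refine ⟨?_, by simp [hcd], hwit, ?_, fun e he => ?_⟩
  · intro r hr
    simp only [List.mem_cons, List.not_mem_nil, or_false] at hr
    rcases hr with rfl | rfl
    exacts [⟨ld, hd1⟩, ⟨lc, hc1⟩]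
  · intro z hz s hs hs1 t u
    simp only [List.mem_cons, List.not_mem_nil, or_false] at hz
    rcases hz with rfl | rfl
    exacts [cd s hs hs1 t u, cc s hs hs1 t u]
  · simp only [prodL, List.map_cons, List.map_nil, List.prod_cons, List.prod_nil, mul_one] at he
    rw [(cd c lc hc1 _ _).eq] at he
    have hee : V (e c) (e c) := by
      have h1 := f4 he
      have h2' := f3 (Cz_of_mem hH h1)
      have hl : e c + (e c) ^ 2 ∈ L := VL1 (by
        have := Vmul h1 h2'
        rwa [show e c ^ 2 + e c ^ 2 = 0 from CharTwo.add_self_eq_zero _] at this)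
      have := Vmul h1 (VL3 hl)
      rwa [add_zero, show e c ^ 2 + (e c + e c ^ 2) = e c by
        linear_combination (e c) ^ 2 * h20] at this
    intro r hr
    simp only [List.mem_cons, List.not_mem_nil, or_false] at hr
    rcases hr with rfl | rfl
    exacts [key _ (f3 he), key _ hee]

/-- The case `G2` in characteristic three. -/
lemma zgood_G2_three {H : Subgroup (GL chevG2.Idx k)} (hH : Ctx H L φ) [CharP k 3] :
    ZGood H L [11, 9] := by
  haveI : Fact (Nat.Prime 3) := ⟨by norm_num⟩
  have hC := hH.toHyp.comm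
  have hG := hH.toHyp.good
  have lt : ∀ r, r < 12 → r < chevG2.nroots := fun r hr => hr
  have h3 : ((3 : ℤ) : k) = 0 := by push_cast; exact_mod_cast CharP.cast_eq_zero k 3
  obtain ⟨l11, p11⟩ := isPos_ht hG (r := 11) (by decide +kernel)
  obtain ⟨l9, p9⟩ := isPos_ht hG (r := 9) (by decide +kernel)
  have c11 : ∀ s, s < chevG2.nroots → 1 ≤ ht chevG2 s → ∀ t u : k,
      Commute (xg chevG2 k 11 t) (xg chevG2 k s u) :=
    fun s hs hs1 => cent_of_centB hC l11 p11 h3 (by decide +kernel) hs hs1
  have c9 : ∀ s, s < chevG2.nroots → 1 ≤ ht chevG2 s → ∀ t u : k,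
      Commute (xg chevG2 k 9 t) (xg chevG2 k s u) :=
    fun s hs hs1 => cent_of_centB hC l9 p9 h3 (by decide +kernel) hs hs1
  refine ⟨?_, by simp, fun s hs hs1 hne => ?_, ?_, fun e he => ?_⟩
  · intro r hr
    simp only [List.mem_cons, List.not_mem_nil, or_false] at hr
    rcases hr with rfl | rfl
    exacts [⟨l11, p11⟩, ⟨l9, p9⟩]
  · by_cases h8 : s = 8
    · subst h8
      refine ⟨7, 9, 2, [(11, 3, 2, 1), (10, -3, 1, 2)], lt 7 (by norm_num),
        (isPos_ht hG (by decide +kernel)).2, by norm_num, by decide +kernel, by simp, ?_⟩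
      simpa using cast_ne (k := k) 3 Nat.prime_two (by norm_num)
    · exact wit_of_witB hG (exc := [8, 11, 9]) (by decide +kernel) hs hs1 (by simp_all)
  · intro z hz s hs hs1 t u
    simp only [List.mem_cons, List.not_mem_nil, or_false] at hz
    rcases hz with rfl | rfl
    exacts [c11 s hs hs1 t u, c9 s hs hs1 t u]
  · simp only [prodL, List.map_cons, List.map_nil, List.prod_cons, List.prod_nil, mul_one] at he
    have c95 : Commute (xg chevG2 k 9 (e 9)) (xg chevG2 k 5 (1 : k)) :=
      comm_of_vanish hC l9 (lt 5 (by norm_num)) (by decide +kernel)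
        (by rw [show chevG2.commTerms 9 5 = [] by decide +kernel]; simp) _ _
    have h5 := he 5 (lt 5 (by norm_num))
    rw [show xg chevG2 k 11 (e 11) * xg chevG2 k 9 (e 9) * xg chevG2 k 5 1 *
        (xg chevG2 k 11 (e 11) * xg chevG2 k 9 (e 9))⁻¹ =
        xg chevG2 k 11 (e 11) * (xg chevG2 k 9 (e 9) * xg chevG2 k 5 1 * (xg chevG2 k 9 (e 9))⁻¹) *
          (xg chevG2 k 11 (e 11))⁻¹ by group, c95.eq, mul_inv_cancel_right] at h5
    have ht11 : e 11 ∈ L := rat_single hH (γ := -1) (by simp) l11 (lt 5 (by norm_num))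
      (by decide +kernel) (by decide +kernel) (lt 10 (by norm_num)) h5 rfl
      (show chevG2.commTerms 11 5 = [(10, -1, 1, 1)] by decide +kernel)
      (c11 10 (lt 10 (by norm_num)) (isPos_ht hG (by decide +kernel)).2 _)
    have he9 : Cz H (xg chevG2 k 9 (e 9)) := by
      have := Cz_mul hH (inv_mem ((hH.par 11 l11 _).2 ht11)) he
      rwa [inv_mul_cancel_left] at this
    have hL : chevG2.commTerms 9 3 = [(7, -2, 1, 1), (10, 3, 2, 1), (5, -3, 1, 2)] := by decide +kernel
    have h := word_of_Cz hH l9 (lt 3 (by norm_num)) (by decide +kernel) (by decide +kernel)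
      (he9 3 (lt 3 (by norm_num))) hL (fun x hx v => by
        simp only [List.mem_cons, List.not_mem_nil, or_false] at hx
        rcases hx with rfl | rfl | rfl
        · exact c9 7 (lt 7 (by norm_num)) (isPos_ht hG (by decide +kernel)).2 _ v
        · exact c9 10 (lt 10 (by norm_num)) (isPos_ht hG (by decide +kernel)).2 _ v
        · exact comm_of_vanish hC l9 (lt 5 (by norm_num)) (by decide +kernel)
            (by rw [show chevG2.commTerms 9 5 = [] by decide +kernel]; simp) _ v)
    have h3' : ((-3 : ℤ) : k) = 0 := by rw [Int.cast_neg, h3, neg_zero]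
    simp only [List.map_cons, List.map_nil, wordG, List.prod_cons, List.prod_nil, h3, h3', zero_mul,
      hG.xg_zero, mul_one, pow_one, one_pow] at h
    have ht9 : e 9 ∈ L := by
      have h2 : ((-2 : ℤ) : k) ≠ 0 := by
        rw [Int.cast_neg, neg_ne_zero]
        simpa using cast_ne (k := k) 3 Nat.prime_two (by norm_num)
      have := mul_mem (inv_mem (intCast_mem L (-2))) ((hH.par 7 (lt 7 (by norm_num)) _).1 h)
      rw [inv_mul_cancel_left₀ h2] at this
      exact neg_mem_iff.1 this
    simp [ht11, ht9]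

/-- The case `B2` in odd characteristic. -/
lemma zgood_B2_odd {H : Subgroup (GL chevB2.Idx k)} (hH : Ctx H L φ) (h2 : (2 : k) ≠ 0) :
    ZGood H L [7] := by
  have hC := hH.toHyp.comm
  have hG := hH.toHyp.good
  have lt : ∀ r, r < 8 → r < chevB2.nroots := fun r hr => hr
  obtain ⟨l7, p7⟩ := isPos_ht hG (r := 7) (by decide +kernel)
  have c7 : ∀ s, s < chevB2.nroots → 1 ≤ ht chevB2 s → ∀ t u : k,
      Commute (xg chevB2 k 7 t) (xg chevB2 k s u) :=
    fun s hs hs1 => cent_of_centB hC l7 p7 (n := 0) (by simp) (by decide +kernel) hs hs1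
  refine ⟨by simpa using ⟨l7, p7⟩, by simp, fun s hs hs1 hne => ?_, ?_, fun e he => ?_⟩
  · by_cases h6 : s = 6
    · subst h6
      exact ⟨5, 7, -2, [], lt 5 (by norm_num), (isPos_ht hG (by decide +kernel)).2, by norm_num,
        by decide +kernel, by simp, by simpa using h2⟩
    · exact wit_of_witB hG (exc := [6, 7]) (by decide +kernel) hs hs1 (by simp_all)
  · intro z hz s hs hs1 t u
    rw [List.mem_singleton] at hz; subst hz
    exact c7 s hs hs1 t u
  · simp only [prodL, List.map_cons, List.map_nil, List.prod_cons, List.prod_nil, mul_one] at he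
    simp only [List.mem_singleton, forall_eq]
    set t := e 7
    have hL : chevB2.commTerms 7 2 = [(6, -1, 1, 1), (4, -1, 1, 2)] := by decide +kernel
    have h := word_of_Cz hH l7 (lt 2 (by norm_num)) (by decide +kernel) (by decide +kernel)
      (he 2 (lt 2 (by norm_num))) hL (fun x hx v => by
        simp only [List.mem_cons, List.not_mem_nil, or_false] at hx
        rcases hx with rfl | rfl
        · exact c7 6 (lt 6 (by norm_num)) (isPos_ht hG (by decide +kernel)).2 _ v
        · exact c7 4 (lt 4 (by norm_num)) (isPos_ht hG (by decide +kernel)).2 _ v)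
    have hW : xg chevB2 k 6 t * xg chevB2 k 4 t ∈ H := by simpa [wordG] using h
    have l4 := lt 4 (by norm_num)
    have hng : ∀ e : k, e ∈ L → ng chevB2 k 4 e ∈ H := fun e he' =>
      mul_mem (mul_mem ((hH.par 4 l4 _).2 he')
        ((hH.par _ (hG.neg_lt l4) _).2 (neg_mem (inv_mem he')))) ((hH.par 4 l4 _).2 he')
    have hm1 : (-1 : k) ∈ L := neg_mem (one_mem L)
    have hh : hg chevB2 k 4 (-1) ∈ H := mul_mem (hng _ hm1) (hng _ (neg_mem (one_mem L)))
    have h1 := mul_mem (mul_mem hh hW) (inv_mem hh)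
    have hne : (-1 : k) ≠ 0 := by simp
    rw [show hg chevB2 k 4 (-1) * (xg chevB2 k 6 t * xg chevB2 k 4 t) * (hg chevB2 k 4 (-1))⁻¹ =
        hg chevB2 k 4 (-1) * xg chevB2 k 6 t * (hg chevB2 k 4 (-1))⁻¹ *
          (hg chevB2 k 4 (-1) * xg chevB2 k 4 t * (hg chevB2 k 4 (-1))⁻¹) by group,
      hG.hg_conj_x l4 (lt 6 (by norm_num)) hne t, hG.hg_conj_x l4 l4 hne t,
      show chevB2.pairing 4 6 = 1 by decide +kernel, show chevB2.pairing 4 4 = 2 by decide +kernel,
      zpow_one, zpow_two, neg_one_mul, neg_one_mul, neg_neg, one_mul] at h1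
    have h2t := mul_mem hW (inv_mem h1)
    rw [_root_.mul_inv_rev, mul_assoc, mul_inv_cancel_left, hG.xg_inv, ← hG.xg_add, neg_neg] at h2t
    have := (hH.par 6 (lt 6 (by norm_num)) _).1 h2t
    rw [← two_mul] at this
    have h2L : (2 : k) ∈ L := by rw [← one_add_one_eq_two]; exact add_mem (one_mem L) (one_mem L)
    have := mul_mem (inv_mem h2L) this
    rwa [inv_mul_cancel_left₀ h2] at this

include hH in
/-- The central roots exist in every characteristic. -/
theorem exists_zgood (p : ℕ) [Fact p.Prime] [CharP k p] : ∃ Z, ZGood H L Z := by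
  have hD := hH.toHyp.mem
  simp only [List.mem_cons, List.not_mem_nil, or_false] at hD
  rcases hD with rfl | rfl | rfl | rfl | rfl | rfl | rfl
  · rcases eq_or_ne p 3 with rfl | hp3
    · exact ⟨_, zgood_G2_three hH⟩
    refine ⟨[11], zgood_top hH (r := 5) (w := 10) (γ := -1) (m := 1) (by simp) rfl (by decide +kernel)
      (by decide +kernel) (by decide +kernel) (by decide +kernel) (by decide +kernel)
      (by decide +kernel) (fun s hs hs1 hne => ?_) (by decide +kernel)⟩
    have hG := hH.toHyp.good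
    have h3 : ((3 : ℤ) : k) ≠ 0 := by simpa using cast_ne (k := k) p Nat.prime_three hp3
    by_cases h9 : s = 9
    · subst h9
      exact ⟨7, 10, -3, [], show 7 < 12 by norm_num, (isPos_ht hG (by decide +kernel)).2, by norm_num,
        by decide +kernel, by simp, by simpa using h3⟩
    by_cases h8 : s = 8
    · subst h8
      rcases eq_or_ne p 2 with rfl | hp2
      · exact ⟨9, 11, 3, [], show 9 < 12 by norm_num, (isPos_ht hG (by decide +kernel)).2, by norm_num,
          by decide +kernel, by simp, h3⟩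
      · exact ⟨7, 9, 2, [(11, 3, 2, 1), (10, -3, 1, 2)], show 7 < 12 by norm_num,
          (isPos_ht hG (by decide +kernel)).2, by norm_num, by decide +kernel, by simp,
          by simpa using cast_ne (k := k) p Nat.prime_two hp2⟩
    exact wit_of_witB hG (exc := [8, 9, 11]) (by decide +kernel) hs hs1 (by simp_all)
  · rcases eq_or_ne p 2 with rfl | hp2
    · refine ⟨_, zgood_bsub hH (a := 5) (b := 4) (c := 6) (d := 7) (na := 2) (nb := 3) (w := [0])
        (by decide +kernel) (by norm_num) fun s hs hs1 hne => ?_⟩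
      exact wit_of_witB hH.toHyp.good (exc := [7, 6]) (by decide +kernel) hs hs1 hne
    · exact ⟨_, zgood_B2_odd hH (by simpa using cast_ne (k := k) p Nat.prime_two hp2)⟩
  · exact ⟨[23], zgood_top hH (r := 9) (w := 22) (γ := -1) (m := 1) (by simp) rfl (by decide +kernel)
      (by decide +kernel) (by decide +kernel) (by decide +kernel) (by decide +kernel)
      (by decide +kernel) (fun s hs hs1 hne => wit_of_witB hH.toHyp.good (exc := [23])
        (by decide +kernel) hs hs1 (by simpa using hne)) (by decide +kernel)⟩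
  · rcases eq_or_ne p 2 with rfl | hp2
    · refine ⟨_, zgood_bsub hH (a := 29) (b := 41) (c := 44) (d := 47) (na := 18) (nb := 6)
        (w := [3, 2, 1, 2, 3]) (by decide +kernel) (by norm_num) fun s hs hs1 hne => ?_⟩
      exact wit_of_witB hH.toHyp.good (exc := [47, 44]) (by decide +kernel) hs hs1 hne
    refine ⟨[47], zgood_top hH (r := 23) (w := 46) (γ := -1) (m := 1) (by simp) rfl (by decide +kernel)
      (by decide +kernel) (by decide +kernel) (by decide +kernel) (by decide +kernel)
      (by decide +kernel) (fun s hs hs1 hne => ?_) (by decide +kernel)⟩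
    by_cases h44 : s = 44
    · subst h44
      exact ⟨27, 45, -2, [], by decide +kernel, (isPos_ht hH.toHyp.good (by decide +kernel)).2, by norm_num,
        by decide +kernel, by simp, by simpa using cast_ne (k := k) p Nat.prime_two hp2⟩
    exact wit_of_witB hH.toHyp.good (exc := [44, 47]) (by decide +kernel) hs hs1 (by simp_all)
  · exact ⟨[71], zgood_top hH (r := 25) (w := 70) (γ := -1) (m := 1) (by simp) rfl (by decide +kernel)
      (by decide +kernel) (by decide +kernel) (by decide +kernel) (by decide +kernel)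
      (by decide +kernel) (fun s hs hs1 hne => wit_of_witB hH.toHyp.good (exc := [71])
        (by decide +kernel) hs hs1 (by simpa using hne)) (by decide +kernel)⟩
  · exact ⟨[125], zgood_top hH (r := 32) (w := 124) (γ := -1) (m := 1) (by simp) rfl (by decide +kernel)
      (by decide +kernel) (by decide +kernel) (by decide +kernel) (by decide +kernel)
      (by decide +kernel) (fun s hs hs1 hne => wit_of_witB hH.toHyp.good (exc := [125])
        (by decide +kernel) hs hs1 (by simpa using hne)) (by decide +kernel)⟩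
  · exact ⟨[239], zgood_top hH (r := 119) (w := 238) (γ := -1) (m := 1) (by simp) rfl (by decide +kernel)
      (by decide +kernel) (by decide +kernel) (by decide +kernel) (by decide +kernel)
      (by decide +kernel) (fun s hs hs1 hne => wit_of_witB hH.toHyp.good (exc := [239])
        (by decide +kernel) hs hs1 (by simpa using hne)) (by decide +kernel)⟩

end Cfsg.Agent.Chev54.Sub
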