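import Cfsg.Agent.Chev54.TwistE6Data
import Cfsg.Agent.Chev54.TrialityBase

/-!
Tools for the involutions of the twisted group of type E6 in characteristic two: coordinates fixed by the
symmetry, splittings, and the step at a fixed pivot.
-/

set_option autoImplicit false

namespace Cfsg.Agent.Chev54

open Cfsg.Lie Cfsg.Agent.ChevCore Cfsg.Agent.ChevGroup

section generic

variable {D : ChevalleyDatum} {F : Type*} [Field F]

/-- A list of positive roots closed under commutators. -/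
noncomputable def closB (D : ChevalleyDatum) (L : List ℕ) : Bool :=
  L.all fun a => decide (a < D.nroots) && decide (1 ≤ ht D a) &&
    L.all fun b => (D.commTerms a b).all fun c => decide (c.1 ∈ L)

lemma fok_list (hU : UGood D) {L : List ℕ} (h : closB D L = true) : FOK D {s | s ∈ L} (ht D) := by
  simp only [closB, List.all_eq_true, Bool.and_eq_true, decide_eq_true_eq] at h
  refine ⟨fun s hs => ⟨(h s hs).1.1, (h s hs).1.2, (h s hs).1.2⟩, fun a ha b hb c hc => ⟨(h a ha).2 b hb c hc, ?_⟩⟩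
  obtain ⟨-, h2, h3, -, h5⟩ := lin_term hU.toCommGood.toGood [] (h a ha).1.1 (h b hb).1.1 hc
  have := (h a ha).1.2
  have := (h b hb).1.2
  nlinarith

/-- The coordinates of an element of a closed set lie in it. -/
lemma vec_in (hU : UGood D) {C : Set ℕ} (hC : FOK D C (ht D)) {m : ℤ} (hm : 1 ≤ m) {y : GL D.Idx F}
    (hy : y ∈ XS D F C) {d : ℕ → F} (hd : Vec m y d) {s : ℕ} (hs : d s ≠ 0) : s ∈ C := by
  obtain ⟨e, he1, he2⟩ := exists_fv hU hC (mem_U_inter hU hC hm hy (hd.mem hU))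
  obtain rfl := hd.unique hU hm (d' := e)
    ⟨fun s hs => ⟨(hC.pos s (he1 s hs).1).1, (he1 s hs).2⟩, XS_mono (fun s hs => hs.2) he2⟩
  exact (he1 s hs).1

/-- Subgroups of disjoint closed sets meet trivially. -/
lemma inter_disjoint (hU : UGood D) {C₁ C₂ : Set ℕ} (h₁ : FOK D C₁ (ht D)) (h₂ : FOK D C₂ (ht D))
    (hdis : ∀ s ∈ C₁, s ∉ C₂) {y : GL D.Idx F} (hy₁ : y ∈ XS D F C₁) (hy₂ : y ∈ XS D F C₂) : y = 1 := by
  have H : ∀ n : ℕ, y ∈ XS D F (htGe D (1 + (n : ℤ))) := by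
    intro n
    induction n with
    | zero =>
      rw [Nat.cast_zero, add_zero]
      exact XS_mono (fun s hs => (h₁.pos s hs).2.1) hy₁
    | succ n ih =>
      obtain ⟨d, hd⟩ := exists_vec hU (by omega) ih
      have hd0 : d = fun _ => 0 := funext fun s => by
        by_contra hs
        exact hdis s (vec_in hU h₁ (by omega) hy₁ hd hs) (vec_in hU h₂ (by omega) hy₂ hd hs)
      have h := hd.2
      rw [hd0, prodL_zero hU, inv_one, one_mul] at h
      push_cast
      rwa [← add_assoc]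
  have h := H (maxHt D).toNat
  rwa [hU.htGe_eq_bot (by omega), Subgroup.mem_bot] at h

/-- The second list is stable under commutators with the first. -/
noncomputable def normB (D : ChevalleyDatum) (L R : List ℕ) : Bool :=
  (L.all fun a => decide (a < D.nroots) && decide (1 ≤ ht D a)) &&
  R.all fun s => decide (1 ≤ ht D s) &&
    L.all fun a => decide (s ≠ a) && (D.commTerms a s).all fun c => decide (c.1 ∈ R)

/-- Conjugation by a list preserves a list normalised by it. -/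
lemma lists_conj (hU : UGood D) {L R : List ℕ} (hn : normB D L R = true) {a b : GL D.Idx F}
    (ha : a ∈ XS D F {s | s ∈ L}) (hb : b ∈ XS D F {s | s ∈ R}) : a * b * a⁻¹ ∈ XS D F {s | s ∈ R} := by
  have hG := hU.toCommGood.toGood
  simp only [normB, List.all_eq_true, Bool.and_eq_true, decide_eq_true_eq] at hn
  obtain ⟨hL, hR⟩ := hn
  have hnorm : XS D F {s | s ∈ L} ≤ Subgroup.normalizer (XS D F {s | s ∈ R} : Set (GL D.Idx F)) := by
    refine XS_le fun a t ha haL => hU.toCommGood.xg_mem_normalizer ha (fun s hs hsR => ⟨fun e => ?_, fun _ c hc => ?_⟩) t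
    · have h1 := (hR s hsR).1
      have h2 := (hL a haL).2
      rw [e, hG.ht_neg ha] at h1
      omega
    · rw [commW_std] at hc
      exact ((hR s hsR).2 a haL).2 c hc
  exact (Subgroup.mem_normalizer_iff.1 (hnorm ha) _).1 hb

/-- Splitting an element along a list and a list normalised by it. -/
lemma split_lists (hU : UGood D) {L R : List ℕ} (hn : normB D L R = true) {C : Set ℕ}
    (hC : ∀ s, s < D.nroots → s ∈ C → s ∈ L ∨ s ∈ R) {y : GL D.Idx F} (hy : y ∈ XS D F C) :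
    ∃ a ∈ XS D F {s | s ∈ L}, ∃ b ∈ XS D F {s | s ∈ R}, y = a * b := by
  have hnorm : XS D F {s | s ∈ L} ≤ Subgroup.normalizer (XS D F {s | s ∈ R} : Set (GL D.Idx F)) := fun a ha =>
    Subgroup.mem_normalizer_iff.2 fun b => ⟨fun hb => lists_conj hU hn ha hb, fun hb => by
      have := lists_conj hU hn (inv_mem ha) hb
      simpa [mul_assoc] using this⟩
  have h : y ∈ XS D F {s | s ∈ L} ⊔ XS D F {s | s ∈ R} := by
    refine XS_le (fun r t hr hrC => ?_) hy
    rcases hC r hr hrC with h | h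
    · exact Subgroup.mem_sup_left (xg_mem_XS hr (show r ∈ {s | s ∈ L} from h) t)
    · exact Subgroup.mem_sup_right (xg_mem_XS hr (show r ∈ {s | s ∈ R} from h) t)
  rw [← SetLike.mem_coe, Subgroup.coe_mul_of_left_le_normalizer_right _ _ hnorm] at h
  obtain ⟨a, ha, b, hb, e⟩ := Set.mem_mul.1 h
  exact ⟨a, ha, b, hb, e.symm⟩

end generic

variable {F : Type*} [Field F]

/-- The positive root subgroups of height at least `m`. -/
noncomputable abbrev U6 (F : Type*) [Field F] (m : ℤ) : Subgroup (GL chevE6.Idx F) := XS chevE6 F (htGe chevE6 m)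

lemma u6_mono {m n : ℤ} (h : n ≤ m) : U6 F m ≤ U6 F n :=
  XS_mono fun r (hr : m ≤ ht chevE6 r) => show n ≤ ht chevE6 r by omega

lemma XS_le_group6 (C : Set ℕ) : XS chevE6 F C ≤ chevE6.group F :=
  XS_le fun r t _ _ => uGoodE6.toCommGood.toGood.xg_mem_group r t

lemma rho6_facts : ∀ r < 72, rho6 r < 72 ∧ rho6 (rho6 r) = r ∧ ht chevE6 (rho6 r) = ht chevE6 r := by
  decide +kernel

lemma nroots_E6 : chevE6.nroots = 72 := by decide +kernel

lemma rank_E6 : chevE6.rank = 6 := by decide +kernel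

lemma mem_of_vec_zero6 {m n : ℤ} {x : GL chevE6.Idx F} (h : Vec m x (0 : ℕ → F)) (hn : n ≤ m + 1) :
    x ∈ U6 F n := by
  have := h.2
  rw [prodL_zero' uGoodE6, inv_one, one_mul] at this
  exact u6_mono hn this

lemma vec_x6 {r : ℕ} {m : ℤ} (h : r < chevE6.nroots ∧ ht chevE6 r = m) (hm : 1 ≤ m) (t : F) :
    Vec m (xg chevE6 F r t) (Pi.single r t) :=
  h.2 ▸ vec_xg uGoodE6 h.1 (h.2 ▸ hm) t

lemma word_conj6 [CharP F 2] {u : List ℕ} (hu : ∀ i ∈ u, i < 6) {r : ℕ} (hr : r < 72) (t : F) :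
    nw chevE6 F u * xg chevE6 F r t * (nw chevE6 F u)⁻¹ = xg chevE6 F (actW chevE6 u r) t := by
  rw [uGoodE6.toCommGood.toGood.nw_conj_x (fun i hi => rank_E6.symm ▸ hu i hi) (nroots_E6.symm ▸ hr),
    etaWord_cast, one_mul]

variable {q : ℕ} {S : Subgroup (GL chevE6.Idx F)} {sg : GL chevE6.Idx F → GL chevE6.Idx F}
  (T : Tw6 F q S sg)
include T

lemma sg6_one : sg 1 = 1 := by
  have h := T.sg_mul 1 (one_mem _) 1 (one_mem _)
  rw [one_mul] at h
  exact mul_eq_left.1 h.symm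

lemma sg6_inv {a : GL chevE6.Idx F} (ha : a ∈ chevE6.group F) : sg a⁻¹ = (sg a)⁻¹ := by
  refine eq_inv_of_mul_eq_one_left ?_
  rw [← T.sg_mul _ (inv_mem ha) _ ha, inv_mul_cancel, sg6_one T]

lemma sg6_mem {C : Set ℕ} (hC : ∀ s, s < 72 → s ∈ C → rho6 s ∈ C) {x : GL chevE6.Idx F}
    (hx : x ∈ XS chevE6 F C) : sg x ∈ XS chevE6 F C := by
  have hle := XS_le_group6 (F := F) C
  induction hx using Subgroup.closure_induction with
  | mem y hy =>
    obtain ⟨r, t, hr, hm, rfl⟩ := hy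
    rw [T.sg_x r (nroots_E6 ▸ hr)]
    exact xg_mem_XS (nroots_E6.symm ▸ (rho6_facts r (nroots_E6 ▸ hr)).1) (hC r (nroots_E6 ▸ hr) hm) _
  | one => rw [sg6_one T]; exact one_mem _
  | mul a b ha hb ha' hb' => rw [T.sg_mul a (hle ha) b (hle hb)]; exact mul_mem ha' hb'
  | inv a ha ha' => rw [sg6_inv T (hle ha)]; exact inv_mem ha'

lemma sg6_prodL (L : List ℕ) (hL : ∀ r ∈ L, r < 72) (d : ℕ → F) :
    sg (prodL chevE6 F L d) = prodL chevE6 F (L.map rho6) (fun s => d (rho6 s) ^ q) := by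
  induction L with
  | nil => simpa [prodL] using sg6_one T
  | cons a L ih =>
    have hG := uGoodE6.toCommGood.toGood
    have hmem : prodL chevE6 F L d ∈ chevE6.group F := list_prod_mem fun y hy => by
      obtain ⟨r, -, rfl⟩ := List.mem_map.1 hy
      exact hG.xg_mem_group r _
    have ha := hL a (List.mem_cons_self ..)
    rw [prodL_cons, T.sg_mul _ (hG.xg_mem_group a _) _ hmem, T.sg_x a ha,
      ih fun r hr => hL r (List.mem_cons_of_mem _ hr), List.map_cons, prodL_cons, (rho6_facts a ha).2.1]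

/-- The coordinates of a fixed element are permuted with the `q`-th power. -/
theorem vec6_equiv {m : ℤ} (hm : 1 ≤ m) {u : GL chevE6.Idx F} (hfix : sg u = u) {d : ℕ → F}
    (hd : Vec m u d) {r : ℕ} (hr : r < 72) : d (rho6 r) = d r ^ q := by
  have hU := uGoodE6
  have hG := hU.toCommGood.toGood
  have hq : q ≠ 0 := T.pos.ne'
  have hlt : ∀ r ∈ posL (D := chevE6), r < 72 := fun r hr => nroots_E6 ▸ (posL_pos hU r hr).1
  have hinj : ∀ a ∈ (posL (D := chevE6)), ∀ b ∈ (posL (D := chevE6)), rho6 a = rho6 b → a = b :=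
    fun a ha b hb e => by rw [← (rho6_facts a (hlt a ha)).2.1, ← (rho6_facts b (hlt b hb)).2.1, e]
  set d' : ℕ → F := fun s => d (rho6 s) ^ q with hd'
  have hsupp : ∀ s, d' s ≠ 0 → s < chevE6.nroots ∧ ht chevE6 s = m := by
    intro s hs
    have h0 : d (rho6 s) ≠ 0 := fun h => hs (by simp [hd', h, zero_pow hq])
    obtain ⟨h1, h2⟩ := hd.1 _ h0
    by_cases hs72 : s < 72
    · exact ⟨nroots_E6.symm ▸ hs72, by rw [← (rho6_facts s hs72).2.2, h2]⟩
    · have h : rho6 s = s := List.getD_eq_default _ _ (show (72 : ℕ) ≤ s by omega)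
      rw [h, nroots_E6] at h1
      exact absurd h1 hs72
  have hC : FOK chevE6 {s | s < chevE6.nroots ∧ 1 ≤ ht chevE6 s} (ht chevE6) := by
    refine ⟨fun s hs => ⟨hs.1, hs.2, hs.2⟩, fun a ha b hb c hc => ?_⟩
    obtain ⟨h1, h2, h3, -, h5⟩ := lin_term hG [] ha.1 hb.1 hc
    have := ha.2
    have := hb.2
    exact ⟨⟨h1, by nlinarith⟩, by nlinarith⟩
  obtain ⟨e, he, hev⟩ := vec_prodL hU hC hm (d := d')
    (fun s hs => ⟨⟨(hsupp s hs).1, (hsupp s hs).2.symm ▸ hm⟩, (hsupp s hs).2.ge⟩)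
    ((posL (D := chevE6)).map rho6) (List.Nodup.map_on hinj posL_nodup)
  have hrest : sg ((prodL chevE6 F (posL (D := chevE6)) d)⁻¹ * u) ∈ U6 F (m + 1) :=
    sg6_mem T (fun s hs (h : m + 1 ≤ ht chevE6 s) => show m + 1 ≤ ht chevE6 (rho6 s) by
      rwa [(rho6_facts s hs).2.2]) hd.2
  have hp : prodL chevE6 F (posL (D := chevE6)) d ∈ chevE6.group F := list_prod_mem fun y hy => by
    obtain ⟨r, -, rfl⟩ := List.mem_map.1 hy
    exact hG.xg_mem_group r _
  set rest := (prodL chevE6 F (posL (D := chevE6)) d)⁻¹ * u with hrest'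
  have hu : sg u = prodL chevE6 F ((posL (D := chevE6)).map rho6) d' * sg rest := by
    conv_lhs => rw [show u = prodL chevE6 F (posL (D := chevE6)) d * rest by rw [hrest', mul_inv_cancel_left]]
    rw [T.sg_mul _ hp _ (XS_le_group6 _ hd.2), sg6_prodL T _ hlt]
  have h2 := he.mul hU hm (vec_of_next hU hrest)
  rw [← hu, hfix] at h2
  have h4 := congrFun (hd.unique hU hm h2) (rho6 r)
  obtain ⟨r1, r2, rh⟩ := rho6_facts r hr
  rw [Pi.add_apply, add_zero, hev] at h4
  by_cases hh : rho6 r ∈ (posL (D := chevE6)).map rho6 ∧ ht chevE6 (rho6 r) = m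
  · rw [if_pos hh] at h4
    rw [h4]
    show d (rho6 (rho6 r)) ^ q = _
    rw [r2]
  · rw [if_neg hh] at h4
    rw [h4]
    have h0 : d r = 0 := by
      by_contra h0
      obtain ⟨h1, h5⟩ := hd.1 r h0
      exact hh ⟨List.mem_map.2 ⟨r, (mem_posL' hU r).2 ⟨h1, h5.symm ▸ hm⟩, rfl⟩, rh.trans h5⟩
    rw [h0, zero_pow hq]

omit T

/-- Extra conditions on a step at a fixed pivot. -/
noncomputable def fixB (X : StepData) : Bool :=
  decide (rho6 X.r = X.r) &&
  ((List.range 72).all fun s => !(inS chevE6 X.Φ s && !decide (s = X.r)) ||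
    (inS chevE6 X.Φ (rho6 s) && decide (lin chevE6 X.π (rho6 s) = lin chevE6 X.π s))) &&
  decide ((X.P.map Prod.fst).Nodup) &&
  (X.P.all fun p => inS chevE6 X.Φ p.2 && decide (p.2 ≠ X.r) && inS chevE6 X.Φ p.1 && decide (p.1 ≠ X.r) &&
    decide (lin chevE6 X.π p.2 < 0) && decide (0 < lin chevE6 X.π p.1) &&
    decide (lin chevE6 X.ψ p.1 = lin chevE6 X.ψ p.2) &&
    X.P.any (fun p' => decide (p'.2 = rho6 p.2)) &&
    decide ((chevE6.commTerms X.r p.2).map (fun c => (c.1, decide ((2 : ℤ) ∣ c.2.1), c.2.2.2)) = [(p.1, false, 1)]) &&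
    X.P.all (fun p' => decide (chevE6.commTerms p.2 p'.2 = [])))

lemma step_XE_closed (hU : UGood chevE6) {X : StepData} (hX : StepOK chevE6 X) (h : fixB X = true) :
    FOK chevE6 (X.E chevE6) (lin chevE6 X.ψ) := by
  have hQ := fok_Q hU hX
  simp only [fixB, Bool.and_eq_true, List.all_eq_true, decide_eq_true_eq] at h
  refine ⟨fun s hs => hQ.pos s hs.1, fun a ha b hb c hc => ?_⟩
  obtain ⟨-, p, hp, rfl⟩ := ha
  obtain ⟨-, p', hp', rfl⟩ := hb
  rw [(h.2 p hp).2 p' hp'] at hc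
  simp at hc

variable [CharP F 2]

/-- The layer of the images of killers under conjugation by the pivot. -/
lemma fv_killers {X : StepData} (hX : StepOK chevE6 X) (h : fixB X = true) (c : F) {w : ℤ} {d : ℕ → F}
    (hd : ∀ s, d s ≠ 0 → s ∈ X.E chevE6 ∧ lin chevE6 X.ψ s = w) : ∀ L : List ℕ, L.Nodup →
    ∃ e, FV chevE6 (X.Q chevE6) (lin chevE6 X.ψ) w
        ((xg chevE6 F X.r c)⁻¹ * prodL chevE6 F L d * xg chevE6 F X.r c) e ∧
      ∀ p ∈ X.P, e p.1 = if p.2 ∈ L then c ^ ((chevE6.commTerms X.r p.2).map fun z => z.2.2.1).headI * d p.2 else 0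
  | [], _ => ⟨0, fv_of_next uGoodE6 (fok_Q uGoodE6 hX) (by simp [prodL]), fun p _ => by simp⟩
  | s :: L, hnd => by
    obtain ⟨hsL, hnd'⟩ := List.nodup_cons.1 hnd
    obtain ⟨e, he, hev⟩ := fv_killers hX h c hd L hnd'
    have hU := uGoodE6
    have hG := hU.toCommGood.toGood
    have hQ := fok_Q hU hX
    rw [prodL_cons, show (xg chevE6 F X.r c)⁻¹ * (xg chevE6 F s (d s) * prodL chevE6 F L d) * xg chevE6 F X.r c =
      ((xg chevE6 F X.r c)⁻¹ * xg chevE6 F s (d s) * xg chevE6 F X.r c) *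
        ((xg chevE6 F X.r c)⁻¹ * prodL chevE6 F L d * xg chevE6 F X.r c) by group]
    by_cases h0 : d s = 0
    · refine ⟨e, by rw [h0, hG.xg_zero, mul_one, inv_mul_cancel, one_mul]; exact he, fun p hp => ?_⟩
      rw [hev p hp]
      by_cases hps : p.2 = s
      · subst hps; simp [hsL, h0]
      · simp [hps]
    · obtain ⟨⟨hsQ, p0, hp0, hp0s⟩, hsw⟩ := hd s h0
      simp only [fixB, Bool.and_eq_true, List.all_eq_true, decide_eq_true_eq] at h
      obtain ⟨⟨⟨⟨⟨⟨⟨⟨⟨-, -⟩, hQ1⟩, hne1⟩, -⟩, hpi⟩, hψ⟩, -⟩, hterms⟩, -⟩ := h.2 p0 hp0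
      rw [hp0s] at hψ hterms
      obtain ⟨z, hz, hz'⟩ := List.map_eq_singleton_iff.1 hterms
      simp only [Prod.mk.injEq, decide_eq_false_iff_not] at hz'
      have hp1 : p0.1 ∈ X.Q chevE6 := ⟨hQ1, hne1⟩
      have hx : (xg chevE6 F X.r c)⁻¹ * xg chevE6 F s (d s) * xg chevE6 F X.r c =
          xg chevE6 F s (d s) * xg chevE6 F p0.1 (c ^ z.2.2.1 * d s) := by
        rw [x_conj hU hX hsQ, hz, List.map_singleton, List.prod_singleton, hz'.1, termV, cast_odd hz'.2.1,
          hz'.2.2, CharTwo.neg_eq, pow_one, one_mul]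
      rw [hx]
      refine ⟨_, FV.mul hU hQ (FV.mul hU hQ (fv_xg hU hQ hsQ hsw (d s))
        (fv_xg hU hQ hp1 (hψ.trans hsw) _)) he, fun p hp => ?_⟩
      have hq1 := h.2 p hp
      have hne : p.1 ≠ s := fun e => by
        have h1 := (h.2 p0 hp0).1.1.1.1.1.2
        have h2 := hq1.1.1.1.1.2
        rw [hp0s] at h1
        rw [e] at h2
        omega
      rw [Pi.add_apply, Pi.add_apply, Pi.single_eq_of_ne hne, zero_add, hev p hp]
      by_cases hps : p.2 = s
      · have hpp : p.1 = p0.1 := by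
          have h3 := hq1.1.2
          rw [hps, hz] at h3
          simp only [List.map_singleton, List.cons.injEq, and_true, Prod.mk.injEq] at h3
          rw [← h3.1, hz'.1]
        rw [hpp, Pi.single_eq_same, hps, if_neg hsL, add_zero, if_pos (List.mem_cons_self ..), hz]
        simp
      · have hpp : p.1 ≠ p0.1 := fun e => hps (by
          rw [← hp0s]
          exact congrArg Prod.snd (List.inj_on_of_nodup_map h.1.2 hp hp0 e))
        rw [Pi.single_eq_of_ne hpp, zero_add]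
        simp [hps]

variable [Finite F]

include T in
/-- The step at a fixed pivot stays in the twisted group. -/
theorem fix_step {X : StepData} (hX : StepOK chevE6 X) (h : fixB X = true) {c : F} (hc : c ≠ 0)
    (hcq : c ^ q = c) {w : GL chevE6.Idx F} (hw : w ∈ XS chevE6 F (X.Q chevE6))
    (hfix : sg (xg chevE6 F X.r c * w) = xg chevE6 F X.r c * w)
    (h2 : xg chevE6 F X.r c * w * (xg chevE6 F X.r c * w) = 1) :
    ∃ g, g ∈ S ∧ g ∈ XS chevE6 F (X.Q chevE6) ∧ ∃ z ∈ XS chevE6 F (X.Z chevE6),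
      sg z = z ∧ g * (xg chevE6 F X.r c * w) * g⁻¹ = xg chevE6 F X.r c * z := by
  have hU := uGoodE6
  have hG := hU.toCommGood.toGood
  have hQ := fok_Q hU hX
  have hA := fok_A hU hX
  have hE := step_XE_closed hU hX h
  obtain ⟨g, hg, z, hz, he⟩ := step_kill hU hX hc hw h2
  have hb := h
  simp only [fixB, Bool.and_eq_true, List.all_eq_true, decide_eq_true_eq, List.mem_range, Bool.or_eq_true,
    Bool.not_eq_true', Bool.and_eq_false_iff, decide_eq_false_iff_not, Bool.not_eq_false'] at hb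
  obtain ⟨⟨⟨hr, hst⟩, -⟩, hP⟩ := hb
  have hQst : ∀ s, s < 72 → s ∈ X.Q chevE6 → rho6 s ∈ X.Q chevE6 ∧
      lin chevE6 X.π (rho6 s) = lin chevE6 X.π s := by
    intro s hs hsQ
    rcases hst s hs with h | h
    · rcases h with h | h
      · exact absurd hsQ.1 (by simp [h])
      · exact absurd h hsQ.2
    · refine ⟨⟨h.1, fun e => hsQ.2 ?_⟩, h.2⟩
      rw [← (rho6_facts s hs).2.1, e, hr]
  have hEst : ∀ s, s < 72 → s ∈ X.E chevE6 → rho6 s ∈ X.E chevE6 := by
    rintro s hs ⟨hsQ, p, hp, rfl⟩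
    refine ⟨(hQst _ hs hsQ).1, ?_⟩
    simpa [List.any_eq_true] using (hP p hp).1.1.2
  have hEA : X.E chevE6 ⊆ X.A chevE6 := by
    rintro s ⟨hsQ, p, hp, rfl⟩
    exact ⟨hsQ, (hP p hp).1.1.1.1.1.2.le⟩
  have hEQ : XS chevE6 F (X.E chevE6) ≤ XS chevE6 F (X.Q chevE6) := XS_mono fun s hs => hs.1
  have hrlt : X.r < 72 := nroots_E6 ▸ (inS_iff.1 hX.r_mem).1
  set x := xg chevE6 F X.r c with hx
  have hxg : x ∈ chevE6.group F := hG.xg_mem_group _ _
  have hsx : sg x = x := by rw [hx, T.sg_x X.r hrlt, hr, hcq]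
  have hgG := XS_le_group6 _ hg
  have hzG := XS_le_group6 _ hz
  have hwG := XS_le_group6 _ hw
  have hg' : sg g ∈ XS chevE6 F (X.E chevE6) := sg6_mem T hEst hg
  have hz' : sg z ∈ XS chevE6 F (X.A chevE6) := by
    refine sg6_mem T (C := X.A chevE6) (fun s hs hsA => ⟨(hQst s hs hsA.1).1, (hQst s hs hsA.1).2.le.trans hsA.2⟩) ?_
    exact XS_mono (fun s hs => show s ∈ X.A chevE6 from ⟨hs.1, hs.2.le⟩) hz
  have he' : sg g * (x * w) * (sg g)⁻¹ = x * sg z := by
    have h1 := congrArg sg he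
    rwa [T.sg_mul _ (mul_mem hgG (mul_mem hxg hwG)) _ (inv_mem hgG), T.sg_mul _ hgG _ (mul_mem hxg hwG),
      sg6_inv T hgG, hfix, T.sg_mul _ hxg _ hzG, hsx] at h1
  set m := sg g * g⁻¹ with hm
  have hmE : m ∈ XS chevE6 F (X.E chevE6) := mul_mem hg' (inv_mem hg)
  have hmA : x⁻¹ * m * x ∈ XS chevE6 F (X.A chevE6) := by
    have h1 : m * (x * z) * m⁻¹ = x * sg z := by
      rw [← he, ← he', hm]; group
    have h2' : x⁻¹ * m * x = sg z * m * z⁻¹ := by
      calc x⁻¹ * m * x = x⁻¹ * (m * (x * z) * m⁻¹) * m * z⁻¹ := by group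
        _ = _ := by rw [h1]; group
    rw [h2']
    exact mul_mem (mul_mem hz' (XS_mono hEA hmE))
      (inv_mem (XS_mono (fun s hs => show s ∈ X.A chevE6 from ⟨hs.1, hs.2.le⟩) hz))
  have hlayer : ∀ n : ℕ, m ∈ XS chevE6 F (cf (X.E chevE6) (lin chevE6 X.ψ) (1 + n)) := by
    intro n
    induction n with
    | zero => rw [Nat.cast_zero, add_zero, cf_one hU hE]; exact hmE
    | succ n ih =>
      set w0 : ℤ := 1 + (n : ℤ) with hw0
      obtain ⟨d, hd1, hd2⟩ := exists_fv hU hE ih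
      have hd2Q : (prodL chevE6 F (posL (D := chevE6)) d)⁻¹ * m ∈
          XS chevE6 F (cf (X.Q chevE6) (lin chevE6 X.ψ) (w0 + 1)) :=
        XS_mono (fun s (hs : s ∈ cf (X.E chevE6) (lin chevE6 X.ψ) (w0 + 1)) =>
          show s ∈ cf (X.Q chevE6) (lin chevE6 X.ψ) (w0 + 1) from ⟨hs.1.1, hs.2⟩) hd2
      obtain ⟨e, he0, hev⟩ := fv_killers hX h c hd1 _ posL_nodup
      have hxm : FV chevE6 (X.Q chevE6) (lin chevE6 X.ψ) w0 (x⁻¹ * m * x) (e + 0) := by
        have h1 := FV.mul hU hQ he0 (fv_of_next hU hQ (x_norm hU hX (w0 + 1) (c := c) hd2Q))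
        rwa [show x⁻¹ * prodL chevE6 F (posL (D := chevE6)) d * x *
          (x⁻¹ * ((prodL chevE6 F (posL (D := chevE6)) d)⁻¹ * m) * x) = x⁻¹ * m * x by group] at h1
      rw [add_zero] at hxm
      obtain ⟨e', he'1, he'2⟩ := exists_fv hU hA
        (mem_cf_inter hU hQ (fun s hs => hs.1) hA (by omega) hmA (hxm.mem hU hQ))
      obtain rfl := hxm.unique hU hQ (d' := e')
        ⟨fun s hs => ⟨(he'1 s hs).1.1, (he'1 s hs).2⟩, XS_mono (fun s (hs : s ∈ cf (X.A chevE6) (lin chevE6 X.ψ) (w0 + 1)) =>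
          show s ∈ cf (X.Q chevE6) (lin chevE6 X.ψ) (w0 + 1) from ⟨hs.1.1, hs.2⟩) he'2⟩
      have hd0 : d = 0 := funext fun s => by
        by_contra hs
        obtain ⟨⟨hsQ, p, hp, rfl⟩, -⟩ := hd1 s hs
        have hp0 : e p.1 = 0 := by
          by_contra hne
          have h1 := (he'1 p.1 hne).1.2
          have h2 := (hP p hp).1.1.1.1.2
          omega
        rw [hev p hp, if_pos ((mem_posL' hU p.2).2 ⟨(hQ.pos _ hsQ).1, (hQ.pos _ hsQ).2.1⟩)] at hp0
        exact mul_ne_zero (pow_ne_zero _ hc) hs hp0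
      rw [hd0, prodL_zero' hU, inv_one, one_mul] at hd2
      push_cast
      rw [← add_assoc]
      exact hd2
  have hm1 : m = 1 := by
    have h1 := hlayer X.B.toNat
    refine Subgroup.mem_bot.1 (XS_le (P := ⊥) (fun s t _ hs => absurd hs.2 ?_) h1)
    have := (hX.q_ok s hs.1.1).2.1
    omega
  have hgfix : sg g = g := mul_inv_eq_one.1 hm1
  refine ⟨g, T.full g (XS_mono (fun s hs => (hQ.pos s hs.1).2.1) hg) hgfix, hEQ hg, z, hz, ?_, he⟩
  rw [hgfix, he] at he'
  exact (mul_left_cancel he').symm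

end Cfsg.Agent.Chev54
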