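import Cfsg.Agent.Chev54.TwistE6Base
import Cfsg.Agent.Chev54.InvRed

/-!
Checked tables for the involutions of the twisted group of type E6 in characteristic two.
-/

set_option autoImplicit false

namespace Cfsg.Agent.Chev54

open Cfsg.Lie Cfsg.Agent.ChevCore Cfsg.Agent.ChevGroup

/-- A pivot: the step, the orbit words of the move and the next pair of subsystem and orthogonal roots. -/
structure Piv6 where
  X : StepData
  bs : List (List ℕ)
  Φ' : List (List ℤ)
  K' : List ℕ

/-- The roots of a subsystem. -/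
noncomputable def sList6 (Φ : List (List ℤ)) : List ℕ := (List.range 72).filter (inS chevE6 Φ)

/-- The linear functional giving the heights of the images under an orbit word. -/
noncomputable def phiOf (o : List ℕ) : List ℤ :=
  (List.range 6).map fun k => ht chevE6 (actW chevE6 o (chevE6.simple k))

/-- The check of a pivot. -/
noncomputable def pivB (Φ : List (List ℤ)) (K : List ℕ) (p : Piv6) : Bool :=
  decide (p.X.Φ = Φ) && StepData.checkB chevE6 (CTab.std chevE6) p.X && fixB p.X &&
  (p.bs.all fun o => decide (o ∈ orbs6)) &&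
  (K.all fun k => decide (actW chevE6 p.bs.flatten k = k) && decide (chevE6.pairing p.X.r k = 0)) &&
  decide (chevE6.pairing p.X.r p.X.r = 2) &&
  decide (p.K' = K ++ [actW chevE6 p.bs.flatten p.X.r]) &&
  (sList6 Φ).all fun s => decide (s = p.X.r) || !decide (lin chevE6 p.X.π s = 0) ||
    (decide (chevE6.pairing p.X.r s = 0) && inS chevE6 p.Φ' (actW chevE6 p.bs.flatten s))

/-- The check of a state. -/
noncomputable def stateB6 (Φ : List (List ℤ)) (K : List ℕ) (os : List (List ℕ)) : Bool :=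
  (K.all fun k => decide (k < 72) && decide (rho6 k = k) && (K.all fun k' => PairData.evB chevE6 k k') &&
    (sList6 Φ).all fun s => PairData.evB chevE6 k s) &&
  (os.all fun o => decide (o ∈ orbs6) && (K.all fun k => decide (actW chevE6 o k = k)) &&
    ((List.range 72).all fun s => decide (lin chevE6 (phiOf o) s = ht chevE6 (actW chevE6 o s)) &&
      decide (actW chevE6 o (actW chevE6 o s) = s)) &&
    (sList6 Φ).all fun s => decide (ht chevE6 s < 2) || inS chevE6 Φ (actW chevE6 o s)) &&
  (sList6 Φ).all fun s => (decide (ht chevE6 s < 2) && decide (s ∈ [56, 46, 42, 39, 37, 36])) ||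
    os.any fun o => decide (ht chevE6 (actW chevE6 o s) < ht chevE6 s)

/-- The roots of the subsystem on the middle three simple roots. -/
def l35 : List ℕ := [42, 37, 39, 43, 40, 44]

/-- The roots of the subsystem on the two outer pairs of simple roots. -/
def l16 : List ℕ := [56, 42, 57, 36, 37, 38]

/-- The other roots of a subsystem. -/
noncomputable def restL (L : List ℕ) (Φ : List (List ℤ)) : List ℕ :=
  (sList6 Φ).filter fun s => !decide (s ∈ L)

/-- The check of a move inside a subsystem. -/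
noncomputable def mixB (L : List ℕ) (os : List (List ℕ)) (Φ : List (List ℤ)) (K : List ℕ) : Bool :=
  (L.all fun l => inS chevE6 Φ l && decide (rho6 l ∈ L) && K.all fun k => PairData.evB chevE6 k l) &&
  ((restL L Φ).all fun s => decide (rho6 s ∈ restL L Φ) &&
    os.all fun o => decide (actW chevE6 o s ∈ restL L Φ)) &&
  normB chevE6 L (restL L Φ) && closB chevE6 L && closB chevE6 (restL L Φ) &&
  os.all fun o => decide (o ∈ orbs6) && K.all fun k => decide (actW chevE6 o k = k)

/-- One term with odd coefficient and unit exponents. -/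
noncomputable def one6 (r s T : ℕ) : Bool :=
  decide ((chevE6.commTerms r s).map (fun c => (c.1, decide ((2 : ℤ) ∣ c.2.1), c.2.2.1, c.2.2.2)) =
    [(T, false, 1, 1)]) && PairData.evB chevE6 s T && decide (r < 72) && decide (s < 72) &&
    decide (T < 72) && decide (s ≠ r) && decide (s ≠ chevE6.neg r)

theorem one6_terms : one6 43 37 44 = true ∧ one6 40 42 44 = true ∧ one6 42 39 43 = true ∧
    one6 37 39 40 = true ∧ one6 56 42 57 = true ∧ one6 36 37 38 = true := by decide +kernel

theorem pairs35 : ([43, 40, 44] : List ℕ).Pairwise (fun a b => PairData.evB chevE6 a b = true) ∧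
    ([57, 38] : List ℕ).Pairwise (fun a b => PairData.evB chevE6 a b = true) ∧
    (∀ p ∈ ([(42, 37), (42, 43), (42, 44), (37, 40), (37, 44), (39, 43), (39, 40), (39, 44), (43, 40), (43, 44),
      (40, 44), (56, 36), (56, 37), (36, 42), (57, 42), (57, 37), (57, 36), (38, 56), (38, 42), (38, 37),
      (57, 38)] : List (ℕ × ℕ)), p.1 < 72 ∧ p.2 < 72 ∧ PairData.evB chevE6 p.1 p.2 = true) := by
  decide +kernel

theorem hts6 : (∀ s ∈ ([56, 46, 42, 39, 37, 36] : List ℕ), s < chevE6.nroots ∧ ht chevE6 s = 1) ∧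
    (∀ s ∈ ([57, 43, 40, 38] : List ℕ), s < chevE6.nroots ∧ ht chevE6 s = 2) ∧
    (44 < chevE6.nroots ∧ ht chevE6 44 = 3) ∧
    (∀ s ∈ l35, 2 ≤ ht chevE6 s → s ∈ ([43, 40, 44] : List ℕ)) ∧
    (∀ s ∈ l16, 2 ≤ ht chevE6 s → s ∈ ([57, 38] : List ℕ)) := by decide +kernel

theorem moves6 : [42, 37, 43, 40, 44].map (actW chevE6 [3]) = [43, 40, 42, 37, 44] ∧
    [43, 40, 44].map (actW chevE6 [2, 4]) = [40, 43, 39] ∧
    [56, 36].map (actW chevE6 [0, 5, 2, 4]) = [42, 37] := by decide +kernel

/-- The functionals of the states. -/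
def phi1 : List (List ℤ) := [[0, 1, 0, 0, 0, 0]]

/-- The functionals of the third state. -/
def phi2 : List (List ℤ) := [[1, 0, 0, 0, 0, 0], [0, 1, 0, 0, 0, 0], [0, 0, 0, 0, 0, 1]]

/-- The functionals of the fourth state. -/
def phi3 : List (List ℤ) :=
  [[1, 0, 0, 0, 0, 0], [0, 1, 0, 0, 0, 0], [0, 0, 0, 0, 0, 1], [0, 0, 1, 0, 0, 0], [0, 0, 0, 0, 1, 0]]

/-- The functionals of the last state. -/
def phi4 : List (List ℤ) :=
  [[1, 0, 0, 0, 0, 0], [0, 1, 0, 0, 0, 0], [0, 0, 0, 0, 0, 1], [0, 0, 1, 0, 0, 0], [0, 0, 0, 0, 1, 0],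
    [0, 0, 0, 1, 0, 0]]

/-- The pivot at the middle root of the whole system. -/
def piv0a : Piv6 :=
  ⟨⟨[], 39, [2, 3, 3, 0, 3, 2], [0, -1, -1, 2, -1, 0],
    [(40, 37), (41, 38), (43, 42), (47, 46), (53, 51), (54, 52), (58, 57), (64, 62), (65, 63), (70, 69)],
    [(37, 40), (38, 41), (42, 43), (46, 47), (51, 53), (52, 54), (57, 58), (62, 64), (63, 65), (69, 70)], 22⟩,
    [[1], [3], [2, 4], [0, 5], [3], [2, 4], [1]], phi1, [71]⟩

/-- The pivot at the other fixed root of the whole system. -/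
def piv0b : Piv6 :=
  ⟨⟨[], 46, [2, 0, 2, 3, 2, 2], [0, 2, 0, -1, 0, 0],
    [(47, 39), (48, 40), (49, 41), (50, 43), (51, 44), (52, 45), (61, 58), (62, 59), (63, 60), (71, 70)],
    [(39, 47), (40, 48), (41, 49), (43, 50), (44, 51), (45, 52), (58, 61), (59, 62), (60, 63), (70, 71)], 21⟩,
    [[1], [3], [2, 4], [0, 5], [3], [2, 4], [3]], phi1, [71]⟩

/-- The pivot of the second state. -/
def piv1 : Piv6 :=
  ⟨⟨phi1, 39, [2, 3, 3, 0, 3, 2], [0, -1, -1, 2, -1, 0], [(40, 37), (41, 38), (43, 42), (58, 57)],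
    [(37, 40), (38, 41), (42, 43), (57, 58)], 10⟩, [[0, 5], [2, 4]], phi2, [71, 60]⟩

/-- The pivot of the third state. -/
def piv2 : Piv6 :=
  ⟨⟨phi2, 39, [2, 3, 3, 0, 3, 2], [0, -1, -1, 2, -1, 0], [(40, 37), (43, 42)],
    [(37, 40), (42, 43)], 6⟩, [[2, 4]], phi3, [71, 60, 44]⟩

/-- The pivot of the fourth state. -/
def piv3 : Piv6 :=
  ⟨⟨phi3, 39, [2, 3, 3, 0, 3, 2], [0, -1, -1, 2, -1, 0], [], [], 1⟩, [], phi4, [71, 60, 44, 39]⟩

theorem piv0a_ok : pivB [] [] piv0a = true := by decide +kernel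

theorem piv0b_ok : pivB [] [] piv0b = true := by decide +kernel

theorem piv1_ok : pivB phi1 [71] piv1 = true := by decide +kernel

theorem piv2_ok : pivB phi2 [71, 60] piv2 = true := by decide +kernel

theorem piv3_ok : pivB phi3 [71, 60, 44] piv3 = true := by decide +kernel

theorem state0_ok : stateB6 [] [] orbs6 = true := by decide +kernel

theorem state1_ok : stateB6 phi1 [71] [[3], [2, 4], [0, 5]] = true := by decide +kernel

theorem state2_ok : stateB6 phi2 [71, 60] [[3], [2, 4]] = true := by decide +kernel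

theorem state3_ok : stateB6 phi3 [71, 60, 44] [[3]] = true := by decide +kernel

/-- The moves available in a subsystem. -/
noncomputable def mixesB (Φ : List (List ℤ)) (K : List ℕ) : Bool :=
  (!inS chevE6 Φ 42 || mixB l35 [[3], [2, 4]] Φ K) && (!inS chevE6 Φ 56 || mixB l16 [[0, 5], [2, 4]] Φ K)

theorem mixes0 : mixesB [] [] = true := by decide +kernel

theorem mixes1 : mixesB phi1 [71] = true := by decide +kernel

theorem mixes2 : mixesB phi2 [71, 60] = true := by decide +kernel

theorem mixes3 : mixesB phi3 [71, 60, 44] = true := by decide +kernel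

theorem sList4_nil : sList6 phi4 = [] := by decide +kernel

theorem four_roots : sortW chevE6 (CTab.std chevE6) 40 ([53, 63, 51, 47] ++ [71, 60, 44, 39] ++ [47, 51, 63, 53]) =
      sortW chevE6 (CTab.std chevE6) 40 [39, 44, 60] ∧
    sortW chevE6 (CTab.std chevE6) 40 ([39, 44, 60].map (actW chevE6 [2, 4, 0, 5, 1, 3, 2, 4, 3, 1])) =
      sortW chevE6 (CTab.std chevE6) 40 [71, 60, 44] := by decide +kernel

end Cfsg.Agent.Chev54
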