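import Cfsg.Agent.Twisted.Groups.E6Inst
import Cfsg.Agent.Twisted.Transfer
import Cfsg.Agent.Chev54.TrialityData

/-!
The twisted group of type E6 inside the Chevalley group, seen through root elements in the general linear group.
-/

set_option autoImplicit false
set_option maxRecDepth 4000

namespace Cfsg.Agent.Chev54

open Cfsg.Lie Cfsg.Agent.ChevCore Cfsg.Agent.ChevGroup

/-- The symmetry on the roots of type E6. -/
def rho6 (r : ℕ) : ℕ :=
  ([0, 1, 2, 5, 16, 3, 6, 17, 8, 19, 22, 11, 26, 30, 33, 35, 4, 7, 18, 9, 20, 23, 10, 21, 24,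
    25, 12, 27, 31, 34, 13, 28, 32, 14, 29, 15, 56, 42, 57, 39, 43, 58, 37, 40, 44, 59, 46, 47,
    50, 61, 48, 51, 62, 53, 64, 67, 36, 38, 41, 45, 60, 49, 52, 63, 54, 65, 68, 55, 66, 69, 70,
    71] : List ℕ).getD r r

/-- The orbit words of the simple roots. -/
def orbs6 : List (List ℕ) := [[1], [3], [2, 4], [0, 5]]

/-- What the proofs use about a twisted group `S` of type E6 with the endomorphism `sg`. -/
structure Tw6 (F : Type*) [Field F] (q : ℕ) (S : Subgroup (GL chevE6.Idx F))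
    (sg : GL chevE6.Idx F → GL chevE6.Idx F) : Prop where
  le : S ≤ chevE6.group F
  sg_mul : ∀ a ∈ chevE6.group F, ∀ b ∈ chevE6.group F, sg (a * b) = sg a * sg b
  sg_x : ∀ r < 72, ∀ t : F, sg (xg chevE6 F r t) = xg chevE6 F (rho6 r) (t ^ q)
  fix : ∀ g ∈ S, sg g = g
  full : ∀ g ∈ XS chevE6 F (htGe chevE6 1), sg g = g → g ∈ S
  weyl : ∀ w ∈ orbs6, nw chevE6 F w ∈ S
  torus : ∀ r < 72, rho6 r = r → ∀ s : F, s ≠ 0 → s ^ q = s → hg chevE6 F r s ∈ S
  add : ∀ a b : F, (a + b) ^ q = a ^ q + b ^ q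
  per : ∀ a : F, (a ^ q) ^ q = a
  pos : 0 < q
  split : ∃ θ : F, θ + θ ^ q = 1
  sylow : ∀ g ∈ S, orderOf g = 2 → ∃ x ∈ S, x * g * x⁻¹ ∈ XS chevE6 F (htGe chevE6 1)

open Twisted in
/-- The data for the twisted group of the statement. -/
theorem exists_tw6 {F : Type*} [Field F] [Fintype F] [CharP F 2] {q : ℕ} (hK : Fintype.card F = q ^ 2) :
    ∃ sg, Tw6 F q (twistedE6 F q) sg := by
  classical
  haveI : Fact (Nat.Prime 2) := ⟨Nat.prime_two⟩
  obtain ⟨n, -, hn⟩ := FiniteField.card F 2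
  obtain ⟨k, -, rfl⟩ : ∃ k ≤ (n : ℕ), q = 2 ^ k :=
    (Nat.dvd_prime_pow Nat.prime_two).1 (hn ▸ hK ▸ dvd_pow_self q (by norm_num))
  have hk : k ≠ 0 := by
    rintro rfl
    have := Fintype.one_lt_card (α := F)
    simp [hK] at this
  have hq : IsPrimePow (2 ^ k) := ⟨2, k, Nat.prime_two.prime, Nat.pos_of_ne_zero hk, rfl⟩
  have h2q : 2 ∣ 2 ^ k := dvd_pow_self 2 hk
  set q := 2 ^ k with hqdef
  have hU := uGoodE6
  have hG := hU.toCommGood.toGood
  have Z := TypeE6.frame₀ (F := F) hq hK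
  have X := TypeE6.gens Z hq hK
  obtain ⟨hadd, hint, hper⟩ := qpow_hom hq hK
  have hS : twistedE6 F q =
      (genG TypeE6.MT (relsOfCommGood ChevCore.commGoodE6 F) (e6Words F q)).map (chevE6.group F).subtype :=
    (genG_map (T := TypeE6.MT) (K := relsOfCommGood ChevCore.commGoodE6 F) _).symm
  have hx : ∀ (r : Fin TypeE6.MT.tab.n) (t : F),
      (((TypeE6.MT.rel (relsOfCommGood ChevCore.commGoodE6 F)).x r t : ↥(chevE6.group F)) : GL chevE6.Idx F) =
        xg chevE6 F r.val t :=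
    fun r t => Units.ext (by rw [hG.val_xg]; rfl)
  have hmem : ∀ (g : ↥(chevE6.group F)),
      g ∈ genG TypeE6.MT (relsOfCommGood ChevCore.commGoodE6 F) (e6Words F q) →
      (g : GL chevE6.Idx F) ∈ twistedE6 F q := fun g hg => hS ▸ ⟨g, hg, rfl⟩
  have hUmap : ((TypeE6.MT).rel (relsOfCommGood ChevCore.commGoodE6 F)).U.map (chevE6.group F).subtype =
      XS chevE6 F (htGe chevE6 1) := by
    rw [Model.U_map, hG.posUnipotent_eq]
  have hdat : ∀ r : Fin 72, (TypeE6.fd.O.rho r).val = rho6 r.val ∧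
      ¬ (2 : ℤ) ∣ TypeE6.PP.ef r.val ∧ ChevIsogeny.IsoData.lf TypeE6.PP r.val = 1 := by decide +kernel
  have hneg : ∀ t : F, t = 1 → (-t⁻¹) = 1 := fun t ht => by rw [ht, inv_one, CharTwo.neg_eq]
  refine ⟨fun g => if h : g ∈ chevE6.group F then ((Z.σ ⟨g, h⟩ : ↥(chevE6.group F)) : GL chevE6.Idx F) else 1,
    ?_, ?_, ?_, ?_, ?_, ?_, ?_, hadd, fun a => by rw [← pow_mul, ← pow_two]; exact hper a, hq.pos, ?_, ?_⟩
  · rw [hS]
    rintro _ ⟨g, -, rfl⟩
    exact g.2
  · intro a ha b hb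
    rw [dif_pos (mul_mem ha hb), dif_pos ha, dif_pos hb, ← Subgroup.coe_mul, ← map_mul]
    rfl
  · intro r hr t
    rw [dif_pos (hG.xg_mem_group r t)]
    let r' : Fin TypeE6.MT.tab.n := ⟨r, hr⟩
    rw [show (⟨xg chevE6 F r t, hG.xg_mem_group r t⟩ : ↥(chevE6.group F)) =
      (TypeE6.MT.rel (relsOfCommGood ChevCore.commGoodE6 F)).x r' t from Subtype.ext (hx r' t).symm, Z.σ_x, hx]
    obtain ⟨h1, h2, h3⟩ := hdat r'
    have h1' : (TypeE6.fd.O.rho r').val = rho6 r := h1
    rw [cast_odd h2, one_mul, h1', show ChevIsogeny.IsoHyp.lam TypeE6.PP q r'.val =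
      ChevIsogeny.IsoData.lf TypeE6.PP r'.val * q from rfl, h3, one_mul]
  · intro g hg
    rw [hS] at hg
    obtain ⟨g, hg, rfl⟩ := hg
    rw [dif_pos (show (chevE6.group F).subtype g ∈ chevE6.group F from g.2)]
    exact congrArg (fun y : ↥(chevE6.group F) => (y : GL chevE6.Idx F)) (X.fixed g hg)
  · intro g hg hfix
    rw [← hUmap] at hg
    obtain ⟨g, hg, rfl⟩ := hg
    rw [dif_pos (show (chevE6.group F).subtype g ∈ chevE6.group F from g.2)] at hfix
    have := X.data.mem_U1_of_fixed (TypeE6.MT.shapeR _) (X.longest TypeE6.long_ok) hg (Subtype.ext hfix)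
    exact hmem g this.1
  · intro w hw
    obtain ⟨p1, p2, p3, p4⟩ := TypeE6.pair_ok
    have e25 : (TypeE6.MT.S).neg (46 : Fin TypeE6.MT.tab.n) = 25 := Fin.ext rfl
    have e32 : (TypeE6.MT.S).neg (39 : Fin TypeE6.MT.tab.n) = 32 := Fin.ext rfl
    have e29 : (TypeE6.MT.S).neg (42 : Fin TypeE6.MT.tab.n) = 29 := Fin.ext rfl
    have e34 : (TypeE6.MT.S).neg (37 : Fin TypeE6.MT.tab.n) = 34 := Fin.ext rfl
    have e15 : (TypeE6.MT.S).neg (56 : Fin TypeE6.MT.tab.n) = 15 := Fin.ext rfl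
    have e35 : (TypeE6.MT.S).neg (36 : Fin TypeE6.MT.tab.n) = 35 := Fin.ext rfl
    simp only [orbs6, List.mem_cons, List.not_mem_nil, or_false] at hw
    rcases hw with rfl | rfl | rfl | rfl
    · have h := Z.nprod_mem p1 (fun _ => (1 : F))
        (by simpa using TypeE6.one_mem_G Z (r := 46) (t := (1 : F)) (by decide) (one_pow q))
        (by simpa [e25, CharTwo.neg_eq] using TypeE6.one_mem_G Z (r := 25) (t := (1 : F)) (by decide) (one_pow q))
      refine cast ?_ (hmem _ h)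
      congr 1
      simp only [List.map_cons, List.map_nil, List.prod_cons, List.prod_nil, mul_one, RootRel.nr, nOf,
        Subgroup.coe_mul, hx, nw, ng]
      rfl
    · have h := Z.nprod_mem p2 (fun _ => (1 : F))
        (by simpa using TypeE6.one_mem_G Z (r := 39) (t := (1 : F)) (by decide) (one_pow q))
        (by simpa [e32, CharTwo.neg_eq] using TypeE6.one_mem_G Z (r := 32) (t := (1 : F)) (by decide) (one_pow q))
      refine cast ?_ (hmem _ h)
      congr 1
      simp only [List.map_cons, List.map_nil, List.prod_cons, List.prod_nil, mul_one, RootRel.nr, nOf,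
        Subgroup.coe_mul, hx, nw, ng]
      rfl
    · have h := Z.nprod_mem p3 (fun _ => (1 : F))
        (by simpa [prodX, TypeE6.duo] using TypeE6.pair_mem_G Z (p := (42, 37)) (by decide) (1 : F))
        (by simpa [prodX, TypeE6.duo, e29, e34, CharTwo.neg_eq] using
          TypeE6.pair_mem_G Z (p := (29, 34)) (by decide) (1 : F))
      refine cast ?_ (hmem _ h)
      congr 1
      simp only [List.map_cons, List.map_nil, List.prod_cons, List.prod_nil, mul_one, RootRel.nr, nOf,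
        Subgroup.coe_mul, hx, nw, ng]
      rfl
    · have h := Z.nprod_mem p4 (fun _ => (1 : F))
        (by simpa [prodX, TypeE6.duo] using TypeE6.pair_mem_G Z (p := (56, 36)) (by decide) (1 : F))
        (by simpa [prodX, TypeE6.duo, e15, e35, CharTwo.neg_eq] using
          TypeE6.pair_mem_G Z (p := (15, 35)) (by decide) (1 : F))
      refine cast ?_ (hmem _ h)
      congr 1
      simp only [List.map_cons, List.map_nil, List.prod_cons, List.prod_nil, mul_one, RootRel.nr, nOf,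
        Subgroup.coe_mul, hx, nw, ng]
      rfl
  · intro r hr hrr s hs hsq
    let r' : Fin TypeE6.MT.tab.n := ⟨r, hr⟩
    obtain ⟨h1, h2, h3⟩ := hdat r'
    have hrho : TypeE6.fd.O.rho r' = r' := Fin.ext (h1.trans hrr)
    have hn : ∀ c : F, c ^ q = c → Z.σ ((TypeE6.MT.rel (relsOfCommGood ChevCore.commGoodE6 F)).nr r' c) =
        (TypeE6.MT.rel (relsOfCommGood ChevCore.commGoodE6 F)).nr r' c := by
      intro c hc
      rw [Z.σ_nr, hrho, cast_odd h2, one_mul, show ChevIsogeny.IsoHyp.lam TypeE6.PP q r'.val =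
        ChevIsogeny.IsoData.lf TypeE6.PP r'.val * q from rfl, h3, one_mul, hc]
    have h := X.full_H _ ((TypeE6.MT.rel (relsOfCommGood ChevCore.commGoodE6 F)).hr_mem_H (r := r') hs) (by
      simp only [RootRel.hr, hOf]
      rw [map_mul]
      exact congrArg₂ (· * ·) (hn s hsq) (hn (-1) (by rw [CharTwo.neg_eq, one_pow])))
    refine cast ?_ (hmem _ h)
    congr 1
    simp only [RootRel.hr, hOf, nOf, Subgroup.coe_mul, hx, ChevCore.hg, ng]
    rw [TypeE6.MT.neg_eq]
  · -- an element of trace one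
    obtain ⟨a, ha⟩ : ∃ a : F, a + a ^ q ≠ 0 := by
      by_contra hcon
      push Not at hcon
      have hc := card_fixed_pow (F := F) hq.one_lt hK
      rw [Nat.card_congr (Equiv.subtypeUnivEquiv fun x => (CharTwo.add_eq_zero.1 (hcon x)).symm),
        Nat.card_eq_fintype_card, hK] at hc
      exact absurd hc (Nat.ne_of_gt (by nlinarith [hq.two_le]))
    refine ⟨a / (a + a ^ q), ?_⟩
    rw [div_pow, hadd a (a ^ q), ← pow_mul, show q * q = q ^ 2 by ring, hper a, add_comm (a ^ q) a, ← add_div,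
      div_self ha]
  · intro g hg hord
    have hcard := TypeE6.card_G Z hq hK
    have hcU := TypeE6.card_U Z hq hK
    set P := (chevE6.posUnipotent F).subgroupOf (twistedE6 F q)
    have hP : Nat.card P = q ^ 36 := by
      rw [← hcU, ← Subgroup.card_map_of_injective (f := (twistedE6 F q).subtype)
        (K := P) Subtype.coe_injective, Subgroup.subgroupOf_map_subtype]
    have hodd : Odd P.index := by
      have hev : ∀ m, m ≠ 0 → Even (q ^ m) := fun m hm => (Nat.even_pow' hm).2 (even_iff_two_dvd.2 h2q)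
      have hidx : Nat.gcd 3 (q + 1) * P.index =
          (q ^ 2 - 1) * (q ^ 5 + 1) * (q ^ 6 - 1) * (q ^ 8 - 1) * (q ^ 9 + 1) * (q ^ 12 - 1) := by
        refine Nat.eq_of_mul_eq_mul_left (pow_pos hq.pos 36) ?_
        rw [mul_left_comm]
        nth_rw 1 [← hP]
        rw [Subgroup.card_mul_index, hcard]
        ring
      have hm : ∀ m, m ≠ 0 → Odd (q ^ m - 1) := fun m hm =>
        Nat.Even.sub_odd (Nat.one_le_pow _ _ hq.pos) (hev m hm) odd_one
      have hp : ∀ m, m ≠ 0 → Odd (q ^ m + 1) := fun m hm => (hev m hm).add_one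
      refine (Nat.odd_mul.1 (show Odd (Nat.gcd 3 (q + 1) * P.index) from ?_)).2
      rw [hidx]
      exact (((((hm 2 (by norm_num)).mul (hp 5 (by norm_num))).mul (hm 6 (by norm_num))).mul
        (hm 8 (by norm_num))).mul (hp 9 (by norm_num))).mul (hm 12 (by norm_num))
    obtain ⟨x, hx'⟩ := conj_into_two (m := k * 36) (hP.trans (by rw [hqdef, ← pow_mul])) hodd
      (g := (⟨g, hg⟩ : ↥(twistedE6 F q))) (by
        rw [← hord]; exact (orderOf_injective (twistedE6 F q).subtype Subtype.coe_injective ⟨g, hg⟩).symm)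
    refine ⟨x, x.2, ?_⟩
    rw [← hG.posUnipotent_eq]
    exact hx'

end Cfsg.Agent.Chev54
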