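import Cfsg.Agent.Chev54.TwistE6Move

/-!
Every involution of the twisted group of type E6 in characteristic two is conjugate to one of three elements.
-/

set_option autoImplicit false

namespace Cfsg.Agent.Chev54

open Cfsg.Lie Cfsg.Agent.ChevCore Cfsg.Agent.ChevGroup

variable {F : Type*} [Field F] [CharP F 2]

local notation "x_" => xg chevE6 F

variable {q : ℕ} {S : Subgroup (GL chevE6.Idx F)} {sg : GL chevE6.Idx F → GL chevE6.Idx F}
  (T : Tw6 F q S sg)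
include T

/-- An involution of a subsystem in the twisted group. -/
def Inv6 (_ : Tw6 F q S sg) (Φ : List (List ℤ)) (v : GL chevE6.Idx F) : Prop :=
  v ∈ S ∧ v ∈ XS chevE6 F (sSet6 Φ) ∧ v * v = 1

omit [CharP F 2] in
lemma Inv6.conj {Φ : List (List ℤ)} {v g : GL chevE6.Idx F} (hv : Inv6 T Φ v) (hg : g ∈ S)
    (hgv : g * v * g⁻¹ ∈ XS chevE6 F (sSet6 Φ)) : Inv6 T Φ (g * v * g⁻¹) :=
  ⟨mul_mem (mul_mem hg hv.1) (inv_mem hg), hgv, by
    rw [show g * v * g⁻¹ * (g * v * g⁻¹) = g * (v * v) * g⁻¹ by group, hv.2.2]; group⟩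

/-- Moving an element down to a simple root of the first layer. -/
theorem climb6 {Φ : List (List ℤ)} {K : List ℕ} {os : List (List ℕ)} (hB : stateB6 Φ K os = true) :
    ∀ (m : ℕ) {v : GL chevE6.Idx F}, Inv6 T Φ v → v ∉ U6 F ((m : ℤ) + 1) →
    ∃ g, Adm S K g ∧ Inv6 T Φ (g * v * g⁻¹) ∧ ∃ d, Vec 1 (g * v * g⁻¹) d ∧
      ∃ s ∈ ([56, 46, 42, 39, 37, 36] : List ℕ), d s ≠ 0 := by
  have hU := uGoodE6
  have hG := hU.toCommGood.toGood
  have hB' := hB
  simp only [stateB6, Bool.and_eq_true, List.all_eq_true, decide_eq_true_eq, Bool.or_eq_true, List.any_eq_true,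
    List.mem_range] at hB'
  obtain ⟨⟨hK, hos⟩, hclimb⟩ := hB'
  have hS := fok_sSet hU Φ
  intro m
  induction m using Nat.strong_induction_on with
  | _ m ih =>
  intro v hv hvm
  cases m with
  | zero => exact absurd (u6_mono (by norm_num) (sSet6_le_U Φ hv.2.1)) hvm
  | succ m =>
  by_cases hlow : v ∉ U6 F ((m : ℤ) + 1)
  · exact ih m (by omega) hv hlow
  push Not at hlow
  obtain ⟨d, hd⟩ := exists_vec hU (by omega) hlow
  obtain ⟨q₀, hq₀⟩ : ∃ s, d s ≠ 0 := by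
    by_contra hcon
    push Not at hcon
    obtain rfl : d = fun _ => 0 := funext hcon
    have h := hd.2
    rw [prodL_zero hU, inv_one, one_mul] at h
    exact hvm (u6_mono (by push_cast; omega) h)
  have hqS : q₀ ∈ sSet6 Φ := vec_in hU hS (by omega) hv.2.1 hd hq₀
  have hqh : ht chevE6 q₀ = (m : ℤ) + 1 := (hd.1 q₀ hq₀).2
  cases m with
  | zero =>
    refine ⟨1, ⟨one_mem _, by group⟩, by simpa using hv, d, by simpa using hd, q₀, ?_, hq₀⟩
    rcases hclimb q₀ (mem_sList6.2 hqS) with h | ⟨o, ho, h⟩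
    · exact h.2
    · have key : ∀ s ∈ sList6 ([] : List (List ℤ)), ht chevE6 s = 1 → s ∈ ([56, 46, 42, 39, 37, 36] : List ℕ) := by
        decide +kernel
      refine key q₀ (mem_sList6.2 (show inS chevE6 [] q₀ = true from inS_iff.2 ⟨(inS_iff.1 hqS).1,
        (inS_iff.1 hqS).2.1, by simp⟩)) ?_
      simpa using hqh
  | succ m =>
  obtain ⟨o, ho, hlt⟩ := (hclimb q₀ (mem_sList6.2 hqS)).resolve_left fun h => by
    have := h.1
    push_cast at hqh
    omega
  obtain ⟨⟨⟨hoO, hoK⟩, hlin⟩, hstay⟩ := hos o ho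
  have ho6 : ∀ i ∈ o, i < chevE6.rank := fun i hi => rank_E6.symm ▸ orb_lt hoO i hi
  set n := nw chevE6 F o with hn
  set h₁ := ht chevE6 (actW chevE6 o q₀) with hh₁
  have hq72 := (sSet6_lt hqS).1
  have hact : actW chevE6 o q₀ ∈ sSet6 Φ := (hstay q₀ (mem_sList6.2 hqS)).resolve_left (by
    push_cast at hqh
    omega)
  have h₁1 : 1 ≤ h₁ := (sSet6_lt hact).2
  have hv2 : v ∈ XS chevE6 F (cf (sSet6 Φ) (ht chevE6) 2) :=
    mem_U_inter hU hS (by norm_num) hv.2.1 (u6_mono (by push_cast; omega) hlow)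
  have hv' : n * v * n⁻¹ ∈ XS chevE6 F (sSet6 Φ) :=
    nw_conj_mem hG ho6 (fun s _ hs => (hstay s (mem_sList6.2 hs.1)).resolve_left (by
      have := hs.2
      omega)) hv2
  have hnot : n * v * n⁻¹ ∉ U6 F (((h₁.toNat : ℕ) : ℤ) + 1) := by
    intro hin
    rw [show ((h₁.toNat : ℕ) : ℤ) = h₁ by omega] at hin
    have h1 := mem_U_inter hU hS (by omega) hv' hin
    have h2 := nw_conj_mem hG ho6 (T := {s | s ∈ sSet6 Φ ∧ h₁ + 1 ≤ lin chevE6 (phiOf o) s})
      (fun s hs hsC => by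
        have hs72 : s < 72 := nroots_E6 ▸ hs
        refine ⟨(hstay s (mem_sList6.2 hsC.1)).resolve_left (by have := hsC.2; omega), ?_⟩
        rw [(hlin _ (nroots_E6 ▸ hG.actW_lt ho6 hs)).1, (hlin s hs72).2]
        exact hsC.2) h1
    have hnn : n * (n * v * n⁻¹) * n⁻¹ = v := by
      have : ∀ y ∈ XS chevE6 F (sSet6 Φ), n * (n * y * n⁻¹) * n⁻¹ = y := by
        intro y hy
        induction hy using Subgroup.closure_induction with
        | mem z hz =>
          obtain ⟨r, t, hr, -, rfl⟩ := hz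
          have hr72 : r < 72 := nroots_E6 ▸ hr
          rw [hn, word_conj6 (orb_lt hoO) hr72, word_conj6 (orb_lt hoO) (nroots_E6 ▸ hG.actW_lt ho6 hr),
            (hlin r hr72).2]
        | one => simp
        | mul a b _ _ ha hb =>
          calc n * (n * (a * b) * n⁻¹) * n⁻¹ = (n * (n * a * n⁻¹) * n⁻¹) * (n * (n * b * n⁻¹) * n⁻¹) := by group
            _ = _ := by rw [ha, hb]
        | inv a _ ha =>
          calc n * (n * a⁻¹ * n⁻¹) * n⁻¹ = (n * (n * a * n⁻¹) * n⁻¹)⁻¹ := by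
                simp only [mul_inv_rev, inv_inv, mul_assoc]
            _ = _ := by rw [ha]
      exact this v hv.2.1
    rw [hnn] at h2
    have hC : FOK chevE6 {s | s ∈ sSet6 Φ ∧ h₁ + 1 ≤ lin chevE6 (phiOf o) s} (ht chevE6) := by
      refine ⟨fun s hs => hS.pos s hs.1, fun a ha b hb c hc => ?_⟩
      obtain ⟨-, h3, h4, h5, -⟩ := lin_term hG (phiOf o) (hS.pos a ha.1).1 (hS.pos b hb.1).1 hc
      obtain ⟨h6, h7⟩ := hS.closed a ha.1 b hb.1 c hc
      refine ⟨⟨h6, ?_⟩, h7⟩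
      rw [h5]
      have := ha.2
      have := hb.2
      nlinarith
    have h3 := (vec_in hU hC (by omega) h2 hd hq₀).2
    rw [(hlin q₀ hq72).1] at h3
    omega
  have hnS : n ∈ S := T.weyl o hoO
  have hadm : Adm S K n := by
    have := adm_word T (fun k hk => (hK k hk).1.1.1) (bs := [o]) (by simpa using hoO)
      (fun k hk => by simpa using hoK k hk)
    simpa using this
  obtain ⟨g, hg, hg', res⟩ := ih h₁.toNat (by
    push_cast at hqh
    omega) (hv.conj T hnS hv') hnot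
  have e : g * (n * v * n⁻¹) * g⁻¹ = (g * n) * v * (g * n)⁻¹ := by group
  rw [e] at hg' res
  exact ⟨g * n, hg.mul hadm, hg', res⟩

variable [Finite F]

/-- Moving an element to one with a fixed simple root in its first layer. -/
theorem to_pivot6 {Φ : List (List ℤ)} {K : List ℕ} {os : List (List ℕ)} (hB : stateB6 Φ K os = true)
    (hM : mixesB Φ K = true) {v : GL chevE6.Idx F} (hv : Inv6 T Φ v) (hv1 : v ≠ 1) :
    ∃ g, Adm S K g ∧ Inv6 T Φ (g * v * g⁻¹) ∧ ∃ d, Vec 1 (g * v * g⁻¹) d ∧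
      ∃ s ∈ ([46, 39] : List ℕ), d s ≠ 0 := by
  have hU := uGoodE6
  have hK : ∀ k ∈ K, k < 72 := fun k hk => by
    simp only [stateB6, Bool.and_eq_true, List.all_eq_true, decide_eq_true_eq] at hB
    exact (hB.1.1 k hk).1.1.1
  simp only [mixesB, Bool.and_eq_true, Bool.or_eq_true, Bool.not_eq_true'] at hM
  obtain ⟨g, hg, hv1', d, hd, s, hs, hds⟩ := climb6 T hB (maxHt chevE6).toNat hv (by
    show v ∉ XS chevE6 F (htGe chevE6 _)
    rw [hU.htGe_eq_bot (by omega), Subgroup.mem_bot]; exact hv1)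
  have from42 : ∀ {w : GL chevE6.Idx F}, Inv6 T Φ w → ∀ {e : ℕ → F}, Vec 1 w e → e 42 ≠ 0 →
      ∃ g, Adm S K g ∧ Inv6 T Φ (g * w * g⁻¹) ∧ ∃ d, Vec 1 (g * w * g⁻¹) d ∧
        ∃ s ∈ ([46, 39] : List ℕ), d s ≠ 0 := by
    intro w hw e he h42
    by_cases h39 : e 39 = 0
    · have hin : inS chevE6 Φ 42 = true := vec_in hU (fok_sSet hU Φ) le_rfl hw.2.1 he h42
      obtain ⟨g, hg, hgX, d', hd', h⟩ :=
        mix35 T hK (hM.1.resolve_left (by simp [hin])) hw.1 hw.2.1 hw.2.2 he h39 h42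
      exact ⟨g, hg, hw.conj T hg.1 hgX, d', hd', 39, by simp, h⟩
    · exact ⟨1, ⟨one_mem _, by group⟩, by simpa using hw, e, by simpa using he, 39, by simp, h39⟩
  have comp : ∀ {g' : GL chevE6.Idx F}, Adm S K g' → ∀ {g'' : GL chevE6.Idx F}, Adm S K g'' →
      (Inv6 T Φ (g'' * (g' * v * g'⁻¹) * g''⁻¹) ∧ ∃ d, Vec 1 (g'' * (g' * v * g'⁻¹) * g''⁻¹) d ∧
        ∃ s ∈ ([46, 39] : List ℕ), d s ≠ 0) →
      ∃ g, Adm S K g ∧ Inv6 T Φ (g * v * g⁻¹) ∧ ∃ d, Vec 1 (g * v * g⁻¹) d ∧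
        ∃ s ∈ ([46, 39] : List ℕ), d s ≠ 0 := by
    intro g' h' g'' h'' h
    refine ⟨g'' * g', h''.mul h', ?_⟩
    rwa [show g'' * g' * v * (g'' * g')⁻¹ = g'' * (g' * v * g'⁻¹) * g''⁻¹ by group]
  by_cases h4 : d 46 = 0 ∧ d 39 = 0
  · by_cases h42 : d 42 = 0
    · have hfix := T.fix _ hv1'.1
      have h56 : d 56 ≠ 0 := by
        intro h56
        have h36 := vec6_equiv T le_rfl hfix hd (r := 56) (by norm_num)
        have h37 := vec6_equiv T le_rfl hfix hd (r := 42) (by norm_num)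
        rw [h56, zero_pow T.pos.ne'] at h36
        rw [h42, zero_pow T.pos.ne'] at h37
        simp only [List.mem_cons, List.not_mem_nil, or_false] at hs
        rcases hs with rfl | rfl | rfl | rfl | rfl | rfl
        exacts [hds h56, hds h4.1, hds h42, hds h4.2, hds h37, hds h36]
      have hin : inS chevE6 Φ 56 = true := vec_in hU (fok_sSet hU Φ) le_rfl hv1'.2.1 hd h56
      obtain ⟨g2, hg2, hgX, d2, hd2, h2⟩ :=
        mix16 T hK (hM.2.resolve_left (by simp [hin])) hv1'.1 hv1'.2.1 hv1'.2.2 hd h42 h56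
      obtain ⟨g3, hg3, res⟩ := from42 (hv1'.conj T hg2.1 hgX) hd2 h2
      exact comp hg (hg3.mul hg2) (by
        rwa [show g3 * g2 * (g * v * g⁻¹) * (g3 * g2)⁻¹ = g3 * (g2 * (g * v * g⁻¹) * g2⁻¹) * g3⁻¹ by group])
    · obtain ⟨g3, hg3, res⟩ := from42 hv1' hd h42
      exact comp hg hg3 res
  · simp only [not_and_or] at h4
    rcases h4 with h | h
    · exact ⟨g, hg, hv1', d, hd, 46, by simp, h⟩
    · exact ⟨g, hg, hv1', d, hd, 39, by simp, h⟩

/-- Splitting off a pivot and passing to the next state. -/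
theorem next6 {Φ : List (List ℤ)} {K : List ℕ} {os : List (List ℕ)} (hB : stateB6 Φ K os = true) {p : Piv6}
    (hP : pivB Φ K p = true) {v : GL chevE6.Idx F} (hv : Inv6 T Φ v) {d : ℕ → F} (hd : Vec 1 v d)
    (hr : d p.X.r ≠ 0) (hr1 : ht chevE6 p.X.r = 1) :
    ∃ z, Inv6 T p.Φ' z ∧ CjS S (w1 chevE6 F K * v) (w1 chevE6 F p.K' * z) := by
  have hU := uGoodE6
  have hC := hU.toCommGood
  have hG := hC.toGood
  simp only [stateB6, Bool.and_eq_true, List.all_eq_true, decide_eq_true_eq] at hB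
  obtain ⟨⟨hK, -⟩, -⟩ := hB
  simp only [pivB, Bool.and_eq_true, List.all_eq_true, decide_eq_true_eq, Bool.or_eq_true, Bool.not_eq_true',
    decide_eq_false_iff_not] at hP
  obtain ⟨⟨⟨⟨⟨⟨⟨hΦ, hchk⟩, hfixB⟩, hbs⟩, hKw⟩, hrr⟩, hK'⟩, hZ⟩ := hP
  have hX := stepOK hchk
  have hr0 := (inS_iff.1 hX.r_mem).1
  have hr72 : p.X.r < 72 := nroots_E6 ▸ hr0
  have hrho : rho6 p.X.r = p.X.r := by
    simp only [fixB, Bool.and_eq_true, decide_eq_true_eq] at hfixB
    exact hfixB.1.1.1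
  obtain ⟨c, w, hw, rfl⟩ := split_pivot hU hX (v := v) (hΦ.symm ▸ hv.2.1)
  have hQ := fok_ht hU (fok_Q hU hX)
  obtain ⟨dw, hdw⟩ := exists_vec hU le_rfl (XS_mono (fun s hs => (hQ.pos s hs).2.1) hw :
    w ∈ XS chevE6 F (htGe chevE6 1))
  have hdd := hd.unique hU le_rfl ((vec_x6 ⟨hr0, hr1⟩ le_rfl c).mul hU le_rfl hdw)
  have hwr : dw p.X.r = 0 := by
    by_contra h
    exact (vec_in hU hQ le_rfl hw hdw h).2 rfl
  have hfix := T.fix _ hv.1
  have hdc : d p.X.r = c := by rw [hdd, Pi.add_apply, Pi.single_eq_same, hwr, add_zero]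
  have hcq : c ^ q = c := by
    have h := vec6_equiv T le_rfl hfix hd (r := p.X.r) hr72
    rw [hrho, hdc] at h
    exact h.symm
  have hc : c ≠ 0 := hdc ▸ hr
  obtain ⟨g, hgS, hgQ, z, hz, hzfix, he⟩ := fix_step T hX hfixB hc hcq hw hfix hv.2.2
  have hQS : p.X.Q chevE6 ⊆ sSet6 Φ := fun s hs => show inS chevE6 Φ s = true from hΦ ▸ hs.1
  have hKlt : ∀ k ∈ K, k < 72 := fun k hk => (hK k hk).1.1.1
  have hgA : Adm S K g := adm_xs hgS hKlt (fun k hk s hs => (hK k hk).2 s (mem_sList6.2 (hQS hs))) hgQ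
  have hzS : z ∈ S := mem6 T (XS_mono (fun s hs => (hQ.pos s hs.1).2.1) hz) hzfix
  have hZK : ∀ s, s ∈ p.X.Z chevE6 → chevE6.pairing p.X.r s = 0 ∧
      inS chevE6 p.Φ' (actW chevE6 p.bs.flatten s) = true := by
    intro s hs
    rcases hZ s (mem_sList6.2 (hQS hs.1)) with (h | h) | h
    · exact absurd h hs.1.2
    · exact absurd hs.2 h
    · exact h
  -- normalise the parameter
  obtain ⟨t, ht'⟩ := FiniteField.isSquare_of_char_two (F := F) (ringChar.eq F 2) c⁻¹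
  have ht0 : t ≠ 0 := by rintro rfl; simp [hc] at ht'
  have htq : t ^ q = t := by
    have h : (t ^ q + t) * (t ^ q + t) = 0 := by
      rw [CharTwo.add_mul_self, ← mul_pow, ← ht', inv_pow, hcq, CharTwo.add_self_eq_zero]
    exact CharTwo.add_eq_zero.1 (mul_self_eq_zero.1 h)
  set h := hg chevE6 F p.X.r t with hh
  have hhS : h ∈ S := T.torus _ hr72 hrho t ht0 htq
  have hscal : ∀ s, s < chevE6.nroots → ∀ u, h * x_ s u * h⁻¹ = x_ s (t ^ chevE6.pairing p.X.r s * u) :=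
    fun s hs u => hG.hg_conj_x hr0 hs ht0 u
  have hhK : h * w1 chevE6 F K * h⁻¹ = w1 chevE6 F K := by
    have := conj_wordG (D := chevE6) (F := F) h (fun a => [a]) (K.map fun k => (k, 1)) fun a ha => by
      obtain ⟨k, hk, rfl⟩ := List.mem_map.1 ha
      rw [hscal k (nroots_E6.symm ▸ hKlt k hk) 1]
      simp [(hKw k hk).2, wordG]
    simpa [w1] using this
  have hhz : h * z * h⁻¹ = z := by
    have hle : XS chevE6 F (p.X.Z chevE6) ≤ Subgroup.centralizer {h} := XS_le fun a u ha haZ => by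
      rw [Subgroup.mem_centralizer_singleton_iff]
      have := hscal a ha u
      rw [(hZK a haZ).1, zpow_zero, one_mul] at this
      exact (mul_inv_eq_iff_eq_mul.1 this).symm
    rw [← Subgroup.mem_centralizer_singleton_iff.1 (hle hz), mul_inv_cancel_right]
  have hhx : h * x_ p.X.r c * h⁻¹ = x_ p.X.r 1 := by
    rw [hscal _ hr0 c, hrr, zpow_two, ← ht', inv_mul_cancel₀ hc]
  set n := nw chevE6 F p.bs.flatten with hn
  have hw6 : ∀ i ∈ p.bs.flatten, i < chevE6.rank := fun i hi => rank_E6.symm ▸ flat_lt hbs i hi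
  have hcx : Commute (x_ p.X.r c) z := by
    have : XS chevE6 F (p.X.Z chevE6) ≤ Subgroup.centralizer {x_ p.X.r c} := XS_le fun a u ha haZ =>
      Subgroup.mem_centralizer_singleton_iff.2
        (xg_commute hC hr0 ha ((hX.q_ok a haZ.1).2.2.2.2 haZ.2) c u).symm.eq
    exact (Subgroup.mem_centralizer_singleton_iff.1 (this hz)).symm
  have hz2 : z * z = 1 := by
    have h1 : g * (x_ p.X.r c * w) * g⁻¹ * (g * (x_ p.X.r c * w) * g⁻¹) = 1 := by
      rw [show g * (x_ p.X.r c * w) * g⁻¹ * (g * (x_ p.X.r c * w) * g⁻¹) =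
        g * (x_ p.X.r c * w * (x_ p.X.r c * w)) * g⁻¹ by group, hv.2.2]
      group
    rw [he, hcx.symm.mul_mul_mul_comm, xx6, one_mul] at h1
    exact h1
  refine ⟨n * z * n⁻¹, ⟨mul_mem (mul_mem (word_mem6 T hbs) hzS) (inv_mem (word_mem6 T hbs)),
    nw_conj_mem hG hw6 (fun s _ hs => (hZK s hs).2) hz, ?_⟩, n * h * g, ?_, ?_⟩
  · rw [show n * z * n⁻¹ * (n * z * n⁻¹) = n * (z * z) * n⁻¹ by group, hz2]; group
  · exact mul_mem (mul_mem (word_mem6 T hbs) hhS) hgS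
  · have hKr : ∀ a ∈ K ++ [p.X.r], a < chevE6.nroots := fun a ha => by
      rcases List.mem_append.1 ha with ha | ha
      · exact nroots_E6.symm ▸ hKlt a ha
      · rw [List.mem_singleton.1 ha]; exact hr0
    have hmap : (K ++ [p.X.r]).map (actW chevE6 p.bs.flatten) = p.K' := by
      rw [hK', List.map_append, (List.map_congr_left fun k hk => (hKw k hk).1).trans (List.map_id _),
        List.map_singleton]
    calc n * h * g * (w1 chevE6 F K * (x_ p.X.r c * w)) * (n * h * g)⁻¹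
        = n * (h * ((g * w1 chevE6 F K * g⁻¹) * (g * (x_ p.X.r c * w) * g⁻¹)) * h⁻¹) * n⁻¹ := by group
      _ = n * (h * (w1 chevE6 F K * (x_ p.X.r c * z)) * h⁻¹) * n⁻¹ := by rw [hgA.2, he]
      _ = n * ((h * w1 chevE6 F K * h⁻¹) * ((h * x_ p.X.r c * h⁻¹) * (h * z * h⁻¹))) * n⁻¹ := by group
      _ = (n * w1 chevE6 F (K ++ [p.X.r]) * n⁻¹) * (n * z * n⁻¹) := by
          rw [hhK, hhx, hhz, w1_append, w1_cons, w1_nil, mul_one]; group
      _ = _ := by rw [hn, nw_conj_w1 hG hw6 _ hKr, hmap]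

omit [Finite F] in
lemma nil6 {v : GL chevE6.Idx F} (hv : Inv6 T phi4 v) : v = 1 :=
  Subgroup.mem_bot.1 (XS_le (P := ⊥) (fun s _ _ hs => absurd (mem_sList6.2 hs) (by rw [sList4_nil]; simp)) hv.2.1)

/-- The four roots are conjugate to three. -/
lemma four_cj : CjS S (w1 chevE6 F [71, 60, 44, 39]) (w1 chevE6 F [71, 60, 44]) := by
  have hC := uGoodE6.toCommGood
  have hG := hC.toGood
  obtain ⟨h1, h2⟩ := four_roots
  have e1 := congrArg (w1 chevE6 F) h1
  have e2 := congrArg (w1 chevE6 F) h2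
  rw [sortW_eq hC, sortW_eq hC, w1_append, w1_append] at e1
  rw [sortW_eq hC, sortW_eq hC] at e2
  have hroots : ∀ r ∈ ([53, 63, 51, 47] : List ℕ), r < 72 ∧ rho6 r = r ∧ 1 ≤ ht chevE6 r := by decide +kernel
  have hxS : ∀ r ∈ ([53, 63, 51, 47] : List ℕ), x_ r 1 ∈ S := fun r hr => by
    obtain ⟨a, b, c⟩ := hroots r hr
    refine mem6 T (xg_mem_XS (nroots_E6.symm ▸ a) (show (1 : ℤ) ≤ ht chevE6 r from c) _) ?_
    rw [T.sg_x r a, b, one_pow]
  set E := w1 chevE6 F [53, 63, 51, 47] with hE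
  have hES : E ∈ S := by
    simp only [E, w1_cons, w1_nil, mul_one]
    exact mul_mem (hxS _ (by simp)) (mul_mem (hxS _ (by simp)) (mul_mem (hxS _ (by simp)) (hxS _ (by simp))))
  have hEinv : w1 chevE6 F [47, 51, 63, 53] = E⁻¹ := by
    simp only [E, w1_cons, w1_nil, mul_one, mul_inv_rev, xinv6, mul_assoc]
  rw [hEinv] at e1
  have hbs : ∀ o ∈ ([[2, 4], [0, 5], [1], [3], [2, 4], [3], [1]] : List (List ℕ)), o ∈ orbs6 := by decide
  refine CjS.trans (b := w1 chevE6 F [39, 44, 60]) ⟨E, hES, e1⟩ ⟨_, word_mem6 T hbs, ?_⟩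
  rw [show ([[2, 4], [0, 5], [1], [3], [2, 4], [3], [1]] : List (List ℕ)).flatten = [2, 4, 0, 5, 1, 3, 2, 4, 3, 1]
    from rfl, nw_conj_w1 hG (fun i hi => rank_E6.symm ▸ (by revert i; decide : ∀ i ∈ _, i < 6) i hi) _
      (fun a ha => nroots_E6.symm ▸ (by revert a; decide : ∀ a ∈ _, a < 72) a ha), e2]

/-- Every involution is conjugate to one of the three representatives. -/
theorem exists_rep6 {g : GL chevE6.Idx F} (hgS : g ∈ S) (hg : orderOf g = 2) :
    ∃ L ∈ ([[71], [71, 60], [71, 60, 44]] : List (List ℕ)), CjS S g (w1 chevE6 F L) := by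
  obtain ⟨x, hx, hu⟩ := T.sylow g hgS hg
  set u := x * g * x⁻¹ with hu'
  have hcj : CjS S g u := ⟨x, hx, rfl⟩
  have hg2 : g * g = 1 := by rw [← pow_two, ← hg, pow_orderOf_eq_one]
  have hu1 : u ≠ 1 := fun h => by
    have : g = 1 := by simpa [hu'] using h
    simp [this] at hg
  have hv0 : Inv6 T [] u := ⟨hcj.mem hgS, by
    refine (XS_le fun r t hr h => ?_ : U6 F 1 ≤ XS chevE6 F (sSet6 [])) hu
    exact xg_mem_XS hr (show inS chevE6 [] r = true from inS_iff.2 ⟨hr, h, by simp⟩) t, hcj.sq hg2⟩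
  have h46 : ht chevE6 46 = 1 := (hts6.1 46 (by simp)).2
  have h39 : ht chevE6 39 = 1 := (hts6.1 39 (by simp)).2
  obtain ⟨a, ha, hv, d, hd, s, hs, hds⟩ := to_pivot6 T state0_ok mixes0 hv0 hu1
  have hc0 : ∃ z, Inv6 T phi1 z ∧ CjS S g (w1 chevE6 F [71] * z) := by
    have key : ∀ p : Piv6, pivB [] [] p = true → ht chevE6 p.X.r = 1 → d p.X.r ≠ 0 →
        ∃ z, Inv6 T p.Φ' z ∧ CjS S g (w1 chevE6 F p.K' * z) := by
      intro p hp hh hne
      obtain ⟨z, hz, hc⟩ := next6 T state0_ok hp hv hd hne hh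
      rw [w1_nil, one_mul] at hc
      exact ⟨z, hz, hcj.trans (CjS.trans ⟨a, ha.1, rfl⟩ hc)⟩
    simp only [List.mem_cons, List.not_mem_nil, or_false] at hs
    rcases hs with rfl | rfl
    · exact key piv0b piv0b_ok h46 hds
    · exact key piv0a piv0a_ok h39 hds
  obtain ⟨z, hz, hc1⟩ := hc0
  have only39 : ∀ {Φ : List (List ℤ)}, inS chevE6 Φ 46 = false → ∀ {K : List ℕ} {os : List (List ℕ)} {p : Piv6},
      stateB6 Φ K os = true → mixesB Φ K = true → pivB Φ K p = true → p.X.r = 39 → ∀ {v : GL chevE6.Idx F},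
      Inv6 T Φ v → v ≠ 1 → ∃ z, Inv6 T p.Φ' z ∧ CjS S (w1 chevE6 F K * v) (w1 chevE6 F p.K' * z) := by
    intro Φ h0 K os p hB hM hP hr v hv hv1
    obtain ⟨a, ha, hv', d, hd, s, hs, hds⟩ := to_pivot6 T hB hM hv hv1
    simp only [List.mem_cons, List.not_mem_nil, or_false] at hs
    rcases hs with rfl | rfl
    · exact absurd (vec_in uGoodE6 (fok_sSet uGoodE6 Φ) le_rfl hv'.2.1 hd hds)
        (by simp [RedData.sSet, h0])
    · obtain ⟨z, hz, hc⟩ := next6 T hB hP hv' hd (hr.symm ▸ hds) (hr.symm ▸ h39)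
      refine ⟨z, hz, CjS.trans ⟨a, ha.1, ?_⟩ hc⟩
      rw [show a * (w1 chevE6 F K * v) * a⁻¹ = (a * w1 chevE6 F K * a⁻¹) * (a * v * a⁻¹) by group, ha.2]
  by_cases hz1 : z = 1
  · exact ⟨[71], by simp, by rwa [hz1, mul_one] at hc1⟩
  obtain ⟨z2, hz2, hc2⟩ := only39 (by decide +kernel) state1_ok mixes1 piv1_ok rfl hz hz1
  by_cases hz21 : z2 = 1
  · exact ⟨[71, 60], by simp, hc1.trans (by rwa [hz21, mul_one] at hc2)⟩
  obtain ⟨z3, hz3, hc3⟩ := only39 (by decide +kernel) state2_ok mixes2 piv2_ok rfl hz2 hz21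
  by_cases hz31 : z3 = 1
  · exact ⟨[71, 60, 44], by simp, hc1.trans (hc2.trans (by rwa [hz31, mul_one] at hc3))⟩
  obtain ⟨z4, hz4, hc4⟩ := only39 (by decide +kernel) state3_ok mixes3 piv3_ok rfl hz3 hz31
  refine ⟨[71, 60, 44], by simp, hc1.trans (hc2.trans (hc3.trans (hc4.trans ?_)))⟩
  rw [nil6 T hz4, mul_one]
  exact four_cj T

end Cfsg.Agent.Chev54
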