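import Cfsg.Agent.Chev54.TwistE6Cert

/-!
Moving an involution of the twisted group of type E6 to one with a fixed simple root in its first layer.
-/

set_option autoImplicit false

namespace Cfsg.Agent.Chev54

open Cfsg.Lie Cfsg.Agent.ChevCore Cfsg.Agent.ChevGroup

variable {F : Type*} [Field F]

local notation "x_" => xg chevE6 F

/-- The roots of a subsystem. -/
abbrev sSet6 (Φ : List (List ℤ)) : Set ℕ := RedData.sSet chevE6 Φ

lemma mem_sList6 {Φ : List (List ℤ)} {s : ℕ} : s ∈ sList6 Φ ↔ s ∈ sSet6 Φ := by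
  simp only [sList6, List.mem_filter, List.mem_range, RedData.sSet, Set.mem_setOf_eq, and_iff_right_iff_imp]
  exact fun h => nroots_E6 ▸ (inS_iff.1 h).1

lemma sSet6_lt {Φ : List (List ℤ)} {s : ℕ} (h : s ∈ sSet6 Φ) : s < 72 ∧ 1 ≤ ht chevE6 s :=
  ⟨nroots_E6 ▸ (inS_iff.1 h).1, (inS_iff.1 h).2.1⟩

lemma sSet6_le_U (Φ : List (List ℤ)) : XS chevE6 F (sSet6 Φ) ≤ U6 F 1 :=
  XS_mono fun _ hs => (sSet6_lt hs).2

/-- An element of the twisted group fixing the product on the orthogonal roots. -/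
def Adm (S : Subgroup (GL chevE6.Idx F)) (K : List ℕ) (g : GL chevE6.Idx F) : Prop :=
  g ∈ S ∧ g * w1 chevE6 F K * g⁻¹ = w1 chevE6 F K

lemma Adm.mul {S : Subgroup (GL chevE6.Idx F)} {K : List ℕ} {g h : GL chevE6.Idx F} (hg : Adm S K g)
    (hh : Adm S K h) : Adm S K (g * h) :=
  ⟨mul_mem hg.1 hh.1, by
    rw [show g * h * w1 chevE6 F K * (g * h)⁻¹ = g * (h * w1 chevE6 F K * h⁻¹) * g⁻¹ by group, hh.2, hg.2]⟩

variable [CharP F 2]

lemma xx6 (r : ℕ) (t : F) : x_ r t * x_ r t = 1 := by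
  rw [← uGoodE6.toCommGood.toGood.xg_add, CharTwo.add_self_eq_zero, uGoodE6.toCommGood.toGood.xg_zero]

lemma xinv6 (r : ℕ) (t : F) : (x_ r t)⁻¹ = x_ r t := inv_eq_of_mul_eq_one_right (xx6 r t)

lemma one6_conj {r s T : ℕ} (h : one6 r s T = true) (t u : F) :
    x_ s u * x_ r t * (x_ s u)⁻¹ = x_ r t * x_ T (t * u) := by
  simp only [one6, Bool.and_eq_true, decide_eq_true_eq] at h
  obtain ⟨⟨⟨⟨⟨⟨hterms, hev⟩, hr⟩, hs⟩, hT⟩, h1⟩, h2⟩ := h
  rw [← nroots_E6] at hr hs hT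
  have hw : wordG chevE6 F (chevE6.commWord F r s t u) = x_ T (t * u) := by
    rw [ChevalleyDatum.commWord]
    obtain ⟨c, hc, hc'⟩ := List.map_eq_singleton_iff.1 hterms
    simp only [Prod.mk.injEq, decide_eq_false_iff_not] at hc'
    obtain ⟨e1, e2, e3, e4⟩ := hc'
    rw [hc, List.map_singleton, wordG, List.map_singleton, List.prod_singleton, cast_odd e2, e1, e3, e4,
      CharTwo.neg_eq, pow_one, pow_one, one_mul]
  rw [uGoodE6.toCommGood.xg_comm hr hs h1 h2 t u, hw, xinv6, mul_assoc _ (x_ T _),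
    ← (xg_commute uGoodE6.toCommGood hs hT hev u (t * u)).eq,
    show x_ r t * x_ s u * (x_ s u * x_ T (t * u)) = x_ r t * (x_ s u * x_ s u) * x_ T (t * u) by group,
    xx6, mul_one]

lemma comm6 {a b : ℕ} (h : (a, b) ∈ ([(42, 37), (42, 43), (42, 44), (37, 40), (37, 44), (39, 43), (39, 40),
    (39, 44), (43, 40), (43, 44), (40, 44), (56, 36), (56, 37), (36, 42), (57, 42), (57, 37), (57, 36), (38, 56),
    (38, 42), (38, 37), (57, 38)] : List (ℕ × ℕ))) (x y : F) : Commute (x_ a x) (x_ b y) := by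
  obtain ⟨h1, h2, h3⟩ := pairs35.2.2 (a, b) h
  exact xg_commute uGoodE6.toCommGood (nroots_E6.symm ▸ h1) (nroots_E6.symm ▸ h2) h3 x y

lemma adm_xs {S : Subgroup (GL chevE6.Idx F)} {K : List ℕ} {C : Set ℕ} {g : GL chevE6.Idx F} (hgS : g ∈ S)
    (hK : ∀ k ∈ K, k < 72) (hev : ∀ k ∈ K, ∀ s, s ∈ C → PairData.evB chevE6 k s = true)
    (hg : g ∈ XS chevE6 F C) : Adm S K g := by
  have : XS chevE6 F C ≤ Subgroup.centralizer {w1 chevE6 F K} := XS_le fun r t hr hrC => by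
    rw [Subgroup.mem_centralizer_singleton_iff]
    refine (Commute.list_prod_right _ _ fun z hz => ?_).eq
    simp only [List.map_map] at hz
    obtain ⟨k, hk, rfl⟩ := List.mem_map.1 hz
    exact (xg_commute uGoodE6.toCommGood (nroots_E6.symm ▸ hK k hk) hr (hev k hk r hrC) 1 t).symm
  exact ⟨hgS, by rw [Subgroup.mem_centralizer_singleton_iff.1 (this hg), mul_inv_cancel_right]⟩

lemma orb_lt {o : List ℕ} (ho : o ∈ orbs6) : ∀ i ∈ o, i < 6 := by
  revert o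
  decide

lemma flat_lt {bs : List (List ℕ)} (hbs : ∀ o ∈ bs, o ∈ orbs6) : ∀ i ∈ bs.flatten, i < 6 := fun i hi => by
  obtain ⟨o, ho, hio⟩ := List.mem_flatten.1 hi
  exact orb_lt (hbs o ho) i hio

variable {q : ℕ} {S : Subgroup (GL chevE6.Idx F)} {sg : GL chevE6.Idx F → GL chevE6.Idx F}
  (T : Tw6 F q S sg)
include T

omit [CharP F 2] in
lemma word_mem6 : ∀ {bs : List (List ℕ)}, (∀ o ∈ bs, o ∈ orbs6) → nw chevE6 F bs.flatten ∈ S
  | [], _ => by simp [nw]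
  | o :: bs, h => by
    rw [List.flatten_cons, show nw chevE6 F (o ++ bs.flatten) = nw chevE6 F o * nw chevE6 F bs.flatten by simp [nw]]
    exact mul_mem (T.weyl o (h o (List.mem_cons_self ..)))
      (word_mem6 fun o' ho' => h o' (List.mem_cons_of_mem _ ho'))

lemma adm_word {K : List ℕ} (hK : ∀ k ∈ K, k < 72) {bs : List (List ℕ)} (hbs : ∀ o ∈ bs, o ∈ orbs6)
    (hfix : ∀ k ∈ K, actW chevE6 bs.flatten k = k) : Adm S K (nw chevE6 F bs.flatten) := by
  refine ⟨word_mem6 T hbs, ?_⟩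
  rw [nw_conj_w1 uGoodE6.toCommGood.toGood (fun i hi => rank_E6.symm ▸ flat_lt hbs i hi) K
    (fun k hk => nroots_E6.symm ▸ hK k hk), (List.map_congr_left hfix).trans (List.map_id _)]

omit [CharP F 2] in
lemma mem6 {x : GL chevE6.Idx F} (hx : x ∈ U6 F 1) (h : sg x = x) : x ∈ S := T.full x hx h

omit [CharP F 2] in
lemma sg_pair {a b : ℕ} (ha : a < 72) (hab : rho6 a = b) (hc : ∀ x y : F, Commute (x_ a x) (x_ b y)) (t : F) :
    sg (x_ a t * x_ b (t ^ q)) = x_ a t * x_ b (t ^ q) := by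
  have hG := uGoodE6.toCommGood.toGood
  obtain ⟨h1, h2, -⟩ := rho6_facts a ha
  rw [T.sg_mul _ (hG.xg_mem_group _ _) _ (hG.xg_mem_group _ _), T.sg_x a ha, T.sg_x b (hab ▸ h1), hab,
    ← hab, h2, hab, T.per, (hc t (t ^ q)).eq]

/-- The parts of an element along a stable list. -/
theorem split_fixed {L : List ℕ} {os : List (List ℕ)} {Φ : List (List ℤ)} {K : List ℕ}
    (hB : mixB L os Φ K = true) {u : GL chevE6.Idx F} (huS : u ∈ S) (hu : u ∈ XS chevE6 F (sSet6 Φ))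
    (hu2 : u * u = 1) :
    ∃ a ∈ XS chevE6 F {s | s ∈ L}, ∃ b ∈ XS chevE6 F {s | s ∈ restL L Φ}, u = a * b ∧ a ∈ S ∧ a * a = 1 := by
  have hU := uGoodE6
  simp only [mixB, Bool.and_eq_true, List.all_eq_true, decide_eq_true_eq] at hB
  obtain ⟨⟨⟨⟨⟨hL, hR⟩, hn⟩, hcL⟩, hcR⟩, -⟩ := hB
  obtain ⟨a, ha, b, hb, rfl⟩ := split_lists hU hn (C := sSet6 Φ) (fun s _ hs => by
    by_cases h : s ∈ L
    · exact .inl h
    · exact .inr (List.mem_filter.2 ⟨mem_sList6.2 hs, by simp [h]⟩)) hu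
  have hdis : ∀ s ∈ {s | s ∈ L}, s ∉ {s | s ∈ restL L Φ} := fun s hs hs' => by
    simpa [show s ∈ L from hs] using (List.mem_filter.1 hs').2
  have haU : a ∈ U6 F 1 := XS_mono (fun s hs => (fok_list hU hcL).pos s hs |>.2.1) ha
  have hfa : sg a = a := by
    have h := T.fix _ huS
    rw [T.sg_mul _ (XS_le_group6 _ ha) _ (XS_le_group6 _ hb)] at h
    have h1 : a⁻¹ * sg a = b * (sg b)⁻¹ := by
      rw [eq_mul_inv_iff_mul_eq, mul_assoc, h, inv_mul_cancel_left]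
    have h2 := inter_disjoint hU (fok_list hU hcL) (fok_list hU hcR) hdis
      (mul_mem (inv_mem ha) (sg6_mem T (fun s _ hs => (hL s hs).1.2) ha))
      (h1 ▸ mul_mem hb (inv_mem (sg6_mem T (fun s _ hs => (hR s hs).1) hb)))
    exact (inv_mul_eq_one.1 h2).symm
  refine ⟨a, ha, b, hb, rfl, mem6 T haU hfa, ?_⟩
  have h2 : a * a = (a * b⁻¹ * a⁻¹) * (a * (a⁻¹ * b⁻¹ * a) * a⁻¹) := by
    rw [show a * a = (a * b⁻¹ * a⁻¹) * ((a * b) * (a * b)) * b⁻¹ * 1 * (1 : GL chevE6.Idx F) by group, hu2]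
    group
  refine inter_disjoint hU (fok_list hU hcL) (fok_list hU hcR) hdis (mul_mem ha ha) ?_
  rw [h2]
  refine mul_mem (lists_conj hU hn ha (inv_mem hb)) (lists_conj hU hn ha ?_)
  simpa using lists_conj hU hn (inv_mem ha) (inv_mem hb)

omit T in
/-- The first layer of a product along a split. -/
lemma split_vec {L R : List ℕ} (hcR : closB chevE6 R = true) (hdis : ∀ s ∈ L, s ∉ R) {a b : GL chevE6.Idx F}
    (hb : b ∈ XS chevE6 F {s | s ∈ R}) {d da : ℕ → F} (hd : Vec 1 (a * b) d) (hda : Vec 1 a da) {s : ℕ}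
    (hs : s ∈ L) : d s = da s := by
  have hU := uGoodE6
  obtain ⟨db, hdb⟩ := exists_vec hU le_rfl (XS_mono (fun r hr => (fok_list hU hcR).pos r hr |>.2.1) hb :
    b ∈ XS chevE6 F (htGe chevE6 1))
  have h0 : db s = 0 := by
    by_contra h
    exact hdis s hs (vec_in hU (fok_list hU hcR) le_rfl hb hdb h)
  rw [hd.unique hU le_rfl (hda.mul hU le_rfl hdb), Pi.add_apply, h0, add_zero]

variable [Finite F]

/-- From a coordinate on the inner pair to one on the middle root. -/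
theorem mix35 {Φ : List (List ℤ)} {K : List ℕ} (hK : ∀ k ∈ K, k < 72)
    (hB : mixB l35 [[3], [2, 4]] Φ K = true) {u : GL chevE6.Idx F} (huS : u ∈ S)
    (hu : u ∈ XS chevE6 F (sSet6 Φ)) (hu2 : u * u = 1) {d : ℕ → F} (hd : Vec 1 u d) (h39 : d 39 = 0)
    (h42 : d 42 ≠ 0) :
    ∃ g, Adm S K g ∧ g * u * g⁻¹ ∈ XS chevE6 F (sSet6 Φ) ∧ ∃ d', Vec 1 (g * u * g⁻¹) d' ∧ d' 39 ≠ 0 := by
  have hU := uGoodE6
  have hC := hU.toCommGood
  have hG := hC.toGood
  obtain ⟨a, ha, b, hb, rfl, haS, ha2⟩ := split_fixed T hB huS hu hu2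
  have hB' := hB
  simp only [mixB, Bool.and_eq_true, List.all_eq_true, decide_eq_true_eq] at hB'
  obtain ⟨⟨⟨⟨⟨hL, hR⟩, hn⟩, hcL⟩, hcR⟩, hos⟩ := hB'
  have hdis : ∀ s ∈ l35, s ∉ restL l35 Φ := fun s hs hs' => by
    simpa [hs] using (List.mem_filter.1 hs').2
  obtain ⟨h1, h2, h44, hhi, -⟩ := hts6
  have haU : a ∈ U6 F 1 := XS_mono (fun s hs => (fok_list hU hcL).pos s hs |>.2.1) ha
  obtain ⟨da, hda⟩ := exists_vec hU le_rfl haU
  set c := da 42 with hc'
  have hc : c ≠ 0 := by rw [hc', ← split_vec hcR hdis hb hd hda (by decide)]; exact h42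
  have e39 : da 39 = 0 := by rw [← split_vec hcR hdis hb hd hda (by decide)]; exact h39
  have hfa := T.fix _ haS
  have hq0 := T.pos.ne'
  have e37 : da 37 = c ^ q := vec6_equiv T le_rfl hfa hda (r := 42) (by norm_num)
  have hcommA : ∀ x y : F, Commute (x_ 42 x) (x_ 37 y) := fun x y => comm6 (by decide) x y
  set AB := x_ 42 c * x_ 37 (c ^ q) with hAB
  have hABL : AB ∈ XS chevE6 F {s | s ∈ l35} :=
    mul_mem (xg_mem_XS (h1 42 (by decide)).1 (show 42 ∈ {s | s ∈ l35} by decide) _)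
      (xg_mem_XS (h1 37 (by decide)).1 (show 37 ∈ {s | s ∈ l35} by decide) _)
  have hABfix : sg AB = AB := sg_pair T (by norm_num) rfl hcommA c
  have hABv : Vec 1 AB (Pi.single 42 c + Pi.single 37 (c ^ q)) :=
    (vec_x6 (h1 42 (by decide)) le_rfl _).mul hU le_rfl (vec_x6 (h1 37 (by decide)) le_rfl _)
  set h := AB⁻¹ * a with hh
  have hhL : h ∈ XS chevE6 F {s | s ∈ l35} := mul_mem (inv_mem hABL) ha
  have hh2 : h ∈ U6 F 2 := by
    refine mem_of_vec_zero6 (m := 1) ?_ (by norm_num)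
    convert (hABv.inv hU le_rfl).mul hU le_rfl hda using 1
    funext s
    by_cases hs : s ∈ ([42, 37] : List ℕ)
    · simp only [List.mem_cons, List.not_mem_nil, or_false] at hs
      rcases hs with rfl | rfl <;> simp [hc', e37]
    · have h0 : da s = 0 := by
        by_contra h0
        have hm : s ∈ l35 := vec_in hU (fok_list hU hcL) le_rfl ha hda h0
        have hht := (hda.1 s h0).2
        have key : ∀ s ∈ l35, ht chevE6 s = 1 → s ∈ ([42, 37, 39] : List ℕ) := by decide +kernel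
        have := key s hm hht
        simp only [List.mem_cons, List.not_mem_nil, or_false] at this hs
        rcases this with rfl | rfl | rfl
        · exact hs (Or.inl rfl)
        · exact hs (Or.inr rfl)
        · exact h0 e39
      simp only [List.mem_cons, List.not_mem_nil, or_false, not_or] at hs
      simp [h0, hs.1, hs.2]
  obtain ⟨d2, hd2⟩ := comm_form hU (C := cf {s | s ∈ l35} (ht chevE6) 2) (by decide) pairs35.1
    (fun a ha => by rw [nroots_E6]; revert a; decide) (fun s _ hs => hhi s hs.1 hs.2)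
    (mem_U_inter hU (fok_list hU hcL) (by norm_num) hhL hh2)
  set α := d2 43
  set α' := d2 40
  set β := d2 44
  have hh' : h = x_ 43 α * (x_ 40 α' * x_ 44 β) := by rw [hd2]; simp [prodL, α, α', β]
  have hhfix : sg h = h := by
    rw [hh, T.sg_mul _ (inv_mem (XS_le_group6 _ hABL)) _ (XS_le_group6 _ ha), sg6_inv T (XS_le_group6 _ hABL),
      hABfix, hfa]
  have hv2 : Vec 2 h (Pi.single 43 α + (Pi.single 40 α' + fun _ => 0)) := by
    rw [hh']
    exact (vec_x6 (h2 43 (by decide)) (by norm_num) _).mul hU (by norm_num)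
      ((vec_x6 (h2 40 (by decide)) (by norm_num) _).mul hU (by norm_num)
        (vec_of_next hU (xg_mem_XS h44.1 (show (2 : ℤ) + 1 ≤ ht chevE6 44 by rw [h44.2]; norm_num) _)))
  have eα : α' = α ^ q := by
    have := vec6_equiv T (by norm_num) hhfix hv2 (r := 43) (by norm_num)
    simpa [show rho6 43 = 40 from rfl] using this
  have ha_eq : a = AB * h := by rw [hh, mul_inv_cancel_left]
  obtain ⟨o43, o40, o42, o37, -, -⟩ := one6_terms
  have c4344 : ∀ x y : F, Commute (x_ 43 x) (x_ 44 y) := fun x y => comm6 (by decide) x y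
  have c4044 : ∀ x y : F, Commute (x_ 40 x) (x_ 44 y) := fun x y => comm6 (by decide) x y
  have c4340 : ∀ x y : F, Commute (x_ 43 x) (x_ 40 y) := fun x y => comm6 (by decide) x y
  have hconjAB : AB * h * AB⁻¹ = h * x_ 44 (α * c ^ q + α' * c) := by
    have eB : ∀ y : F, x_ 37 (c ^ q) * x_ 43 y * (x_ 37 (c ^ q))⁻¹ = x_ 43 y * x_ 44 (y * c ^ q) :=
      fun y => one6_conj o43 y _
    have eA : ∀ y : F, x_ 42 c * x_ 40 y * (x_ 42 c)⁻¹ = x_ 40 y * x_ 44 (y * c) := fun y => one6_conj o40 y _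
    have fA43 : ∀ y : F, x_ 42 c * x_ 43 y * (x_ 42 c)⁻¹ = x_ 43 y := fun y => by
      rw [(comm6 (by decide) c y).eq, mul_inv_cancel_right]
    have fA44 : ∀ y : F, x_ 42 c * x_ 44 y * (x_ 42 c)⁻¹ = x_ 44 y := fun y => by
      rw [(comm6 (by decide) c y).eq, mul_inv_cancel_right]
    have fB40 : ∀ y : F, x_ 37 (c ^ q) * x_ 40 y * (x_ 37 (c ^ q))⁻¹ = x_ 40 y := fun y => by
      rw [(comm6 (by decide) _ y).eq, mul_inv_cancel_right]
    have fB44 : ∀ y : F, x_ 37 (c ^ q) * x_ 44 y * (x_ 37 (c ^ q))⁻¹ = x_ 44 y := fun y => by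
      rw [(comm6 (by decide) _ y).eq, mul_inv_cancel_right]
    rw [hAB, hh']
    calc x_ 42 c * x_ 37 (c ^ q) * (x_ 43 α * (x_ 40 α' * x_ 44 β)) * (x_ 42 c * x_ 37 (c ^ q))⁻¹
        = x_ 42 c * ((x_ 37 (c ^ q) * x_ 43 α * (x_ 37 (c ^ q))⁻¹) * ((x_ 37 (c ^ q) * x_ 40 α' * (x_ 37 (c ^ q))⁻¹) *
            (x_ 37 (c ^ q) * x_ 44 β * (x_ 37 (c ^ q))⁻¹))) * (x_ 42 c)⁻¹ := by group
      _ = (x_ 42 c * x_ 43 α * (x_ 42 c)⁻¹) * ((x_ 42 c * x_ 44 (α * c ^ q) * (x_ 42 c)⁻¹) *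
            ((x_ 42 c * x_ 40 α' * (x_ 42 c)⁻¹) * (x_ 42 c * x_ 44 β * (x_ 42 c)⁻¹))) := by
          rw [eB, fB40, fB44]; group
      _ = x_ 43 α * (x_ 44 (α * c ^ q) * (x_ 40 α' * x_ 44 (α' * c) * x_ 44 β)) := by rw [fA43, fA44, eA, fA44]
      _ = x_ 43 α * (x_ 40 α' * (x_ 44 (α * c ^ q) * x_ 44 (α' * c) * x_ 44 β)) := by
          rw [mul_assoc (x_ 40 α'), ← mul_assoc (x_ 44 (α * c ^ q)), ← (c4044 α' _).eq]; group
      _ = _ := by
          rw [← hG.xg_add, ← hG.xg_add, mul_assoc, mul_assoc, ← hG.xg_add, add_comm β]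
  have hAB2 : AB * AB = 1 := by rw [hAB, (hcommA c (c ^ q)).symm.mul_mul_mul_comm, xx6, xx6, one_mul]
  have hh2' : h * h = 1 := by
    have hc1 : Commute (x_ 43 α) (x_ 40 α' * x_ 44 β) := (c4340 _ _).mul_right (c4344 _ _)
    rw [hh', hc1.symm.mul_mul_mul_comm, xx6, one_mul, (c4044 α' β).symm.mul_mul_mul_comm, xx6, xx6, one_mul]
  have hsum : α * c ^ q + α' * c = 0 := by
    set z := α * c ^ q + α' * c
    have hz : AB * h * (AB * h) = h * x_ 44 z * h := by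
      rw [← hconjAB, show AB * h * (AB * h) = AB * h * AB⁻¹ * (AB * AB) * h by group, hAB2, mul_one]
    have hch : Commute h (x_ 44 z) := by
      rw [hh']
      refine (c4344 _ _).mul_left ((c4044 _ _).mul_left ?_)
      show x_ 44 β * x_ 44 z = x_ 44 z * x_ 44 β
      rw [← hG.xg_add, ← hG.xg_add, add_comm]
    rw [← ha_eq, ha2, hch.eq, mul_assoc, hh2', mul_one] at hz
    exact (hG.x_eq_one_iff h44.1 z).1 (by rw [← hG.val_xg, ← hz, Units.val_one])
  set s := α / c with hs'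
  have hsq : s ^ q = s := by
    have e := CharTwo.add_eq_zero.1 hsum
    rw [eα] at e
    rw [hs', div_pow, div_eq_div_iff (pow_ne_zero _ hc) hc, ← e]
  have hcs : c * s = α := by rw [hs', mul_div_cancel₀ _ hc]
  have hc's : c ^ q * s = α' := by rw [eα, ← hcs, mul_pow, hsq]
  set y := x_ 39 s with hy
  have hyL : y ∈ XS chevE6 F {s | s ∈ l35} := xg_mem_XS (h1 39 (by decide)).1 (show 39 ∈ {s | s ∈ l35} by decide) _
  have hyS : y ∈ S := mem6 T (XS_mono (fun s hs => (fok_list hU hcL).pos s hs |>.2.1) hyL) (by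
    rw [hy, T.sg_x 39 (by norm_num), hsq, show rho6 39 = 39 from rfl])
  set b1 := α * c ^ q + β with hb1
  have hy1 : y * a * y⁻¹ = AB * x_ 44 b1 := by
    have fy : ∀ r : ℕ, r ∈ ([43, 40, 44] : List ℕ) → ∀ z : F, y * x_ r z * y⁻¹ = x_ r z := fun r hr z => by
      have : Commute (x_ 39 s) (x_ r z) := by
        simp only [List.mem_cons, List.not_mem_nil, or_false] at hr
        rcases hr with rfl | rfl | rfl <;> exact comm6 (by decide) s z
      rw [hy, this.eq, mul_inv_cancel_right]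
    have e1 : x_ 43 α * x_ 37 (c ^ q) = x_ 37 (c ^ q) * (x_ 43 α * x_ 44 (α * c ^ q)) := by
      rw [← one6_conj o43 α (c ^ q), xinv6, ← mul_assoc, ← mul_assoc, xx6, one_mul]
    set P := x_ 43 α * x_ 40 α' with hP
    have hP2 : P * P = 1 := by rw [hP, (c4340 α α').symm.mul_mul_mul_comm, xx6, xx6, one_mul]
    have hPc : Commute P (x_ 44 (α * c ^ q)) := (c4344 _ _).mul_left (c4044 _ _)
    rw [ha_eq, hAB, hh']
    calc y * (x_ 42 c * x_ 37 (c ^ q) * (x_ 43 α * (x_ 40 α' * x_ 44 β))) * y⁻¹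
        = (y * x_ 42 c * y⁻¹) * (y * x_ 37 (c ^ q) * y⁻¹) * ((y * x_ 43 α * y⁻¹) * ((y * x_ 40 α' * y⁻¹) *
            (y * x_ 44 β * y⁻¹))) := by group
      _ = x_ 42 c * x_ 43 α * (x_ 37 (c ^ q) * x_ 40 α') * (x_ 43 α * (x_ 40 α' * x_ 44 β)) := by
          rw [fy 43 (by decide), fy 40 (by decide), fy 44 (by decide), hy, one6_conj o42, one6_conj o37, hcs, hc's]
      _ = x_ 42 c * (x_ 43 α * x_ 37 (c ^ q)) * x_ 40 α' * (x_ 43 α * (x_ 40 α' * x_ 44 β)) := by group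
      _ = x_ 42 c * x_ 37 (c ^ q) * (x_ 43 α * (x_ 44 (α * c ^ q) * x_ 40 α') * P * x_ 44 β) := by
          rw [e1, hP]; group
      _ = x_ 42 c * x_ 37 (c ^ q) * (P * x_ 44 (α * c ^ q) * P * x_ 44 β) := by
          rw [← (c4044 α' (α * c ^ q)).eq, hP]; group
      _ = _ := by
          rw [hPc.eq, mul_assoc _ P P, hP2, mul_one, ← hG.xg_add, hb1]
  -- the middle step
  set n4 := nw chevE6 F ([[3]] : List (List ℕ)).flatten with hn4
  have hbs4 : ∀ o ∈ ([[3]] : List (List ℕ)), o ∈ orbs6 := by decide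
  have hbs35 : ∀ o ∈ ([[2, 4]] : List (List ℕ)), o ∈ orbs6 := by decide
  obtain ⟨hm4, hm35, -⟩ := moves6
  simp only [List.map_cons, List.map_nil, List.cons.injEq, and_true] at hm4 hm35
  obtain ⟨a42, a37, a43, a40, a44⟩ := hm4
  obtain ⟨b43, b40, b44⟩ := hm35
  have hw4 : ∀ i ∈ ([3] : List ℕ), i < 6 := by decide
  have hw35 : ∀ i ∈ ([2, 4] : List ℕ), i < 6 := by decide
  set u1 := x_ 43 c * x_ 40 (c ^ q) * x_ 44 b1 with hu1
  have he1 : n4 * (y * a * y⁻¹) * n4⁻¹ = u1 := by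
    rw [hy1, hAB, hn4, show ([[3]] : List (List ℕ)).flatten = [3] from rfl,
      show nw chevE6 F [3] * (x_ 42 c * x_ 37 (c ^ q) * x_ 44 b1) * (nw chevE6 F [3])⁻¹ =
        (nw chevE6 F [3] * x_ 42 c * (nw chevE6 F [3])⁻¹) * (nw chevE6 F [3] * x_ 37 (c ^ q) * (nw chevE6 F [3])⁻¹) *
          (nw chevE6 F [3] * x_ 44 b1 * (nw chevE6 F [3])⁻¹) by group,
      word_conj6 hw4 (by norm_num), word_conj6 hw4 (by norm_num), word_conj6 hw4 (by norm_num), a42, a37, a44]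
  have hu1S : u1 ∈ S := he1 ▸ mul_mem (mul_mem (word_mem6 T hbs4) (mul_mem (mul_mem hyS haS) (inv_mem hyS)))
    (inv_mem (word_mem6 T hbs4))
  have hb1q : b1 ^ q = b1 := by
    have h := T.fix _ hu1S
    rw [hu1, T.sg_mul _ (mul_mem (hG.xg_mem_group _ _) (hG.xg_mem_group _ _)) _ (hG.xg_mem_group _ _),
      sg_pair T (a := 43) (b := 40) (by norm_num) rfl (fun x y => c4340 x y) c, T.sg_x 44 (by norm_num),
      show rho6 44 = 44 from rfl] at h
    have h' := mul_left_cancel h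
    have h'' : x_ 44 (b1 ^ q + b1) = 1 := by rw [hG.xg_add, h', xx6]
    exact CharTwo.add_eq_zero.1 ((hG.x_eq_one_iff h44.1 _).1 (by rw [← hG.val_xg, h'', Units.val_one]))
  obtain ⟨θ, hθ⟩ := T.split
  set t := (θ * (b1 + 1) / c) ^ q with htdef
  have htq : t ^ q = θ * (b1 + 1) / c := by rw [htdef, T.per]
  have htsum : b1 + (c * t ^ q + c ^ q * t) = 1 := by
    rw [htq, mul_div_cancel₀ _ hc, htdef, div_pow, mul_div_cancel₀ _ (pow_ne_zero _ hc), mul_pow, T.add, hb1q,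
      one_pow, ← add_mul, hθ, one_mul, ← add_assoc, CharTwo.add_self_eq_zero, zero_add]
  set X := x_ 42 t * x_ 37 (t ^ q) with hX
  have hXL : X ∈ XS chevE6 F {s | s ∈ l35} :=
    mul_mem (xg_mem_XS (h1 42 (by decide)).1 (show 42 ∈ {s | s ∈ l35} by decide) _)
      (xg_mem_XS (h1 37 (by decide)).1 (show 37 ∈ {s | s ∈ l35} by decide) _)
  have hXS : X ∈ S := mem6 T (XS_mono (fun s hs => (fok_list hU hcL).pos s hs |>.2.1) hXL)
    (sg_pair T (by norm_num) rfl hcommA t)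
  set u2 := x_ 43 c * x_ 40 (c ^ q) * x_ 44 1 with hu2'
  have he2 : X * u1 * X⁻¹ = u2 := by
    have fA43 : x_ 42 t * x_ 43 c * (x_ 42 t)⁻¹ = x_ 43 c := by
      rw [(comm6 (by decide) t c).eq, mul_inv_cancel_right]
    have fA44 : ∀ y : F, x_ 42 t * x_ 44 y * (x_ 42 t)⁻¹ = x_ 44 y := fun y => by
      rw [(comm6 (by decide) t y).eq, mul_inv_cancel_right]
    have fB40 : x_ 37 (t ^ q) * x_ 40 (c ^ q) * (x_ 37 (t ^ q))⁻¹ = x_ 40 (c ^ q) := by
      rw [(comm6 (by decide) (t ^ q) (c ^ q)).eq, mul_inv_cancel_right]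
    have fB44 : ∀ y : F, x_ 37 (t ^ q) * x_ 44 y * (x_ 37 (t ^ q))⁻¹ = x_ 44 y := fun y => by
      rw [(comm6 (by decide) (t ^ q) y).eq, mul_inv_cancel_right]
    rw [hu1, hX]
    calc x_ 42 t * x_ 37 (t ^ q) * (x_ 43 c * x_ 40 (c ^ q) * x_ 44 b1) * (x_ 42 t * x_ 37 (t ^ q))⁻¹
        = x_ 42 t * ((x_ 37 (t ^ q) * x_ 43 c * (x_ 37 (t ^ q))⁻¹) * (x_ 37 (t ^ q) * x_ 40 (c ^ q) *
            (x_ 37 (t ^ q))⁻¹) * (x_ 37 (t ^ q) * x_ 44 b1 * (x_ 37 (t ^ q))⁻¹)) * (x_ 42 t)⁻¹ := by group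
      _ = (x_ 42 t * x_ 43 c * (x_ 42 t)⁻¹) * (x_ 42 t * x_ 44 (c * t ^ q) * (x_ 42 t)⁻¹) *
            (x_ 42 t * x_ 40 (c ^ q) * (x_ 42 t)⁻¹) * (x_ 42 t * x_ 44 b1 * (x_ 42 t)⁻¹) := by
          rw [one6_conj o43, fB40, fB44]; group
      _ = x_ 43 c * (x_ 44 (c * t ^ q) * x_ 40 (c ^ q)) * (x_ 44 (c ^ q * t) * x_ 44 b1) := by
          rw [fA43, fA44, fA44, one6_conj o40]; group
      _ = x_ 43 c * x_ 40 (c ^ q) * (x_ 44 (c * t ^ q) * (x_ 44 (c ^ q * t) * x_ 44 b1)) := by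
          rw [← (c4044 (c ^ q) (c * t ^ q)).eq]; group
      _ = _ := by
          rw [← hG.xg_add, ← hG.xg_add, hu2', ← add_assoc, add_comm _ b1, htsum]
  set n35 := nw chevE6 F ([[2, 4]] : List (List ℕ)).flatten with hn35
  set u3 := x_ 40 c * x_ 43 (c ^ q) * x_ 39 1 with hu3
  have he3 : n35 * u2 * n35⁻¹ = u3 := by
    rw [hu2', hn35, show ([[2, 4]] : List (List ℕ)).flatten = [2, 4] from rfl,
      show nw chevE6 F [2, 4] * (x_ 43 c * x_ 40 (c ^ q) * x_ 44 1) * (nw chevE6 F [2, 4])⁻¹ =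
        (nw chevE6 F [2, 4] * x_ 43 c * (nw chevE6 F [2, 4])⁻¹) *
          (nw chevE6 F [2, 4] * x_ 40 (c ^ q) * (nw chevE6 F [2, 4])⁻¹) *
          (nw chevE6 F [2, 4] * x_ 44 1 * (nw chevE6 F [2, 4])⁻¹) by group,
      word_conj6 hw35 (by norm_num), word_conj6 hw35 (by norm_num), word_conj6 hw35 (by norm_num), b43, b40, b44]
  set g := n35 * X * n4 * y with hg
  have hRstab : ∀ z ∈ XS chevE6 F {s | s ∈ restL l35 Φ}, g * z * g⁻¹ ∈ XS chevE6 F {s | s ∈ restL l35 Φ} := by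
    intro z hz
    have h4 : ∀ {w : GL chevE6.Idx F}, w ∈ XS chevE6 F {s | s ∈ restL l35 Φ} →
        n4 * w * n4⁻¹ ∈ XS chevE6 F {s | s ∈ restL l35 Φ} := fun hw =>
      nw_conj_mem hG (u := [3]) (fun i hi => rank_E6.symm ▸ hw4 i hi)
        (fun s _ hs => (hR s hs).2 [3] (by simp)) hw
    have h35 : ∀ {w : GL chevE6.Idx F}, w ∈ XS chevE6 F {s | s ∈ restL l35 Φ} →
        n35 * w * n35⁻¹ ∈ XS chevE6 F {s | s ∈ restL l35 Φ} := fun hw =>
      nw_conj_mem hG (u := [2, 4]) (fun i hi => rank_E6.symm ▸ hw35 i hi)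
        (fun s _ hs => (hR s hs).2 [2, 4] (by simp)) hw
    rw [show g * z * g⁻¹ = n35 * (X * (n4 * (y * z * y⁻¹) * n4⁻¹) * X⁻¹) * n35⁻¹ by rw [hg]; group]
    exact h35 (lists_conj hU hn hXL (h4 (lists_conj hU hn hyL hz)))
  have hadmL : ∀ {z : GL chevE6.Idx F}, z ∈ S → z ∈ XS chevE6 F {s | s ∈ l35} → Adm S K z := fun hzS hz =>
    adm_xs hzS hK (fun k hk s hs => (hL s hs).2 k hk) hz
  have hgA : Adm S K g := by
    refine (((adm_word T hK hbs35 fun k hk => ?_).mul (hadmL hXS hXL)).mul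
      (adm_word T hK hbs4 fun k hk => ?_)).mul (hadmL hyS hyL)
    · exact (hos [2, 4] (by simp)).2 k hk
    · exact (hos [3] (by simp)).2 k hk
  have hge : g * (a * b) * g⁻¹ = u3 * (g * b * g⁻¹) := by
    rw [← he3, ← he2, ← he1, hg]; group
  refine ⟨g, hgA, ?_, ?_⟩
  · rw [hge]
    have hsub : ({s | s ∈ restL l35 Φ} : Set ℕ) ⊆ sSet6 Φ := fun s hs => mem_sList6.1 (List.mem_filter.1 hs).1
    have hsubL : ∀ s ∈ l35, s ∈ sSet6 Φ := fun s hs => (hL s hs).1.1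
    exact mul_mem (mul_mem (mul_mem (xg_mem_XS (h2 40 (by decide)).1 (hsubL 40 (by decide)) _)
      (xg_mem_XS (h2 43 (by decide)).1 (hsubL 43 (by decide)) _))
      (xg_mem_XS (h1 39 (by decide)).1 (hsubL 39 (by decide)) _)) (XS_mono hsub (hRstab b hb))
  · rw [hge]
    have hv : Vec 1 u3 ((fun _ => 0) + Pi.single 39 1) := by
      rw [hu3]
      exact (vec_of_next hU (mul_mem (xg_mem_XS (h2 40 (by decide)).1
        (show (1 : ℤ) + 1 ≤ ht chevE6 40 by rw [(h2 40 (by decide)).2]; norm_num) _) (xg_mem_XS (h2 43 (by decide)).1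
        (show (1 : ℤ) + 1 ≤ ht chevE6 43 by rw [(h2 43 (by decide)).2]; norm_num) _))).mul hU le_rfl
          (vec_x6 (h1 39 (by decide)) le_rfl 1)
    obtain ⟨d', hd'⟩ := exists_vec hU le_rfl (mul_mem (hv.mem hU)
      (XS_mono (fun s hs => (fok_list hU hcR).pos s hs |>.2.1) (hRstab b hb) :
        g * b * g⁻¹ ∈ XS chevE6 F (htGe chevE6 1)))
    refine ⟨d', hd', ?_⟩
    rw [split_vec hcR hdis (hRstab b hb) hd' hv (s := 39) (by decide)]
    simp

/-- From a coordinate on the outer pair to one on the inner pair. -/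
theorem mix16 {Φ : List (List ℤ)} {K : List ℕ} (hK : ∀ k ∈ K, k < 72)
    (hB : mixB l16 [[0, 5], [2, 4]] Φ K = true) {u : GL chevE6.Idx F} (huS : u ∈ S)
    (hu : u ∈ XS chevE6 F (sSet6 Φ)) (hu2 : u * u = 1) {d : ℕ → F} (hd : Vec 1 u d) (h42 : d 42 = 0)
    (h56 : d 56 ≠ 0) :
    ∃ g, Adm S K g ∧ g * u * g⁻¹ ∈ XS chevE6 F (sSet6 Φ) ∧ ∃ d', Vec 1 (g * u * g⁻¹) d' ∧ d' 42 ≠ 0 := by
  have hU := uGoodE6
  have hC := hU.toCommGood
  have hG := hC.toGood
  obtain ⟨a, ha, b, hb, rfl, haS, -⟩ := split_fixed T hB huS hu hu2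
  have hB' := hB
  simp only [mixB, Bool.and_eq_true, List.all_eq_true, decide_eq_true_eq] at hB'
  obtain ⟨⟨⟨⟨⟨hL, hR⟩, hn⟩, hcL⟩, hcR⟩, hos⟩ := hB'
  have hdis : ∀ s ∈ l16, s ∉ restL l16 Φ := fun s hs hs' => by
    simpa [hs] using (List.mem_filter.1 hs').2
  obtain ⟨h1, h2, -, -, hhi⟩ := hts6
  have haU : a ∈ U6 F 1 := XS_mono (fun s hs => (fok_list hU hcL).pos s hs |>.2.1) ha
  obtain ⟨da, hda⟩ := exists_vec hU le_rfl haU
  have hfa := T.fix _ haS
  set c := da 56 with hc'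
  have hc : c ≠ 0 := by rw [hc', ← split_vec hcR hdis hb hd hda (by decide)]; exact h56
  have e42 : da 42 = 0 := by rw [← split_vec hcR hdis hb hd hda (by decide)]; exact h42
  have e36 : da 36 = c ^ q := vec6_equiv T le_rfl hfa hda (r := 56) (by norm_num)
  have e37 : da 37 = 0 := by
    have := vec6_equiv T le_rfl hfa hda (r := 42) (by norm_num)
    rwa [e42, zero_pow T.pos.ne'] at this
  have hcommA : ∀ x y : F, Commute (x_ 56 x) (x_ 36 y) := fun x y => comm6 (by decide) x y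
  set AB := x_ 56 c * x_ 36 (c ^ q) with hAB
  have hABL : AB ∈ XS chevE6 F {s | s ∈ l16} :=
    mul_mem (xg_mem_XS (h1 56 (by decide)).1 (show 56 ∈ {s | s ∈ l16} by decide) _)
      (xg_mem_XS (h1 36 (by decide)).1 (show 36 ∈ {s | s ∈ l16} by decide) _)
  have hABfix : sg AB = AB := sg_pair T (by norm_num) rfl hcommA c
  have hABv : Vec 1 AB (Pi.single 56 c + Pi.single 36 (c ^ q)) :=
    (vec_x6 (h1 56 (by decide)) le_rfl _).mul hU le_rfl (vec_x6 (h1 36 (by decide)) le_rfl _)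
  set h := AB⁻¹ * a with hh
  have hhL : h ∈ XS chevE6 F {s | s ∈ l16} := mul_mem (inv_mem hABL) ha
  have hh2 : h ∈ U6 F 2 := by
    refine mem_of_vec_zero6 (m := 1) ?_ (by norm_num)
    convert (hABv.inv hU le_rfl).mul hU le_rfl hda using 1
    funext s
    by_cases hs : s ∈ ([56, 36] : List ℕ)
    · simp only [List.mem_cons, List.not_mem_nil, or_false] at hs
      rcases hs with rfl | rfl <;> simp [hc', e36]
    · have h0 : da s = 0 := by
        by_contra h0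
        have hm : s ∈ l16 := vec_in hU (fok_list hU hcL) le_rfl ha hda h0
        have hht := (hda.1 s h0).2
        have key : ∀ s ∈ l16, ht chevE6 s = 1 → s ∈ ([56, 36, 42, 37] : List ℕ) := by decide +kernel
        have := key s hm hht
        simp only [List.mem_cons, List.not_mem_nil, or_false] at this hs
        rcases this with rfl | rfl | rfl | rfl
        · exact hs (Or.inl rfl)
        · exact hs (Or.inr rfl)
        · exact h0 e42
        · exact h0 e37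
      simp only [List.mem_cons, List.not_mem_nil, or_false, not_or] at hs
      simp [h0, hs.1, hs.2]
  obtain ⟨d2, hd2⟩ := comm_form hU (C := cf {s | s ∈ l16} (ht chevE6) 2) (by decide) pairs35.2.1
    (fun a ha => by rw [nroots_E6]; revert a; decide) (fun s _ hs => hhi s hs.1 hs.2)
    (mem_U_inter hU (fok_list hU hcL) (by norm_num) hhL hh2)
  set α := d2 57
  set α' := d2 38
  have hh' : h = x_ 57 α * x_ 38 α' := by rw [hd2]; simp [prodL, α, α']
  have hhfix : sg h = h := by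
    rw [hh, T.sg_mul _ (inv_mem (XS_le_group6 _ hABL)) _ (XS_le_group6 _ ha), sg6_inv T (XS_le_group6 _ hABL),
      hABfix, hfa]
  have hv2 : Vec 2 h (Pi.single 57 α + Pi.single 38 α') := by
    rw [hh']
    exact (vec_x6 (h2 57 (by decide)) (by norm_num) _).mul hU (by norm_num)
      (vec_x6 (h2 38 (by decide)) (by norm_num) _)
  have eα : α' = α ^ q := by
    have := vec6_equiv T (by norm_num) hhfix hv2 (r := 57) (by norm_num)
    simpa [show rho6 57 = 38 from rfl] using this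
  set s := α / c with hs'
  have hcs : c * s = α := by rw [hs', mul_div_cancel₀ _ hc]
  have hc's : c ^ q * s ^ q = α' := by rw [eα, ← hcs, mul_pow]
  set y := x_ 42 s * x_ 37 (s ^ q) with hy
  have hyL : y ∈ XS chevE6 F {s | s ∈ l16} :=
    mul_mem (xg_mem_XS (h1 42 (by decide)).1 (show 42 ∈ {s | s ∈ l16} by decide) _)
      (xg_mem_XS (h1 37 (by decide)).1 (show 37 ∈ {s | s ∈ l16} by decide) _)
  have hyS : y ∈ S := mem6 T (XS_mono (fun s hs => (fok_list hU hcL).pos s hs |>.2.1) hyL)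
    (sg_pair T (by norm_num) rfl (fun x y => comm6 (by decide) x y) s)
  obtain ⟨-, -, -, -, o42, o37⟩ := one6_terms
  have hy1 : y * a * y⁻¹ = AB := by
    have f42 : ∀ {r : ℕ}, (r, 42) ∈ ([(36, 42), (57, 42), (38, 42)] : List (ℕ × ℕ)) → ∀ z : F,
        x_ 42 s * x_ r z * (x_ 42 s)⁻¹ = x_ r z := fun {r} hr z => by
      have : Commute (x_ r z) (x_ 42 s) := by
        simp only [List.mem_cons, Prod.mk.injEq, List.not_mem_nil, or_false, and_true] at hr
        rcases hr with rfl | rfl | rfl <;> exact comm6 (by decide) z s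
      rw [← this.eq, mul_inv_cancel_right]
    have f56 : ∀ z : F, x_ 37 (s ^ q) * x_ 56 z * (x_ 37 (s ^ q))⁻¹ = x_ 56 z := fun z => by
      rw [← (comm6 (by decide) z (s ^ q)).eq, mul_inv_cancel_right]
    have f57 : ∀ z : F, x_ 37 (s ^ q) * x_ 57 z * (x_ 37 (s ^ q))⁻¹ = x_ 57 z := fun z => by
      rw [← (comm6 (by decide) z (s ^ q)).eq, mul_inv_cancel_right]
    have f38 : ∀ z : F, x_ 37 (s ^ q) * x_ 38 z * (x_ 37 (s ^ q))⁻¹ = x_ 38 z := fun z => by
      rw [← (comm6 (by decide) z (s ^ q)).eq, mul_inv_cancel_right]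
    have ha_eq : a = AB * h := by rw [hh, mul_inv_cancel_left]
    rw [ha_eq, hy, hAB, hh']
    calc x_ 42 s * x_ 37 (s ^ q) * (x_ 56 c * x_ 36 (c ^ q) * (x_ 57 α * x_ 38 α')) *
          (x_ 42 s * x_ 37 (s ^ q))⁻¹
        = x_ 42 s * ((x_ 37 (s ^ q) * x_ 56 c * (x_ 37 (s ^ q))⁻¹) * (x_ 37 (s ^ q) * x_ 36 (c ^ q) *
            (x_ 37 (s ^ q))⁻¹) * ((x_ 37 (s ^ q) * x_ 57 α * (x_ 37 (s ^ q))⁻¹) *
              (x_ 37 (s ^ q) * x_ 38 α' * (x_ 37 (s ^ q))⁻¹))) * (x_ 42 s)⁻¹ := by group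
      _ = (x_ 42 s * x_ 56 c * (x_ 42 s)⁻¹) * ((x_ 42 s * x_ 36 (c ^ q) * (x_ 42 s)⁻¹) *
            (x_ 42 s * x_ 38 α' * (x_ 42 s)⁻¹)) * ((x_ 42 s * x_ 57 α * (x_ 42 s)⁻¹) *
              (x_ 42 s * x_ 38 α' * (x_ 42 s)⁻¹)) := by
          rw [f56, one6_conj o37, f57, f38, hc's]; group
      _ = x_ 56 c * (x_ 57 α * x_ 36 (c ^ q)) * x_ 38 α' * (x_ 57 α * x_ 38 α') := by
          rw [one6_conj o42, hcs, f42 (by decide), f42 (by decide), f42 (by decide)]; group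
      _ = x_ 56 c * x_ 36 (c ^ q) * ((x_ 57 α * x_ 38 α') * (x_ 57 α * x_ 38 α')) := by
          rw [(comm6 (by decide) α (c ^ q)).eq]; group
      _ = _ := by
          rw [(comm6 (show (57, 38) ∈ _ by decide) α α').symm.mul_mul_mul_comm, xx6, xx6, one_mul, mul_one]
  set w := ([[0, 5], [2, 4]] : List (List ℕ)) with hw
  have hbs : ∀ o ∈ w, o ∈ orbs6 := by decide
  have hw6 : ∀ i ∈ ([0, 5, 2, 4] : List ℕ), i < 6 := by decide
  obtain ⟨-, -, hm⟩ := moves6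
  simp only [List.map_cons, List.map_nil, List.cons.injEq, and_true] at hm
  obtain ⟨m56, m36⟩ := hm
  set n := nw chevE6 F w.flatten with hn'
  have he : n * AB * n⁻¹ = x_ 42 c * x_ 37 (c ^ q) := by
    rw [hn', show w.flatten = [0, 5, 2, 4] from rfl, hAB, show nw chevE6 F [0, 5, 2, 4] * (x_ 56 c * x_ 36 (c ^ q)) *
        (nw chevE6 F [0, 5, 2, 4])⁻¹ = (nw chevE6 F [0, 5, 2, 4] * x_ 56 c * (nw chevE6 F [0, 5, 2, 4])⁻¹) *
          (nw chevE6 F [0, 5, 2, 4] * x_ 36 (c ^ q) * (nw chevE6 F [0, 5, 2, 4])⁻¹) by group,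
      word_conj6 hw6 (by norm_num), word_conj6 hw6 (by norm_num), m56, m36]
  set g := n * y with hg
  have hRstab : ∀ z ∈ XS chevE6 F {s | s ∈ restL l16 Φ}, g * z * g⁻¹ ∈ XS chevE6 F {s | s ∈ restL l16 Φ} := by
    intro z hz
    rw [show g * z * g⁻¹ = n * (y * z * y⁻¹) * n⁻¹ by rw [hg]; group]
    refine nw_conj_mem hG (u := w.flatten) (fun i hi => rank_E6.symm ▸ hw6 i hi) (fun s _ hs => ?_)
      (lists_conj hU hn hyL hz)
    exact (hR _ ((hR s hs).2 [2, 4] (by simp [w]))).2 [0, 5] (by simp [w])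
  have hgA : Adm S K g := by
    refine (adm_word T hK hbs fun k hk => ?_).mul (adm_xs hyS hK (fun k hk s hs => (hL s hs).2 k hk) hyL)
    show actW chevE6 [0, 5] (actW chevE6 [2, 4] k) = k
    rw [(hos [2, 4] (by simp [w])).2 k hk, (hos [0, 5] (by simp [w])).2 k hk]
  have hge : g * (a * b) * g⁻¹ = (x_ 42 c * x_ 37 (c ^ q)) * (g * b * g⁻¹) := by
    rw [← he, ← hy1, hg]; group
  refine ⟨g, hgA, ?_, ?_⟩
  · rw [hge]
    have hsub : ({s | s ∈ restL l16 Φ} : Set ℕ) ⊆ sSet6 Φ := fun s hs => mem_sList6.1 (List.mem_filter.1 hs).1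
    have hsubL : ∀ s ∈ l16, s ∈ sSet6 Φ := fun s hs => (hL s hs).1.1
    exact mul_mem (mul_mem (xg_mem_XS (h1 42 (by decide)).1 (hsubL 42 (by decide)) _)
      (xg_mem_XS (h1 37 (by decide)).1 (hsubL 37 (by decide)) _)) (XS_mono hsub (hRstab b hb))
  · rw [hge]
    have hv : Vec 1 (x_ 42 c * x_ 37 (c ^ q)) (Pi.single 42 c + Pi.single 37 (c ^ q)) :=
      (vec_x6 (h1 42 (by decide)) le_rfl _).mul hU le_rfl (vec_x6 (h1 37 (by decide)) le_rfl _)
    obtain ⟨d', hd'⟩ := exists_vec hU le_rfl (mul_mem (hv.mem hU)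
      (XS_mono (fun s hs => (fok_list hU hcR).pos s hs |>.2.1) (hRstab b hb) :
        g * b * g⁻¹ ∈ XS chevE6 F (htGe chevE6 1)))
    refine ⟨d', hd', ?_⟩
    rw [split_vec hcR hdis (hRstab b hb) hd' hv (s := 42) (by decide)]
    simpa using hc

end Cfsg.Agent.Chev54
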