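import Cfsg.Agent.Chev54.FullG2
import Cfsg.Agent.Lib.ChevCore.Parabolic

/-!
A weakly closed subgroup of `U` is the unipotent radical of a standard parabolic subgroup.
-/

set_option autoImplicit false

namespace Cfsg.Agent.Chev54

open Cfsg.Lie Cfsg.Agent.ChevCore

variable {D : ChevalleyDatum} {F : Type*} [Field F] [Fintype F] {X : Subgroup (GL D.Idx F)}

theorem full_of_normed (P : SepPack D) (hX : Normed X) (h2 : Fintype.card F ≠ 2)
    (h3 : D ∈ [chevG2, chevB2, chevD4, chevF4] → Fintype.card F ≠ 3) : Full X := by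
  have hc := Fintype.one_lt_card (α := F)
  by_cases hG2 : P.kmax = 3 ∧ Fintype.card F = 4
  · obtain rfl : D = chevG2 := by
      rcases P.three with h | h
      · exact absurd hG2.1 (by omega)
      · exact h.2
    exact full_G2 hX hG2.2 P
  intro r hr hr1 x hx d hd hdr
  suffices hsep : ∀ s, s < D.nroots → ht D r ≤ ht D s → s ≠ r → Sep F D r s by
    obtain ⟨t, ht0, h⟩ := exists_xg P.hU hX hr hr1 (fun s hs hs1 hne => .inl (hsep s hs hs1 hne)) hx hd hdr
    exact inT_of_xg P.hU hX hr hr1 (P.exists_span hr hr1) ht0 h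
  intro s hs hs1 hne
  obtain ⟨p, hp, h0, hk1, hk2⟩ := P.exists_pair hr hr1 hs (by omega) hne
  refine P.sep_of_pair hp h0 fun hd => ?_
  have h5 := Nat.le_of_dvd (by omega) hd
  rcases P.small with h | h
  · omega
  · have := h3 h
    rcases P.three with h' | ⟨h', -⟩
    · omega
    · have h4 : Fintype.card F ≠ 4 := fun e => hG2 ⟨h', e⟩
      omega

/-- The roots of a weakly closed subgroup are closed under commutators. -/
theorem inT_of_supp (P : SepPack D) (hX : Normed X) (hF : Full X) {j : ℕ} (hj : j < D.rank)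
    (hjT : InT X (D.simple j)) :
    ∀ (n : ℕ) (r : ℕ), r < D.nroots → 1 ≤ ht D r → (ht D r).toNat ≤ n → coef D r j ≠ 0 → InT X r := by
  have hG := P.hU.toCommGood.toGood
  intro n
  induction n with
  | zero => intro r _ hr1 hn; omega
  | succ n ih =>
    intro r hr hr1 hn hcoef
    by_cases hns : ∃ i < D.rank, D.simple i = r
    · obtain ⟨i, hi, rfl⟩ := hns
      rw [hG.coef_simple hi hj] at hcoef
      obtain rfl : j = i := by by_contra h; simp [h] at hcoef
      exact hjT
    push_neg at hns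
    obtain ⟨p, hp⟩ := CharP.exists F
    have : Fact p.Prime := ⟨CharP.char_is_prime F p⟩
    obtain ⟨a, b, ha, hb, hne, ha1, hb1, hc, hone, hnz, hht⟩ := P.exists_wit (F := F) p hr hr1 hns
    have hterm : ∀ e ∈ D.commTerms a b, e.1 < D.nroots ∧ (1 : ℤ) ≤ e.2.2.1 ∧ (1 : ℤ) ≤ e.2.2.2 ∧
        coef D e.1 j = e.2.2.1 * coef D a j + e.2.2.2 * coef D b j ∧
        ht D e.1 = e.2.2.1 * ht D a + e.2.2.2 * ht D b := fun e he => by
      rw [← commW_std (D := D) a b] at he
      obtain ⟨h0, h1, h2, h4⟩ := hG.commTerms_coef ha hb he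
      exact ⟨h0, by exact_mod_cast h1, by exact_mod_cast h2, h4 j hj, hG.commTerms_ht ha hb he⟩
    obtain ⟨e0, he0, rfl⟩ := List.mem_map.1 hc
    obtain ⟨-, hi1, hk1, hcoef0, hht0⟩ := hterm e0 he0
    have hlt : (ht D a).toNat ≤ n ∧ (ht D b).toNat ≤ n := by
      have h1 : ht D a ≤ e0.2.2.1 * ht D a := le_mul_of_one_le_left (by omega) hi1
      have h2 : ht D b ≤ e0.2.2.2 * ht D b := le_mul_of_one_le_left (by omega) hk1
      omega
    have haT : InT X a ∨ InT X b := by
      by_cases h : coef D a j = 0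
      · refine .inr (ih b hb hb1 hlt.2 fun h' => hcoef ?_)
        rw [hcoef0, h, h']; ring
      · exact .inl (ih a ha ha1 hlt.1 h)
    obtain ⟨y, hy, d, hd, hdr⟩ := word_vec P.hU hX (t := (1 : F)) (u := (1 : F)) ha hb ha1 hb1 hne
      (haT.imp (fun h => h.2.2 _) fun h => h.2.2 _) (c := e0.1) (List.mem_map.2 ⟨e0, he0, rfl⟩)
      (fun e he hlt => by
        obtain ⟨he1, hei, hek, hec, -⟩ := hterm e he
        obtain ⟨-, hpos⟩ := terms_pos P.hU ha hb ha1 hb1 he
        refine .inl (ih e.1 he1 hpos (by omega) ?_)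
        have h1 := hG.coef_nonneg ha (by omega) hj
        have h2 := hG.coef_nonneg hb (by omega) hj
        rcases eq_or_lt_of_le h1 with h | h
        · have h' : coef D b j ≠ 0 := fun h' => hcoef (by rw [hcoef0, ← h, h']; ring)
          have : 0 < coef D b j := lt_of_le_of_ne h2 (Ne.symm h')
          nlinarith
        · nlinarith)
      (fun e he he' => by
        refine mul_ne_zero (mul_ne_zero (hnz e he he') ?_) (pow_ne_zero _ one_ne_zero)
        exact pow_ne_zero _ (neg_ne_zero.2 one_ne_zero))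
      hone
    exact hF _ hr hr1 y hy d hd hdr

/-- A subgroup of `U` all of whose conjugates inside `U` equal it is a unipotent radical. -/
theorem weakly_closed_eq (P : SepPack D) (hs : chkSupp D = true)
    (h2 : Fintype.card F ≠ 2) (h3 : D ∈ [chevG2, chevB2, chevD4, chevF4] → Fintype.card F ≠ 3)
    (hXU : X ≤ D.posUnipotent F)
    (hwc : ∀ g ∈ D.group F, X.map (MulAut.conj g).toMonoidHom ≤ D.posUnipotent F →
      X.map (MulAut.conj g).toMonoidHom = X) :
    ∃ J : Set ℕ, (∀ j ∈ J, j < D.rank) ∧ X = D.unipotentRadical F J := by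
  have hG := P.hU.toCommGood.toGood
  rw [hG.posUnipotent_eq] at hXU hwc
  have hgrp : ∀ S : Set ℕ, XS D F S ≤ D.group F := fun S => by
    rw [hG.group_eq]; exact XS_mono (Set.subset_univ _)
  have hconj : ∀ g ∈ D.group F, (∀ x ∈ X, g * x * g⁻¹ ∈ XS D F (htGe D 1)) →
      ∀ x ∈ X, g * x * g⁻¹ ∈ X := by
    intro g hg hle x hx
    have := hwc g hg (by rintro _ ⟨y, hy, rfl⟩; exact hle y hy)
    exact this ▸ ⟨x, hx, rfl⟩
  have hH : D.diagonalSubgroup F ≤ D.group F := by
    rw [hG.diagonalSubgroup_eq, Subgroup.closure_le]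
    rintro _ ⟨r, c, -, -, rfl⟩
    exact hG.hg_mem_group r c
  have hX : Normed X :=
    { le := hXU
      conjH := fun h hh => hconj h (hH hh) fun x hx =>
        (Subgroup.mem_normalizer_iff.1 (hG.H_le_normalizer_XS _ hh) _).1 (hXU hx)
      conjU := fun u hu => hconj u (hgrp _ hu) fun x hx => mul_mem (mul_mem hu (hXU hx)) (inv_mem hu) }
  have hF := full_of_normed P hX h2 h3
  have hXT := eq_XS_inT P.hU hX hF
  let J : Set ℕ := {j | j < D.rank ∧ ¬ InT X (D.simple j)}
  refine ⟨J, fun j hj => hj.1, ?_⟩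
  rw [hG.unipotentRadical_eq hs]
  -- `X` is stable under the reflections of `J`
  have hrefl : ∀ i ∈ J, ∀ s, InT X s → InT X (D.reflectRoot i s) := by
    rintro i ⟨hi, hiT⟩ s hsT
    have hpos : ∀ s, InT X s → 1 ≤ ht D (D.reflectRoot i s) := fun s hs => by
      have := hG.refl_pos hi hs.1 (by have := hs.2.1; omega) fun e => hiT (e ▸ hs)
      omega
    have hn := hconj (ng D F (D.simple i) 1) (hG.ng_mem_group _ _) fun x hx => by
      rw [hXT] at hx
      clear hsT
      induction hx using Subgroup.closure_induction with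
      | mem y hy =>
        obtain ⟨r, t, hr, hrT, rfl⟩ := hy
        rw [hG.ng_conj_x hi hr]
        exact xg_mem_XS (hG.refl_lt hi hr) (hpos r hrT) _
      | one => simp
      | mul u v _ _ hu hv => convert mul_mem hu hv using 1; group
      | inv u _ hu => convert inv_mem hu using 1; group
    refine ⟨hG.refl_lt hi hsT.1, hpos s hsT, fun t => ?_⟩
    have he : ((eta D i s : ℤ) : F) ≠ 0 := fun h0 => by
      have h := hG.ng_conj_x (F := F) hi hsT.1 1
      rw [h0, zero_mul, hG.xg_zero] at h
      have h' : xg D F s (1 : F) = xg D F s 0 := by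
        rw [hG.xg_zero]
        rw [mul_inv_eq_one, mul_eq_left] at h
        exact h
      exact one_ne_zero (hG.xg_injective hsT.1 h')
    have := hn _ (hsT.2.2 (t / ((eta D i s : ℤ) : F)))
    rwa [hG.ng_conj_x hi hsT.1, mul_div_cancel₀ _ he] at this
  refine le_antisymm ?_ ?_
  · intro x hx
    rw [hXT] at hx
    refine XS_mono (fun r (hrT : InT X r) => show r ∈ radJ D J from ⟨hrT.2.1, fun hsub => ?_⟩) hx
    suffices H : ∀ (n : ℕ) (r : ℕ), InT X r → r ∈ subJ D J → (ht D r).toNat ≤ n → False from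
      H _ r hrT hsub le_rfl
    intro n
    induction n with
    | zero => intro r hr _ hn; have := hr.2.1; omega
    | succ n ih =>
      intro r hr hsub hn
      by_cases hns : ∃ i < D.rank, D.simple i = r
      · obtain ⟨i, hi, rfl⟩ := hns
        by_cases hiJ : i ∈ J
        · exact hiJ.2 hr
        · have := hsub i hi hiJ
          rw [hG.coef_simple hi hi, if_pos rfl] at this
          exact one_ne_zero this
      push_neg at hns
      obtain ⟨i, hi, hci, hp, hlt⟩ := P.exists_desc hr.1 hr.2.1 hns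
      have hiJ : i ∈ J := by_contra fun h => hci (hsub i hi h)
      refine ih _ (hrefl i hiJ r hr) (fun k hk hkJ => ?_) (by omega)
      rw [hG.coef_refl hi hr.1 hk, hsub k hk hkJ, if_neg fun e : k = i => hkJ (e ▸ hiJ), sub_zero]
  · refine XS_le fun r t hr hrad => ?_
    obtain ⟨h1, h2⟩ := hrad
    simp only [subJ, Set.mem_setOf_eq, not_forall] at h2
    obtain ⟨j, hj, hjJ, hc⟩ := h2
    have hjT : InT X (D.simple j) := by_contra fun h => hjJ ⟨hj, h⟩
    exact (inT_of_supp P hX hF hj hjT _ r hr h1 le_rfl hc).2.2 t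

end Cfsg.Agent.Chev54
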